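import Cfsg.Agent.Lib.BSW.Setup
import Cfsg.Agent.Lib.Char.Artin
import Cfsg.Agent.Lib.Char.Counting
import Cfsg.Agent.Lib.Char.TI
import Cfsg.Agent.Lib.Char.Central

/-!
# The differences `1 - λ` induced from `K`

For a linear character `λ` of `K` the generalized character `(1 - λ)^G` is known on all of `G`; its
coefficients are integers whose Gram matrix, degree sum and weighted sum at `t` are determined.
-/

set_option autoImplicit false
set_option linter.unusedSectionVars false

open scoped Classical

namespace CfsgLib.BSW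

open Cfsg CfsgLib.Char
open scoped ComplexConjugate

/-- The trivial irreducible character. -/
noncomputable def triv (G : Type*) [Group G] [Finite G] : IrrCharacter G :=
  ⟨fun g => ((1 : G →* ℂˣ) g : ℂ), isIrrCharacter_monoidHom 1⟩

theorem triv_apply {G : Type*} [Group G] [Finite G] (g : G) : (triv G : G → ℂ) g = 1 := by
  simp [triv]

variable {G : Type*} [Group G] [Fintype G] (K : Subgroup G)

/-- The generalized character `(1 - λ)^G`. -/
noncomputable def diff (l : IrrCharacter K) : G → ℂ :=
  indFun K ((triv K : K → ℂ) - (l : K → ℂ))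

theorem isGeneralized_diff (l : IrrCharacter K) : IsGeneralizedCharacter G (diff K l) :=
  isGeneralized_indFun K (isGeneralized_sub (isGeneralized_of_isIrr (triv K).2)
    (isGeneralized_of_isIrr l.2))

/-- The coefficient of `χ` in `(1 - λ)^G`. -/
noncomputable def coeff (l : IrrCharacter K) (χ : IrrCharacter G) : ℤ :=
  (exists_int_classInner (isGeneralized_diff K l) (isGeneralized_of_isIrr χ.2)).choose

theorem coeff_spec (l : IrrCharacter K) (χ : IrrCharacter G) :
    classInner (diff K l) (χ : G → ℂ) = (coeff K l χ : ℂ) :=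
  (exists_int_classInner (isGeneralized_diff K l) (isGeneralized_of_isIrr χ.2)).choose_spec

theorem diff_expansion (l : IrrCharacter K) :
    diff K l = ∑ χ : IrrCharacter G, (coeff K l χ : ℂ) • (χ : G → ℂ) := by
  conv_lhs => rw [classFunction_expansion (f := diff K l) (isClassFunction_indFun K _)]
  exact Finset.sum_congr rfl fun χ _ => by rw [coeff_spec]

theorem indFun_eq_zero {f : K → ℂ} (h1 : f 1 = 0) {y : G}
    (hy : ∀ g : G, g * y * g⁻¹ ∈ K → y = 1) : indFun K f y = 0 := by
  have : ∀ x : G, extendByZero K f (x⁻¹ * y * x) = 0 := fun x => by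
    by_cases hx : x⁻¹ * y * x ∈ K
    · have e := hy x⁻¹ (by rwa [inv_inv])
      rw [extendByZero_mem K f hx]
      convert h1
      simp [e]
    · exact extendByZero_notMem K f hx
  simp [indFun, this]

variable {K} {t s : G}

theorem Setting.degree_one (h : Setting t K s) (l : IrrCharacter K) : (l : K → ℂ) 1 = 1 :=
  degree_one_of_comm (fun a b => Subtype.ext (h.comm a a.2 b b.2)) l

theorem Setting.lin_mul (h : Setting t K s) (l : IrrCharacter K) (a b : K) :
    (l : K → ℂ) (a * b) = (l : K → ℂ) a * (l : K → ℂ) b :=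
  linear_mul (isCharacter_of_isIrr l.2) (h.degree_one l) a b

/-- Values of a function induced from `K` at a nontrivial element of `K`. -/
theorem Setting.indFun_mem (h : Setting t K s) {f : K → ℂ} (y : K) (hy : y ≠ 1) :
    indFun K f (y : G) = f y + f y⁻¹ := by
  have hy1 : (y : G) ≠ 1 := fun e => hy (Subtype.ext e)
  have hval : ∀ x : G, extendByZero K f (x⁻¹ * y * x) =
      (if x ∈ K then f y else 0) + (if x * s ∈ K then f y⁻¹ else 0) := by
    intro x
    by_cases hx : x * t = t * x
    · have hx' : x⁻¹ * t = t * x⁻¹ := by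
        rw [inv_mul_eq_iff_eq_mul, ← mul_assoc, hx, mul_inv_cancel_right]
      rcases (h.cent x).mp hx with hk | hk
      · have hns : x * s ∉ K := fun hk' => h.sK (by
          simpa using K.mul_mem (K.inv_mem hk) hk')
        have e : x⁻¹ * y * x = y := by
          rw [h.comm _ (K.inv_mem hk) _ y.2, inv_mul_cancel_right]
        rw [if_pos hk, if_neg hns, add_zero, e, extendByZero_coe]
      · have hns : x ∉ K := fun hk' => h.sK (by
          simpa using K.mul_mem (K.inv_mem hk') hk)
        have e : x⁻¹ * y * x = ((y⁻¹ : K) : G) := by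
          rcases h.conj_mem hx' y.2 with ⟨hk', -⟩ | ⟨-, e⟩
          · exact absurd (by simpa using K.inv_mem hk') hns
          · rw [inv_inv] at e
            exact e
        rw [if_neg hns, if_pos hk, zero_add, e, extendByZero_coe]
    · have h1 : x ∉ K := fun hk => hx ((h.cent x).mpr (Or.inl hk))
      have h2 : x * s ∉ K := fun hk => hx ((h.cent x).mpr (Or.inr hk))
      rw [if_neg h1, if_neg h2, add_zero, extendByZero_notMem]
      intro hm
      have := h.ti x⁻¹ y y.2 hy1 (by rwa [inv_inv])
      apply hx
      rw [inv_mul_eq_iff_eq_mul, ← mul_assoc] at this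
      exact (eq_mul_inv_iff_mul_eq.mp this).symm
  have hc1 : (Finset.univ.filter fun x : G => x ∈ K).card = Nat.card K := by
    rw [Nat.card_eq_fintype_card, Fintype.card_subtype]
  have hc2 : (Finset.univ.filter fun x : G => x * s ∈ K).card = Nat.card K := by
    rw [← hc1]
    exact Finset.card_bij' (fun x _ => x * s) (fun x _ => x * s)
      (fun x hx => by simpa using hx)
      (fun x hx => by
        simp only [Finset.mem_filter, Finset.mem_univ, true_and] at hx ⊢
        rwa [mul_assoc, h.ss, mul_one])
      (fun x _ => by rw [mul_assoc, h.ss, mul_one])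
      (fun x _ => by rw [mul_assoc, h.ss, mul_one])
  simp only [indFun, hval]
  rw [Finset.sum_add_distrib, ← Finset.sum_filter, ← Finset.sum_filter, Finset.sum_const,
    Finset.sum_const, hc1, hc2, nsmul_eq_mul, nsmul_eq_mul, ← mul_add, inv_mul_cancel_left₀]
  exact Nat.cast_ne_zero.mpr Nat.card_pos.ne'

theorem Setting.diff_mem (h : Setting t K s) (l : IrrCharacter K) (x : K) :
    diff K l (x : G) = 2 - (l : K → ℂ) x - conj ((l : K → ℂ) x) := by
  by_cases hx : x = 1
  · subst hx
    rw [h.degree_one l, map_one]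
    rw [show ((1 : K) : G) = 1 from rfl, diff, indFun_one, Pi.sub_apply, triv_apply, h.degree_one l]
    ring
  · rw [diff, h.indFun_mem x hx, Pi.sub_apply, Pi.sub_apply, triv_apply, triv_apply, irr_inv]
    ring

theorem Setting.diff_rest (h : Setting t K s) (l : IrrCharacter K) {y : G} (hy : Rest K y) :
    diff K l y = 0 :=
  indFun_eq_zero K (by rw [Pi.sub_apply, triv_apply, h.degree_one l, sub_self])
    fun g hg => absurd hg (hy.2 g)

theorem Setting.coeff_eq_res (h : Setting t K s) (l : IrrCharacter K) (χ : IrrCharacter G) :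
    (coeff K l χ : ℂ) = classInner (triv K : K → ℂ) (fun x : K => (χ : G → ℂ) x) -
      classInner (l : K → ℂ) (fun x : K => (χ : G → ℂ) x) := by
  rw [← coeff_spec, diff, frobenius_reciprocity K _ (isClassFunction_irr χ), classInner_sub_left]

theorem Setting.coeff_triv_left (h : Setting t K s) (χ : IrrCharacter G) :
    coeff K (triv K) χ = 0 := by
  have := h.coeff_eq_res (triv K) χ
  rw [sub_self] at this
  exact_mod_cast this

theorem Setting.coeff_triv (h : Setting t K s) {l : IrrCharacter K} (hl : l ≠ triv K) :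
    coeff K l (triv G) = 1 := by
  have := h.coeff_eq_res l (triv G)
  have e : (fun x : K => (triv G : G → ℂ) x) = (triv K : K → ℂ) := funext fun x => by
    rw [triv_apply, triv_apply]
  rw [e, classInner_irr_self (triv K).2,
    classInner_irr_ne l.2 (triv K).2 (fun e => hl (Subtype.ext e)), sub_zero] at this
  exact_mod_cast this

/-- The Gram matrix. -/
theorem Setting.gram (h : Setting t K s) {l m : IrrCharacter K} (hl : l ≠ triv K) (hm : m ≠ triv K) :
    ∑ χ : IrrCharacter G, coeff K l χ * coeff K m χ =
      2 + (if l = m then 1 else 0) + (if l = conjPerm m then 1 else 0) := by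
  have h1 : classInner (diff K l) (diff K m) =
      ((∑ χ : IrrCharacter G, coeff K l χ * coeff K m χ : ℤ) : ℂ) := by
    conv_lhs => rw [diff_expansion K l, diff_expansion K m]
    rw [classInner_sum_smul_sum_smul]
    push_cast
    exact Finset.sum_congr rfl fun χ _ => by rw [map_intCast]
  have e : (fun x : K => diff K m (x : G)) = (triv K : K → ℂ) + (triv K : K → ℂ) -
      (m : K → ℂ) - (conjPerm m : K → ℂ) := funext fun x => by
    rw [h.diff_mem m x]
    simp only [Pi.sub_apply, Pi.add_apply, triv_apply, conjPerm_apply]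
    norm_num
  have hcm : conjPerm m ≠ triv K := fun e => hm (Subtype.ext (funext fun x => by
    have := congrArg (fun c : IrrCharacter K => (c : K → ℂ) x) e
    simp only [conjPerm_apply, triv_apply] at this
    rw [triv_apply, ← Complex.conj_conj ((m : K → ℂ) x), this, map_one]))
  have h2 : classInner (diff K l) (diff K m) =
      2 + (if l = m then 1 else 0) + (if l = conjPerm m then 1 else 0) := by
    show classInner (indFun K _) _ = _
    rw [frobenius_reciprocity K _ (χ := diff K m) (isClassFunction_indFun K _)]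
    rw [e]
    simp only [classInner_sub_left, classInner_sub_right, classInner_add_right, classInner_coe]
    rw [if_pos trivial, if_neg hm.symm, if_neg hcm.symm, if_neg hl]
    ring
  have := h1.symm.trans h2
  split_ifs at this ⊢ <;> exact_mod_cast this

theorem Setting.sum_deg (h : Setting t K s) (l : IrrCharacter K) :
    ∑ χ : IrrCharacter G, (coeff K l χ : ℂ) * (χ : G → ℂ) 1 = 0 := by
  have := h.diff_mem l 1
  rw [h.degree_one l, map_one, show ((1 : K) : G) = 1 from rfl] at this
  rw [congrFun (diff_expansion K l) 1, Finset.sum_apply] at this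
  simp only [Pi.smul_apply, smul_eq_mul] at this
  rw [this]; ring

theorem Setting.sum_rest (h : Setting t K s) (l : IrrCharacter K) {y : G} (hy : Rest K y) :
    ∑ χ : IrrCharacter G, (coeff K l χ : ℂ) * (χ : G → ℂ) y = 0 := by
  have := h.diff_rest l hy
  rw [congrFun (diff_expansion K l) y, Finset.sum_apply] at this
  simpa only [Pi.smul_apply, smul_eq_mul] using this

/-- The values on `K#` are given by the coefficients. -/
theorem Setting.value_mem (h : Setting t K s) (χ : IrrCharacter G) {x : K} (hx : x ≠ 1) :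
    (χ : G → ℂ) x = -∑ l : IrrCharacter K, (coeff K l χ : ℂ) * (l : K → ℂ) x := by
  set r : K → ℂ := fun y => (χ : G → ℂ) y with hr
  have he := congrFun (classFunction_expansion (f := r)
    (isClassFunction_restrict K (isClassFunction_irr χ))) x
  rw [Finset.sum_apply] at he
  simp only [Pi.smul_apply, smul_eq_mul] at he
  have hc : ∀ l : IrrCharacter K, classInner r (l : K → ℂ) =
      classInner r (triv K : K → ℂ) - (coeff K l χ : ℂ) := by
    intro l
    have := congrArg conj (h.coeff_eq_res l χ)
    rw [map_intCast, map_sub, classInner_conj_symm, classInner_conj_symm] at this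
    rw [this]; ring
  have h0 : ∑ l : IrrCharacter K, (l : K → ℂ) x = 0 := by
    have := sum_degree_mul_irr x
    rw [if_neg hx] at this
    rw [← this]
    exact Finset.sum_congr rfl fun l _ => by rw [h.degree_one l, one_mul]
  show r x = _
  rw [he]
  rw [Finset.sum_congr rfl fun (l : IrrCharacter K) _ => show classInner r (l : K → ℂ) * (l : K → ℂ) x =
      classInner r (triv K : K → ℂ) * (l : K → ℂ) x - (coeff K l χ : ℂ) * (l : K → ℂ) x by
    rw [hc l]; ring]
  rw [Finset.sum_sub_distrib, ← Finset.mul_sum, h0, mul_zero, zero_sub]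

theorem Setting.char_t_real (h : Setting t K s) (χ : IrrCharacter G) :
    conj ((χ : G → ℂ) t) = (χ : G → ℂ) t := by
  rw [← irr_inv, inv_of_two h.t2]

theorem Setting.two_mul_index (h : Setting t K s) :
    (Subgroup.centralizer ({t} : Set G)).index * (2 * Nat.card K) = Nat.card G := by
  rw [← h.card_centralizer, Subgroup.index_mul_card]

/-- The number of factorisations into two involutions as a character sum. -/
theorem Setting.npairs_formula (h : Setting t K s) (y : G) :
    (npairs y : ℂ) = ((Subgroup.centralizer ({t} : Set G)).index : ℂ) ^ 2 / (Nat.card G : ℂ) *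
      ∑ χ : IrrCharacter G, (χ : G → ℂ) t ^ 2 * (χ : G → ℂ) y / (χ : G → ℂ) 1 := by
  have e : npairs y = Nat.card {p : G × G // IsConj t p.1 ∧ IsConj t p.2 ∧ p.1 * p.2 = y} := by
    refine Nat.card_congr ?_
    refine
      { toFun := fun a => ⟨(a.1, a.1 * y), h.conj _ _ h.t2 a.2.1, h.conj _ _ h.t2 a.2.2, ?_⟩
        invFun := fun p => ⟨p.1.1, ?_, ?_⟩
        left_inv := fun a => rfl
        right_inv := fun p => ?_ }
    · show a.1 * (a.1 * y) = y
      rw [← mul_assoc, (orderOf_two_iff.mp a.2.1).1, one_mul]
    · obtain ⟨c, hc⟩ := isConj_iff.mp p.2.1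
      rw [← hc, orderOf_conj, h.t2]
    · obtain ⟨c, hc⟩ := isConj_iff.mp p.2.2.1
      obtain ⟨d, hd⟩ := isConj_iff.mp p.2.1
      have h2 : orderOf p.1.1 = 2 := by rw [← hd, orderOf_conj, h.t2]
      have e2 : p.1.1 * y = p.1.2 :=
        calc p.1.1 * y = p.1.1 * (p.1.1 * p.1.2) := congrArg (p.1.1 * ·) p.2.2.2.symm
          _ = p.1.2 := by rw [← mul_assoc, (orderOf_two_iff.mp h2).1, one_mul]
      rw [e2, ← hc, orderOf_conj, h.t2]
    · obtain ⟨d, hd⟩ := isConj_iff.mp p.2.1
      have h2 : orderOf p.1.1 = 2 := by rw [← hd, orderOf_conj, h.t2]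
      refine Subtype.ext (Prod.ext rfl ?_)
      exact calc p.1.1 * y = p.1.1 * (p.1.1 * p.1.2) := congrArg (p.1.1 * ·) p.2.2.2.symm
          _ = p.1.2 := by rw [← mul_assoc, (orderOf_two_iff.mp h2).1, one_mul]
  have hm := congrArg conj (class_mult t t y)
  rw [map_natCast, ← e, map_mul, map_div₀, map_mul, map_natCast, map_natCast, map_sum] at hm
  rw [hm, sq]
  congr 1
  refine Finset.sum_congr rfl fun χ _ => ?_
  obtain ⟨n, hn⟩ := exists_nat_degree (isCharacter_of_isIrr χ.2)
  rw [map_div₀, map_mul, map_mul, h.char_t_real χ, Complex.conj_conj, hn, Complex.conj_natCast,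
    ← sq]

theorem isClassFunction_npairs : IsClassFunction G (fun y => (npairs y : ℂ)) := fun y g => by
  show (npairs (g * y * g⁻¹) : ℂ) = (npairs y : ℂ)
  rw [npairs_conj]

/-- The weighted sum at `t`. -/
theorem Setting.weighted (h : Setting t K s) {l : IrrCharacter K} (hl : l ≠ triv K) :
    ∑ χ : IrrCharacter G, (coeff K l χ : ℂ) * (χ : G → ℂ) t ^ 2 / (χ : G → ℂ) 1 =
      4 * (Nat.card K : ℂ) ^ 3 / (Nat.card G : ℂ) := by
  set i : ℕ := (Subgroup.centralizer ({t} : Set G)).index with hi
  have hk0 : (Nat.card K : ℂ) ≠ 0 := Nat.cast_ne_zero.mpr Nat.card_pos.ne'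
  have hG0 : (Nat.card G : ℂ) ≠ 0 := Nat.cast_ne_zero.mpr Nat.card_pos.ne'
  have hi0 : (i : ℂ) ≠ 0 := Nat.cast_ne_zero.mpr Subgroup.index_ne_zero_of_finite
  -- the inner product with the pair count, computed in two ways
  have hA : classInner (diff K l) (fun y => (npairs y : ℂ)) = (Nat.card K : ℂ) := by
    rw [diff, frobenius_reciprocity K _ isClassFunction_npairs, classInner]
    have : ∀ x : K, ((triv K : K → ℂ) - (l : K → ℂ)) x * conj ((npairs (x : G) : ℂ)) =
        ((triv K : K → ℂ) - (l : K → ℂ)) x * (Nat.card K : ℂ) := by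
      intro x
      by_cases hx : x = 1
      · rw [hx, Pi.sub_apply, triv_apply, h.degree_one l, sub_self, zero_mul, zero_mul]
      · rw [h.npairs_eq x.2 (fun e => hx (Subtype.ext e)), map_natCast]
    rw [Finset.sum_congr rfl fun x _ => this x, ← Finset.sum_mul]
    have hs : ∑ x : K, ((triv K : K → ℂ) - (l : K → ℂ)) x = (Nat.card K : ℂ) := by
      have h1 : classInner (l : K → ℂ) (triv K : K → ℂ) = 0 :=
        classInner_irr_ne l.2 (triv K).2 fun e => hl (Subtype.ext e)
      rw [classInner, mul_eq_zero, inv_eq_zero, or_iff_right hk0] at h1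
      simp only [triv_apply, map_one, mul_one] at h1
      simp only [Pi.sub_apply, triv_apply, Finset.sum_sub_distrib, h1, sub_zero, Finset.sum_const,
        Finset.card_univ, nsmul_eq_mul, mul_one, Nat.card_eq_fintype_card]
    rw [hs, inv_mul_cancel_left₀ hk0]
  have hB : classInner (diff K l) (fun y => (npairs y : ℂ)) =
      (i : ℂ) ^ 2 / (Nat.card G : ℂ) *
        ∑ χ : IrrCharacter G, (coeff K l χ : ℂ) * (χ : G → ℂ) t ^ 2 / (χ : G → ℂ) 1 := by
    have e : (fun y => (npairs y : ℂ)) = ∑ χ : IrrCharacter G,
        ((i : ℂ) ^ 2 / (Nat.card G : ℂ) * ((χ : G → ℂ) t ^ 2 / (χ : G → ℂ) 1)) • (χ : G → ℂ) := by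
      funext y
      rw [Finset.sum_apply, h.npairs_formula y, Finset.mul_sum]
      refine Finset.sum_congr rfl fun χ _ => ?_
      rw [Pi.smul_apply, smul_eq_mul]; ring
    rw [e, classInner_sum_right, Finset.mul_sum]
    refine Finset.sum_congr rfl fun χ _ => ?_
    obtain ⟨n, hn⟩ := exists_nat_degree (isCharacter_of_isIrr χ.2)
    rw [classInner_smul_right, coeff_spec]
    simp only [map_mul, map_div₀, map_pow, map_natCast, hn, h.char_t_real χ]
    ring
  have hidx : (i : ℂ) * (2 * (Nat.card K : ℂ)) = (Nat.card G : ℂ) := by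
    exact_mod_cast h.two_mul_index
  rw [hA] at hB
  rw [eq_div_iff hG0]
  field_simp at hB
  rw [← hidx] at hB ⊢
  refine mul_left_cancel₀ (pow_ne_zero 2 hi0) ?_
  linear_combination -(↑i * (2 * (Nat.card K : ℂ))) * hB

end CfsgLib.BSW
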