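import Cfsg.Agent.Lib.BSW.Order

/-!
# Counting the elements outside the conjugates of `K`

Outside the conjugates of `K` the common constituent takes two values, so a nontrivial element is a
product of two involutions in one of two numbers of ways, and both sets of elements are counted.
-/

set_option autoImplicit false
set_option linter.unusedSectionVars false

open scoped Classical

namespace CfsgLib.BSW

open Cfsg CfsgLib.Char Finset
open scoped ComplexConjugate

variable {G : Type*} [Group G] [Fintype G] {K : Subgroup G} {t s : G}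
variable {z : IrrCharacter G} {d : ℤ}

theorem not_rest_iff {y : G} (hy : y ≠ 1) : ¬ Rest K y ↔ InK K y := by
  simp only [Rest, InK, hy, ne_eq, not_false_eq_true, true_and, not_forall, not_not]

theorem Setting.value_z_inK (h : Setting t K s) (hS : Shape K z d) {y : G} (hy : InK K y) :
    (z : G → ℂ) y = d := by
  obtain ⟨hy1, g, hg⟩ := hy
  rw [eq_of_isConj (isClassFunction_irr z) (isConj_iff.mpr ⟨g, rfl⟩ : IsConj y (g * y * g⁻¹))]
  refine h.value_z hS.ne_triv hS.const (x := ⟨g * y * g⁻¹, hg⟩) fun e => hy1 ?_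
  simpa using congrArg Subtype.val e

/-- The character sum counting the pairs of involutions, outside the conjugates of `K`. -/
theorem Setting.column (h : Setting t K s) (hS : Shape K z d) {y : G} (hy : Rest K y) :
    ∑ χ : IrrCharacter G, (χ : G → ℂ) t ^ 2 * (χ : G → ℂ) y / (χ : G → ℂ) 1 =
      1 + (d : ℂ) * (z : G → ℂ) y / ((d * (deg z : ℤ) : ℤ) : ℂ) +
        2 * ((Nat.card K : ℂ) - 1) * (1 + (d : ℂ) * (z : G → ℂ) y) /
          (1 + ((d * (deg z : ℤ) : ℤ) : ℂ)) := by
  have hd2 : (d : ℂ) ^ 2 = 1 := by exact_mod_cast sign_sq hS.sign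
  have hd0 : (d : ℂ) ≠ 0 := fun e => by rw [e] at hd2; norm_num at hd2
  have hzt : (z : G → ℂ) t = d :=
    h.value_z_inK hS ⟨h.t_ne, 1, by simpa using h.tK⟩
  set vc : ℂ := ((d * (deg z : ℤ) : ℤ) : ℂ) with hvc
  set wy : ℂ := (d : ℂ) * (z : G → ℂ) y with hwy
  obtain ⟨l1, hl1, -, -⟩ := h.exists_real
  have hv1 : 1 + vc ≠ 0 := by
    obtain ⟨x, hx⟩ := card_pos.mp (show 0 < ((univ.erase z).filter fun χ =>
        rcoeff K l1 χ ≠ 0).card by
      rw [h.others_card hS.sign hS.const hl1]; rw [wt]; split_ifs <;> norm_num)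
    rw [mem_filter, mem_erase] at hx
    intro e
    have h1 : ((1 + d * (deg z : ℤ) : ℤ) : ℂ) = 0 := by push_cast; rw [hvc] at e; push_cast at e; exact e
    have h2 := hS.degree l1 hl1 x hx.1.1 hx.2
    rw [Int.cast_eq_zero.mp h1, neg_zero] at h2
    have hw : (wt l1 : ℤ) ≠ 0 := by rw [wt]; split_ifs <;> norm_num
    exact mul_ne_zero (mul_ne_zero hw hx.2) (Int.natCast_ne_zero.mpr (deg_ne_zero x)) h2
  have hm : ∀ m ∈ univ.erase (triv K),
      ∑ χ ∈ (univ.erase (triv G)).erase z,
        2 * (rcoeff K m χ : ℂ) ^ 2 / (wt m : ℂ) * ((χ : G → ℂ) y / (deg χ : ℂ)) =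
        2 * (1 + wy) / (1 + vc) := by
    intro m hm
    have hm' := ne_of_mem_erase hm
    have e : ∀ χ ∈ univ.erase z,
        2 * (rcoeff K m χ : ℂ) ^ 2 / (wt m : ℂ) * ((χ : G → ℂ) y / (deg χ : ℂ)) =
          -(2 / (1 + vc)) * ((rcoeff K m χ : ℂ) * (χ : G → ℂ) y) := by
      intro χ hχ
      by_cases h0 : rcoeff K m χ = 0
      · rw [h0]; simp
      have hdeg := hS.degree m hm' χ (ne_of_mem_erase hχ) h0
      have hdeg' : (wt m : ℂ) * (rcoeff K m χ : ℂ) * (deg χ : ℂ) = -(1 + vc) := by
        rw [hvc]; exact_mod_cast hdeg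
      have hw : (wt m : ℂ) ≠ 0 := by rw [wt]; split_ifs <;> norm_num
      have hn : (deg χ : ℂ) ≠ 0 := Nat.cast_ne_zero.mpr (deg_ne_zero χ)
      field_simp
      have hr2 : (rcoeff K m χ : ℂ) ^ 2 = 1 := by
        rcases ((h.rcoeff_bound hm').1 χ).resolve_left h0 with e | e <;> rw [e] <;> norm_num
      linear_combination ((rcoeff K m χ : ℂ) * (χ : G → ℂ) y) * hdeg' -
        ((χ : G → ℂ) y * (wt m : ℂ) * (deg χ : ℂ)) * hr2
    rw [erase_right_comm, sum_erase, sum_congr rfl e, ← mul_sum]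
    · have h1 := h.sum_rest m hy
      rw [← sum_erase_add univ _ (mem_univ (triv G)), h.coeff_triv hm', triv_apply,
        ← sum_erase_add _ _ (mem_erase.mpr ⟨hS.ne_triv, mem_univ z⟩),
        show coeff K m z = d by rw [← hS.const m hm', rcoeff, if_neg hS.ne_triv]] at h1
      have h2 : ∑ χ ∈ univ.erase z, (rcoeff K m χ : ℂ) * (χ : G → ℂ) y =
          ∑ χ ∈ (univ.erase (triv G)).erase z, (coeff K m χ : ℂ) * (χ : G → ℂ) y := by
        rw [erase_right_comm, ← sum_erase (univ.erase z) (a := triv G) (by simp [rcoeff])]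
        exact sum_congr rfl fun χ hχ => by rw [rcoeff, if_neg (ne_of_mem_erase hχ)]
      rw [h2]
      push_cast at h1
      linear_combination (-(2 / (1 + vc))) * h1
    · simp [rcoeff]
  rw [← sum_erase_add univ _ (mem_univ (triv G)),
    ← sum_erase_add (univ.erase (triv G)) _ (mem_erase.mpr ⟨hS.ne_triv, mem_univ z⟩),
    sum_congr rfl fun (χ : IrrCharacter G) hχ => show (χ : G → ℂ) t ^ 2 * (χ : G → ℂ) y / (χ : G → ℂ) 1 =
      ∑ m ∈ univ.erase (triv K),
        2 * (rcoeff K m χ : ℂ) ^ 2 / (wt m : ℂ) * ((χ : G → ℂ) y / (deg χ : ℂ)) by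
      rw [← sum_mul, ← h.value_sq_sum hS (ne_of_mem_erase hχ)
        (ne_of_mem_erase (mem_of_mem_erase hχ)), deg_spec]
      ring,
    sum_comm, sum_congr rfl hm, sum_const, h.card_erase_triv, hzt, deg_spec]
  simp only [triv_apply]
  have hn : (deg z : ℂ) ≠ 0 := Nat.cast_ne_zero.mpr (deg_ne_zero z)
  rw [nsmul_eq_mul, Nat.cast_sub (le_trans one_le_two h.two_le), hd2, hwy, hvc]
  push_cast
  field_simp
  ring

/-- The number of pairs of involutions, outside the conjugates of `K`. -/
theorem Setting.npairs_rest (h : Setting t K s) (hS : Shape K z d) {y : G} (hy : Rest K y) :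
    (d * (deg z : ℤ) = 1 + 2 * (Nat.card K : ℤ) →
      (npairs y : ℂ) = ((1 + 2 * Nat.card K : ℕ) : ℂ) + (Nat.card K : ℂ) * ((d : ℂ) * (z : G → ℂ) y)) ∧
    (d * (deg z : ℤ) = 1 - 2 * (Nat.card K : ℤ) →
      (npairs y : ℂ) = -((Nat.card K : ℂ) - 1) * ((d : ℂ) * (z : G → ℂ) y)) := by
  obtain ⟨-, hG⟩ := h.order hS
  have hk0 : (Nat.card K : ℂ) ≠ 0 := Nat.cast_ne_zero.mpr Nat.card_pos.ne'
  have hk2 : (2 : ℤ) ≤ (Nat.card K : ℤ) := by exact_mod_cast h.two_le
  have hG0 : (Nat.card G : ℂ) ≠ 0 := Nat.cast_ne_zero.mpr Nat.card_pos.ne'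
  have hidx : ((Subgroup.centralizer ({t} : Set G)).index : ℂ) ^ 2 / (Nat.card G : ℂ) =
      (Nat.card G : ℂ) / (4 * (Nat.card K : ℂ) ^ 2) := by
    have hidx : ((Subgroup.centralizer ({t} : Set G)).index : ℂ) * (2 * (Nat.card K : ℂ)) =
      (Nat.card G : ℂ) := by exact_mod_cast h.two_mul_index
    rw [div_eq_div_iff hG0 (mul_ne_zero (by norm_num) (pow_ne_zero 2 hk0)), ← hidx]; ring
  have hN := h.npairs_formula y
  rw [h.column hS hy, hidx] at hN
  set wy : ℂ := (d : ℂ) * (z : G → ℂ) y
  have key : ∀ v : ℂ, v ≠ 0 → 1 + v ≠ 0 → (Nat.card G : ℂ) = (Nat.card K : ℂ) * v * (v + 1) →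
      (npairs y : ℂ) = ((v + wy) * (v + 1) + 2 * ((Nat.card K : ℂ) - 1) * v * (1 + wy)) /
        (4 * (Nat.card K : ℂ)) ∨ ((d * (deg z : ℤ) : ℤ) : ℂ) ≠ v := by
    intro v hv0 hv1 hv
    by_cases e : ((d * (deg z : ℤ) : ℤ) : ℂ) = v
    · left
      rw [hN, hv, e]
      field_simp
      ring
    · exact Or.inr e
  have hGc : (Nat.card G : ℂ) = (Nat.card K : ℂ) * ((d * (deg z : ℤ) : ℤ) : ℂ) *
      (((d * (deg z : ℤ) : ℤ) : ℂ) + 1) := by exact_mod_cast hG
  have h4k : (4 : ℂ) * (Nat.card K : ℂ) ≠ 0 := mul_ne_zero (by norm_num) hk0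
  constructor <;> intro hv
  · have h1 := (key ((d * (deg z : ℤ) : ℤ) : ℂ) (Int.cast_ne_zero.mpr (by omega)) (by
      rw [← Int.cast_one, ← Int.cast_add]; exact Int.cast_ne_zero.mpr (by omega))
      hGc).resolve_right (not_not.mpr rfl)
    rw [h1, hv, div_eq_iff h4k]
    push_cast
    ring
  · have h1 := (key ((d * (deg z : ℤ) : ℤ) : ℂ) (Int.cast_ne_zero.mpr (by omega)) (by
      rw [← Int.cast_one, ← Int.cast_add]; exact Int.cast_ne_zero.mpr (by omega))
      hGc).resolve_right (not_not.mpr rfl)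
    rw [h1, hv, div_eq_iff h4k]
    push_cast
    ring

theorem Setting.exists_int_value (h : Setting t K s) (hS : Shape K z d) {y : G} (hy : Rest K y) :
    ∃ w : ℤ, (d : ℂ) * (z : G → ℂ) y = w := by
  have hint : IsIntegral ℤ ((d : ℂ) * (z : G → ℂ) y) :=
    (isIntegral_algebraMap (R := ℤ) (A := ℂ) (x := d)).mul
      (isIntegral_value (isCharacter_of_isIrr z.2) y)
  obtain ⟨hp, hm⟩ := h.npairs_rest hS hy
  have hk : (2 : ℚ) ≤ (Nat.card K : ℚ) := by exact_mod_cast h.two_le
  obtain ⟨q, hq⟩ : ∃ q : ℚ, (d : ℂ) * (z : G → ℂ) y = (q : ℂ) := by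
    rcases (h.order hS).1 with hv | hv
    · refine ⟨((npairs y : ℚ) - (1 + 2 * Nat.card K)) / Nat.card K, ?_⟩
      rw [Rat.cast_div, Rat.cast_sub, Rat.cast_natCast, hp hv]
      have hk0 : (Nat.card K : ℂ) ≠ 0 := Nat.cast_ne_zero.mpr Nat.card_pos.ne'
      push_cast
      field_simp
      ring
    · refine ⟨-(npairs y : ℚ) / ((Nat.card K : ℚ) - 1), ?_⟩
      rw [Rat.cast_div, Rat.cast_neg, Rat.cast_natCast, hm hv]
      have hk0 : (Nat.card K : ℂ) - 1 ≠ 0 := by
        exact_mod_cast (show ((Nat.card K : ℤ)) - 1 ≠ 0 by have := h.two_le; omega)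
      push_cast
      field_simp
  rw [hq] at hint ⊢
  obtain ⟨n, hn⟩ := exists_int_of_isIntegral_rat hint
  exact ⟨n, by rw [hn, Rat.cast_intCast]⟩

/-- The elements of the conjugates of `K`. -/
theorem Setting.card_inK (h : Setting t K s) :
    2 * (Nat.card K : ℂ) * ((univ.filter (InK K)).card : ℂ) =
      (Nat.card G : ℂ) * ((Nat.card K : ℂ) - 1) := by
  set f : K → ℂ := fun x => if x = 1 then 0 else 1 with hf
  have hk0 : (Nat.card K : ℂ) ≠ 0 := Nat.cast_ne_zero.mpr Nat.card_pos.ne'
  have hG0 : (Nat.card G : ℂ) ≠ 0 := Nat.cast_ne_zero.mpr Nat.card_pos.ne'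
  have hF : ∀ y : G, indFun K f y = if InK K y then 2 else 0 := by
    intro y
    by_cases hy : InK K y
    · obtain ⟨hy1, g, hg⟩ := hy
      rw [if_pos ⟨hy1, g, hg⟩,
        eq_of_isConj (isClassFunction_indFun K f) (isConj_iff.mpr ⟨g, rfl⟩ : IsConj y (g * y * g⁻¹))]
      have hne : (⟨g * y * g⁻¹, hg⟩ : K) ≠ 1 := fun e => hy1 (by
        simpa using congrArg Subtype.val e)
      rw [show g * y * g⁻¹ = ((⟨g * y * g⁻¹, hg⟩ : K) : G) from rfl, h.indFun_mem _ hne]
      simp only [hf, if_neg hne, inv_eq_one]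
      norm_num
    · rw [if_neg hy]
      refine indFun_eq_zero K (by simp [hf]) fun g hg => ?_
      by_contra hy1
      exact hy ⟨hy1, g, hg⟩
  have e := frobenius_reciprocity K f (χ := fun _ : G => (1 : ℂ)) (fun _ _ => rfl)
  rw [classInner, classInner] at e
  simp only [map_one, mul_one, hF] at e
  rw [← sum_filter, sum_const, nsmul_eq_mul] at e
  have hs : ∑ x : K, f x = (Nat.card K : ℂ) - 1 := by
    rw [← sum_erase_add univ _ (mem_univ (1 : K)),
      sum_congr rfl fun x hx => show f x = 1 by simp [hf, ne_of_mem_erase hx], sum_const,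
      card_erase_of_mem (mem_univ _), card_univ, nsmul_eq_mul, mul_one,
      Nat.card_eq_fintype_card (α := K), Nat.cast_sub Fintype.card_pos]
    simp [hf]
  rw [hs] at e
  field_simp at e
  linear_combination e

/-- Outside the conjugates of `K` the common constituent takes the values `0` and `-d`. -/
theorem Setting.values_rest (h : Setting t K s) (hS : Shape K z d) :
    (∀ y, Rest K y → (d : ℂ) * (z : G → ℂ) y = 0 ∨ (d : ℂ) * (z : G → ℂ) y = -1) ∧
      (((univ.filter (Rest K)).filter fun y => (d : ℂ) * (z : G → ℂ) y = 0).card : ℤ) + 1 =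
        (d * (deg z : ℤ)) ^ 2 := by
  set R := univ.filter (Rest K) with hR
  set W := univ.filter (InK K) with hW
  have hd2 : (d : ℂ) ^ 2 = 1 := by exact_mod_cast sign_sq hS.sign
  choose! w hw using fun y (hy : y ∈ R) => h.exists_int_value hS (mem_filter.mp hy).2
  have hsplit : ∀ f : G → ℂ, ∑ y, f y = f 1 + ∑ y ∈ W, f y + ∑ y ∈ R, f y := by
    intro f
    rw [← sum_erase_add univ _ (mem_univ (1 : G)),
      ← sum_filter_add_sum_filter_not (univ.erase (1 : G)) (Rest K) f]
    have e1 : (univ.erase (1 : G)).filter (Rest K) = R := by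
      ext y; simp only [hR, mem_filter, mem_erase, mem_univ, and_true, true_and]
      exact ⟨fun hy => hy.2, fun hy => ⟨hy.1, hy⟩⟩
    have e2 : (univ.erase (1 : G)).filter (fun y => ¬ Rest K y) = W := by
      ext y; simp only [hW, mem_filter, mem_erase, mem_univ, and_true, true_and]
      exact ⟨fun hy => (not_rest_iff hy.1).mp hy.2, fun hy => ⟨hy.1, (not_rest_iff hy.1).mpr hy⟩⟩
    rw [e1, e2]; ring
  have h1 : ∑ y : G, (d : ℂ) * (z : G → ℂ) y = 0 := by
    have := classInner_irr_ne z.2 (triv G).2 fun e => hS.ne_triv (Subtype.ext e)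
    rw [classInner, mul_eq_zero, inv_eq_zero, or_iff_right
      (Nat.cast_ne_zero.mpr Nat.card_pos.ne')] at this
    simp only [triv_apply, map_one, mul_one] at this
    rw [← mul_sum, this, mul_zero]
  have h2 : ∑ y : G, ((d : ℂ) * (z : G → ℂ) y) * conj ((d : ℂ) * (z : G → ℂ) y) = Nat.card G := by
    have := classInner_irr_self z.2
    rw [classInner, inv_mul_eq_one₀ (Nat.cast_ne_zero.mpr Nat.card_pos.ne')] at this
    rw [this]
    refine sum_congr rfl fun y _ => ?_
    rw [map_mul, map_intCast]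
    linear_combination ((z : G → ℂ) y * conj ((z : G → ℂ) y)) * hd2
  rw [hsplit] at h1 h2
  have hWv : ∀ y ∈ W, (d : ℂ) * (z : G → ℂ) y = 1 := fun y hy => by
    rw [h.value_z_inK hS (mem_filter.mp hy).2, ← sq, hd2]
  rw [sum_congr rfl hWv, sum_congr rfl hw, sum_const, deg_spec, nsmul_eq_mul, mul_one] at h1
  have eW : ∀ y ∈ W, ((d : ℂ) * (z : G → ℂ) y) * conj ((d : ℂ) * (z : G → ℂ) y) = 1 :=
    fun y hy => by rw [hWv y hy, map_one, mul_one]
  have eR : ∀ y ∈ R, ((d : ℂ) * (z : G → ℂ) y) * conj ((d : ℂ) * (z : G → ℂ) y) =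
      (w y : ℂ) * (w y : ℂ) := fun y hy => by rw [hw y hy, map_intCast]
  rw [sum_congr rfl eW, sum_congr rfl eR, sum_const, deg_spec, nsmul_eq_mul,
    mul_one, map_mul, map_intCast, Complex.conj_natCast] at h2
  have hC : 2 * (Nat.card K : ℤ) * (W.card : ℤ) = (Nat.card G : ℤ) * ((Nat.card K : ℤ) - 1) := by
    exact_mod_cast h.card_inK
  have h1' : d * (deg z : ℤ) + (W.card : ℤ) + ∑ y ∈ R, w y = 0 := by exact_mod_cast h1
  have h2' : d * (deg z : ℤ) * (d * (deg z : ℤ)) + (W.card : ℤ) + ∑ y ∈ R, w y * w y =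
      (Nat.card G : ℤ) := by exact_mod_cast h2
  obtain ⟨-, hG⟩ := h.order hS
  have hk : (Nat.card K : ℤ) ≠ 0 := by exact_mod_cast (Nat.card_pos (α := K)).ne'
  have h0 : ∑ y ∈ R, (w y * w y + w y) = 0 := by
    rw [sum_add_distrib]
    refine mul_left_cancel₀ hk ?_
    linear_combination (Nat.card K : ℤ) * h1' + (Nat.card K : ℤ) * h2' - hC + hG
  have hwv : ∀ y ∈ R, w y = 0 ∨ w y = -1 := by
    intro y hy
    have := (sum_eq_zero_iff_of_nonneg fun c _ => by nlinarith [sq_nonneg (2 * w c + 1)]).mp h0 y hy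
    rcases mul_eq_zero.mp (show w y * (w y + 1) = 0 by linarith) with e | e
    exacts [Or.inl e, Or.inr (by linarith)]
  refine ⟨fun y hy => ?_, ?_⟩
  · have hyR : y ∈ R := mem_filter.mpr ⟨mem_univ _, hy⟩
    rw [hw y hyR]
    rcases hwv y hyR with e | e <;> rw [e] <;> norm_num
  · have hfilt : R.filter (fun y => (d : ℂ) * (z : G → ℂ) y = 0) = R.filter (fun y => w y = 0) :=
      filter_congr fun y hy => by rw [hw y hy, Int.cast_eq_zero]
    have hcount : ((R.filter fun y => w y = 0).card : ℤ) = (R.card : ℤ) + ∑ y ∈ R, w y := by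
      rw [card_filter, card_eq_sum_ones R]
      push_cast
      rw [← sum_add_distrib]
      exact sum_congr rfl fun y hy => by rcases hwv y hy with e | e <;> simp [e]
    have hRc : (R.card : ℤ) + (W.card : ℤ) + 1 = (Nat.card G : ℤ) := by
      have := hsplit fun _ => 1
      simp only [sum_const, nsmul_eq_mul, mul_one, card_univ] at this
      rw [Nat.card_eq_fintype_card (α := G)]
      have e : ((Fintype.card G : ℤ) : ℂ) = ((1 + (W.card : ℤ) + (R.card : ℤ) : ℤ) : ℂ) := by
        push_cast; exact this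
      linarith [Int.cast_inj.mp e]
    rw [hfilt, hcount]
    refine mul_left_cancel₀ hk ?_
    linear_combination (Nat.card K : ℤ) * hRc + (Nat.card K : ℤ) * h1' - hC + hG

/-- The two possibilities. -/
theorem Setting.counts (h : Setting t K s) : ∃ q : ℕ,
    (q = 2 * Nat.card K + 1 ∧ Nat.card G = Nat.card K * q * (q + 1) ∧
      (∀ y, Rest K y → npairs y = q ∨ npairs y = Nat.card K + 1) ∧
      Nat.card {y : G // Rest K y ∧ npairs y = q} + 1 = q * q) ∨
    (q + 1 = 2 * Nat.card K ∧ Nat.card G = Nat.card K * q * (q - 1) ∧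
      (∀ y, Rest K y → npairs y = 0 ∨ npairs y + 1 = Nat.card K) ∧
      Nat.card {y : G // Rest K y ∧ npairs y = 0} + 1 = q * q) := by
  obtain ⟨z, d, hS⟩ := h.exists_shape
  obtain ⟨hv, hG⟩ := h.order hS
  obtain ⟨hval, hcard⟩ := h.values_rest hS
  have hk := h.two_le
  have hkc : (Nat.card K : ℂ) ≠ 0 := Nat.cast_ne_zero.mpr Nat.card_pos.ne'
  rcases hv with hv | hv
  · refine ⟨2 * Nat.card K + 1, Or.inl ⟨rfl, ?_, fun y hy => ?_, ?_⟩⟩
    · rw [hv] at hG
      have : (Nat.card G : ℤ) = ((Nat.card K * (2 * Nat.card K + 1) * (2 * Nat.card K + 1 + 1) : ℕ) : ℤ) := by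
        push_cast; linear_combination hG
      exact_mod_cast this
    · have := (h.npairs_rest hS hy).1 hv
      rcases hval y hy with e | e <;> rw [e] at this
      · left
        have h' : (npairs y : ℂ) = ((2 * Nat.card K + 1 : ℕ) : ℂ) := by
          rw [this]; push_cast; ring
        exact_mod_cast h'
      · right
        have h' : (npairs y : ℂ) = ((Nat.card K + 1 : ℕ) : ℂ) := by
          rw [this]; push_cast; ring
        exact_mod_cast h'
    · have e : Nat.card {y : G // Rest K y ∧ npairs y = 2 * Nat.card K + 1} =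
          ((univ.filter (Rest K)).filter fun y => (d : ℂ) * (z : G → ℂ) y = 0).card := by
        rw [Nat.card_eq_fintype_card, Fintype.card_subtype, filter_filter]
        refine congrArg card (filter_congr fun y _ => and_congr_right fun hy => ?_)
        have := (h.npairs_rest hS hy).1 hv
        constructor
        · intro e
          rw [e] at this
          push_cast at this
          refine (mul_eq_zero.mp ?_).resolve_left hkc
          linear_combination -this
        · intro e
          rw [e, mul_zero, add_zero] at this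
          rw [add_comm]
          exact_mod_cast this
      rw [hv] at hcard
      rw [e]
      zify
      linear_combination hcard
  · refine ⟨2 * Nat.card K - 1, Or.inr ⟨by omega, ?_, fun y hy => ?_, ?_⟩⟩
    · rw [hv] at hG
      have : (Nat.card G : ℤ) =
          ((Nat.card K * (2 * Nat.card K - 1) * (2 * Nat.card K - 1 - 1) : ℕ) : ℤ) := by
        push_cast [Nat.cast_sub (show 1 ≤ 2 * Nat.card K by omega),
          Nat.cast_sub (show 1 ≤ 2 * Nat.card K - 1 by omega)]
        linear_combination hG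
      exact_mod_cast this
    · have := (h.npairs_rest hS hy).2 hv
      rcases hval y hy with e | e <;> rw [e] at this
      · left
        rw [mul_zero] at this
        exact_mod_cast this
      · right
        have h' : ((npairs y + 1 : ℕ) : ℂ) = (Nat.card K : ℂ) := by
          push_cast; rw [this]; ring
        exact_mod_cast h'
    · have e : Nat.card {y : G // Rest K y ∧ npairs y = 0} =
          ((univ.filter (Rest K)).filter fun y => (d : ℂ) * (z : G → ℂ) y = 0).card := by
        rw [Nat.card_eq_fintype_card, Fintype.card_subtype, filter_filter]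
        refine congrArg card (filter_congr fun y _ => and_congr_right fun hy => ?_)
        have := (h.npairs_rest hS hy).2 hv
        have hk1 : (Nat.card K : ℂ) - 1 ≠ 0 := by
          exact_mod_cast (show (Nat.card K : ℤ) - 1 ≠ 0 by omega)
        constructor
        · intro e
          rw [e, Nat.cast_zero] at this
          exact (mul_eq_zero.mp this.symm).resolve_left (neg_ne_zero.mpr hk1)
        · intro e
          rw [e, mul_zero] at this
          exact_mod_cast this
      rw [hv] at hcard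
      rw [e]
      zify [show 1 ≤ 2 * Nat.card K by omega]
      linear_combination hcard

end CfsgLib.BSW
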