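import Cfsg.Agent.Lib.BSW.Setup
import Cfsg.Agent.Lib.Groups.SelfCentPrime

/-!
# The Brauer–Suzuki–Wall configuration from a dihedral Sylow 2-subgroup
-/

set_option autoImplicit false
set_option linter.unusedSectionVars false
set_option linter.style.haveILetI false

namespace CfsgLib.BSW

open DihedralGroup

theorem dihedral_two_sq : ∀ d : DihedralGroup 2, d * d = 1 := by decide

theorem dihedral_two_comm : ∀ d e : DihedralGroup 2, d * e = e * d := by decide

variable {G : Type*} [Group G] [Finite G]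

/-- A cyclic subgroup of index two in a dihedral 2-group is inverted by the outside involutions. -/
theorem outside_cyclic_of_dihedral {n : ℕ} (hn : 2 ≤ n) (S R : Subgroup G) (e : S ≃* DihedralGroup n)
    (hR : R ≤ S) (hcyc : IsCyclic R) (hidx : R.relIndex S = 2) :
    ∀ x ∈ S, x ∉ R → orderOf x = 2 ∧ ∀ r ∈ R, x * r * x⁻¹ = r⁻¹ := by
  haveI : NeZero n := ⟨by omega⟩
  intro x hx hxR
  have hx1 : x ≠ 1 := fun h => hxR (h ▸ R.one_mem)
  have hcR : Nat.card R = n := by
    have h2 : Nat.card (R.subgroupOf S) * R.relIndex S = Nat.card S := (R.subgroupOf S).card_mul_index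
    rw [hidx, Nat.card_congr (Subgroup.subgroupOfEquivOfLe hR).toEquiv,
      Nat.card_congr e.toEquiv, DihedralGroup.nat_card] at h2
    omega
  rcases (by omega : n = 2 ∨ 3 ≤ n) with rfl | hn3
  · have hsq : ∀ y ∈ S, y * y = 1 := fun y hy => congrArg Subtype.val
      (e.injective (by rw [map_mul, map_one, dihedral_two_sq]) : (⟨y, hy⟩ : S) * ⟨y, hy⟩ = 1)
    refine ⟨orderOf_two_iff.mpr ⟨hsq x hx, hx1⟩, fun r hr => ?_⟩
    have hc : x * r = r * x := congrArg Subtype.val
      (e.injective (by rw [map_mul, map_mul, dihedral_two_comm]) :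
        (⟨x, hx⟩ : S) * ⟨r, hR hr⟩ = ⟨r, hR hr⟩ * ⟨x, hx⟩)
    rw [hc, mul_inv_cancel_right, eq_inv_iff_mul_eq_one, hsq r (hR hr)]
  · obtain ⟨g, hg⟩ := hcyc.exists_generator
    have hog : orderOf (e ⟨(g : G), hR g.2⟩) = n := by
      rw [MulEquiv.orderOf_eq, Subgroup.orderOf_mk, Subgroup.orderOf_coe,
        orderOf_eq_card_of_forall_mem_zpowers hg, hcR]
    obtain ⟨j, hj⟩ : ∃ j, e ⟨(g : G), hR g.2⟩ = r j := by
      rcases hi : e ⟨(g : G), hR g.2⟩ with i | i
      · exact ⟨i, rfl⟩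
      · rw [hi, orderOf_sr] at hog; omega
    have hrot : ∀ y : R, ∃ i, e ⟨(y : G), hR y.2⟩ = r i := by
      intro y
      obtain ⟨k, rfl⟩ := Subgroup.mem_zpowers_iff.mp (hg y)
      refine ⟨j * k, ?_⟩
      rw [← r_zpow, ← hj, ← map_zpow]
      congr 1
    choose f hf using hrot
    have hfi : Function.Injective f := fun a b h => by
      have h' : e ⟨(a : G), hR a.2⟩ = e ⟨(b : G), hR b.2⟩ := by rw [hf, hf, h]
      exact Subtype.ext (congrArg (fun z : S => (z : G)) (e.injective h'))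
    have hfb : Function.Bijective f := (Nat.bijective_iff_injective_and_card f).2
      ⟨hfi, by rw [hcR, Nat.card_zmod]⟩
    rcases hi : e ⟨x, hx⟩ with i | i
    · exfalso
      obtain ⟨y, rfl⟩ := hfb.2 i
      have := congrArg (fun z : S => (z : G)) (e.injective (hi.trans (hf y).symm))
      exact hxR (show x ∈ R by rw [show x = (y : G) from this]; exact y.2)
    · refine ⟨?_, fun w hw => ?_⟩
      · have h2 : orderOf (e ⟨x, hx⟩) = 2 := by rw [hi, orderOf_sr]
        rwa [MulEquiv.orderOf_eq, Subgroup.orderOf_mk] at h2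
      · have : (⟨x, hx⟩ : S) * ⟨w, hR hw⟩ * (⟨x, hx⟩ : S)⁻¹ = (⟨w, hR hw⟩ : S)⁻¹ := by
          refine e.injective ?_
          rw [map_mul, map_mul, map_inv, map_inv, hi, hf ⟨w, hw⟩, inv_sr, sr_mul_r, sr_mul_sr, inv_r]
          congr 1; ring
        exact congrArg Subtype.val this

/-- A central element of order two lies in some cyclic subgroup of index two. -/
theorem exists_cyclic_of_dihedral {n : ℕ} (hn : 2 ≤ n) (S : Subgroup G) (e : S ≃* DihedralGroup n)
    {t : G} (ht : orderOf t = 2) (htS : t ∈ S) (htZ : ∀ s ∈ S, s * t = t * s) :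
    ∃ R ≤ S, IsCyclic R ∧ R.relIndex S = 2 ∧ t ∈ R := by
  haveI : NeZero n := ⟨by omega⟩
  have key : ∀ z : S, orderOf z = n → ∀ R : Subgroup G, R = Subgroup.zpowers (z : G) →
      R ≤ S ∧ IsCyclic R ∧ R.relIndex S = 2 := by
    rintro z hz R rfl
    refine ⟨Subgroup.zpowers_le.mpr z.2, inferInstance, ?_⟩
    have hle : Subgroup.zpowers (z : G) ≤ S := Subgroup.zpowers_le.mpr z.2
    have h2 : Nat.card ((Subgroup.zpowers (z : G)).subgroupOf S) *
        (Subgroup.zpowers (z : G)).relIndex S = Nat.card S :=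
      ((Subgroup.zpowers (z : G)).subgroupOf S).card_mul_index
    rw [Nat.card_congr (Subgroup.subgroupOfEquivOfLe hle).toEquiv, Nat.card_zpowers,
      Subgroup.orderOf_coe, hz, Nat.card_congr e.toEquiv, DihedralGroup.nat_card, mul_comm 2] at h2
    exact Nat.eq_of_mul_eq_mul_left (by omega) h2
  rcases (by omega : n = 2 ∨ 3 ≤ n) with rfl | hn3
  · obtain ⟨h1, h2, h3⟩ := key ⟨t, htS⟩ (by rw [Subgroup.orderOf_mk, ht]) _ rfl
    exact ⟨_, h1, h2, h3, Subgroup.mem_zpowers t⟩
  · obtain ⟨h1, h2, h3⟩ := key (e.symm (r 1)) (by rw [MulEquiv.orderOf_eq, orderOf_r_one]) _ rfl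
    refine ⟨_, h1, h2, h3, ?_⟩
    rcases hi : e ⟨t, htS⟩ with i | i
    · refine Subgroup.mem_zpowers_iff.mpr ⟨(i.val : ℤ), ?_⟩
      rw [← Subgroup.coe_zpow, ← map_zpow, r_one_zpow]
      simp only [Int.cast_natCast, ZMod.natCast_zmod_val, ← hi, MulEquiv.symm_apply_apply]
    · exfalso
      have hc : (e.symm (r 1)) * ⟨t, htS⟩ = ⟨t, htS⟩ * e.symm (r 1) :=
        Subtype.ext (htZ _ (e.symm (r 1)).2)
      have hc' := congrArg e hc
      rw [map_mul, map_mul, MulEquiv.apply_symm_apply, hi, r_mul_sr, sr_mul_r] at hc'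
      have h2 : ((2 : ℕ) : ZMod n) = 0 := by
        have := sr.inj hc'
        push_cast
        linear_combination -this
      rw [ZMod.natCast_eq_zero_iff] at h2
      have := Nat.le_of_dvd (by omega) h2
      omega

/-- `C(t) = O S` gives the configuration. -/
theorem Setting.of_dihedral {n : ℕ} (hn : 2 ≤ n) (S : Sylow 2 G)
    (e : (S : Subgroup G) ≃* DihedralGroup n) {t : G} (ht : orderOf t = 2)
    (O : Subgroup G) (hO2 : Odd (Nat.card O))
    (hgen : ∀ g, g * t = t * g → ∃ a ∈ O, ∃ b ∈ (S : Subgroup G), a * b = g)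
    (hOt : ∀ a ∈ O, a * t = t * a)
    (htZ : ∀ s ∈ (S : Subgroup G), s * t = t * s)
    (R : Subgroup G) (hR : R ≤ S) (hcyc : IsCyclic R) (hidx : R.relIndex (S : Subgroup G) = 2)
    (htR : t ∈ R) (hRO : ∀ r ∈ R, ∀ a ∈ O, r * a = a * r)
    (hSO : ∀ s ∈ (S : Subgroup G), s ∉ R → ∀ a ∈ O, s * a * s⁻¹ = a⁻¹)
    (hc : ∀ Y : Subgroup G, Y ≤ O → Y ≠ ⊥ →
      Subgroup.normalizer (Y : Set G) ≤ Subgroup.centralizer ({t} : Set G))
    (hconj : ∀ x y : G, orderOf x = 2 → orderOf y = 2 → IsConj x y) :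
    ∃ (K : Subgroup G) (s : G), Setting t K s ∧
      K ⊔ Subgroup.zpowers s = Subgroup.centralizer ({t} : Set G) := by
  haveI := Fact.mk Nat.prime_two
  have hout := outside_cyclic_of_dihedral hn (S : Subgroup G) R e hR hcyc hidx
  obtain ⟨a0, ha0⟩ := Subgroup.index_eq_two_iff.mp hidx
  have hmulR : ∀ b ∈ (S : Subgroup G), ∀ c ∈ (S : Subgroup G), b ∉ R → c ∉ R → b * c ∈ R := by
    intro b hb c hc hbR hcR
    have := (Subgroup.mul_mem_iff_of_index_two hidx (a := (⟨b, hb⟩ : (S : Subgroup G)))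
      (b := ⟨c, hc⟩))
    simp only [Subgroup.mem_subgroupOf, Subgroup.coe_mul, hbR, hcR] at this
    exact this.mpr trivial
  obtain ⟨s, hsS, hsR⟩ : ∃ s ∈ (S : Subgroup G), s ∉ R := by
    by_contra hno
    push Not at hno
    have : R.relIndex (S : Subgroup G) = 1 := Subgroup.relIndex_eq_one.mpr hno
    omega
  obtain ⟨hs2, hsinv⟩ := hout s hsS hsR
  have hOcomm : ∀ a ∈ O, ∀ b ∈ O, a * b = b * a := by
    intro a ha b hb
    have h := hSO s hsS hsR _ (O.mul_mem ha hb)
    rw [show s * (a * b) * s⁻¹ = (s * a * s⁻¹) * (s * b * s⁻¹) by group, hSO s hsS hsR a ha,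
      hSO s hsS hsR b hb, ← mul_inv_rev, inv_inj] at h
    exact h.symm
  have hRn : R ≤ Subgroup.normalizer (O : Set G) := fun x hx =>
    Subgroup.mem_normalizer_iff.mpr fun y => ⟨fun hy => by
      rw [hRO x hx y hy, mul_inv_cancel_right]; exact hy, fun hy => by
      have := hRO x⁻¹ (R.inv_mem hx) _ hy
      rw [show x⁻¹ * (x * y * x⁻¹) = y * x⁻¹ by group] at this
      rwa [← mul_right_cancel this] at hy⟩
  set K := O ⊔ R with hK
  have hmem : ∀ x, x ∈ K ↔ ∃ a ∈ O, ∃ b ∈ R, a * b = x := fun x => by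
    rw [hK, ← SetLike.mem_coe, Subgroup.coe_mul_of_right_le_normalizer_left O R hRn]
    rfl
  have hOS : ∀ x ∈ O, x ∈ (S : Subgroup G) → x = 1 := by
    intro x hx hxS
    obtain ⟨k, hk⟩ := S.2 ⟨x, hxS⟩
    have h1 : x ^ 2 ^ k = 1 := congrArg Subtype.val hk
    have h2 : x ^ Nat.card O = 1 := congrArg Subtype.val (pow_card_eq_one' (x := (⟨x, hx⟩ : O)))
    have h3 := pow_gcd_eq_one.mpr ⟨h1, h2⟩
    rwa [((Nat.coprime_two_left.mpr hO2).pow_left k).gcd_eq_one, pow_one] at h3
  have hRcomm : ∀ a ∈ R, ∀ b ∈ R, a * b = b * a := fun a ha b hb =>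
    congrArg Subtype.val ((IsCyclic.commGroup (α := R)).mul_comm ⟨a, ha⟩ ⟨b, hb⟩)
  have hKcomm : ∀ x ∈ K, ∀ y ∈ K, x * y = y * x := by
    intro x hx y hy
    obtain ⟨a, ha, b, hb, rfl⟩ := (hmem x).mp hx
    obtain ⟨c, hc, d, hd, rfl⟩ := (hmem y).mp hy
    exact Commute.mul_mul_mul_comm (hRO b hb c hc) a d |>.trans (by
      rw [hOcomm a ha c hc, hRcomm b hb d hd]
      exact (Commute.mul_mul_mul_comm (hRO d hd a ha) c b).symm)
  have htK : t ∈ K := Subgroup.mem_sup_right htR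
  have ht1 : t ≠ 1 := (orderOf_two_iff.mp ht).2
  have htt : t * t = 1 := (orderOf_two_iff.mp ht).1
  have hRuniq : ∀ x ∈ R, x * x = 1 → x = 1 ∨ x = t := by
    intro x hx hxx
    by_contra hne
    push Not at hne
    classical
    haveI := Fintype.ofFinite R
    have hle : (Finset.univ.filter fun a : R => a ^ 2 = 1).card ≤ 2 :=
      IsCyclic.card_pow_eq_one_le (by omega)
    have hge : ({1, ⟨t, htR⟩, ⟨x, hx⟩} : Finset R).card ≤
        (Finset.univ.filter fun a : R => a ^ 2 = 1).card := by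
      refine Finset.card_le_card fun a ha => ?_
      simp only [Finset.mem_insert, Finset.mem_singleton] at ha
      rcases ha with rfl | rfl | rfl <;>
        simp [pow_two, Subtype.ext_iff, htt, hxx]
    rw [Finset.card_insert_of_notMem, Finset.card_insert_of_notMem, Finset.card_singleton] at hge
    · omega
    · simp [Subtype.ext_iff, Ne.symm hne.2]
    · simp [Subtype.ext_iff, Ne.symm ht1, Ne.symm hne.1]
  have hOodd : ∀ a ∈ O, a * a = 1 → a = 1 := by
    intro a ha haa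
    by_contra h1
    have := Subgroup.orderOf_dvd_natCard O ha
    rw [orderOf_two_iff.mpr ⟨haa, h1⟩] at this
    exact Nat.not_even_iff_odd.mpr hO2 (even_iff_two_dvd.mpr this)
  have hinv : ∀ x ∈ K, ∀ z ∈ (S : Subgroup G), z ∉ R → z * x * z⁻¹ = x⁻¹ := by
    intro x hx z hz hzR
    obtain ⟨a, ha, b, hb, rfl⟩ := (hmem x).mp hx
    rw [show z * (a * b) * z⁻¹ = (z * a * z⁻¹) * (z * b * z⁻¹) by group, hSO z hz hzR a ha,
      (hout z hz hzR).2 b hb, ← mul_inv_rev, hRO b hb a ha]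
  have huniq : ∀ x ∈ K, x * x = 1 → x = 1 ∨ x = t := by
    intro x hx hxx
    obtain ⟨a, ha, b, hb, rfl⟩ := (hmem x).mp hx
    rw [Commute.mul_mul_mul_comm (hRO b hb a ha) a b] at hxx
    have ha2 : a * a = 1 := hOS _ (O.mul_mem ha ha) (by
      rw [eq_inv_of_mul_eq_one_left hxx]
      exact (S : Subgroup G).inv_mem ((S : Subgroup G).mul_mem (hR hb) (hR hb)))
    have ha1 := hOodd a ha ha2
    subst ha1
    rw [one_mul] at hxx ⊢
    exact hRuniq b hb (by simpa using hxx)
  have hsK : s ∉ K := by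
    intro h
    obtain ⟨a, ha, b, hb, he⟩ := (hmem s).mp h
    have : a = 1 := hOS a ha (by
      rw [eq_mul_inv_of_mul_eq he]
      exact (S : Subgroup G).mul_mem hsS ((S : Subgroup G).inv_mem (hR hb)))
    exact hsR (by rw [← he, this, one_mul]; exact hb)
  have hst : s * t = t * s := htZ s hsS
  have hKt : ∀ x ∈ K, x * t = t * x := fun x hx => hKcomm x hx t htK
  have hss := (orderOf_two_iff.mp hs2).1
  have hcent : ∀ g, g * t = t * g ↔ g ∈ K ∨ g * s ∈ K := by
    intro g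
    constructor
    · intro hg
      obtain ⟨a, ha, b, hb, rfl⟩ := hgen g hg
      by_cases hbR : b ∈ R
      · exact Or.inl ((hmem _).mpr ⟨a, ha, b, hbR, rfl⟩)
      · exact Or.inr ((hmem _).mpr ⟨a, ha, b * s, hmulR b hb s hsS hbR hsR, (mul_assoc _ _ _).symm⟩)
    · rintro (hg | hg)
      · exact hKt g hg
      · have h1 : Commute (g * s) t := hKt _ hg
        have h2 : Commute s t := hst
        have := h1.mul_left h2
        rwa [mul_assoc, hss, mul_one] at this
  have hodd : ∀ x ∈ K, Odd (orderOf x) → x ∈ O := by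
    intro x hx ho
    obtain ⟨a, ha, b, hb, rfl⟩ := (hmem x).mp hx
    have hab : Commute a b := (hRO b hb a ha).symm
    set m := orderOf (a * b) with hm
    have h1 : a ^ m * b ^ m = 1 := by rw [← hab.mul_pow, hm, pow_orderOf_eq_one]
    have h2 : a ^ m = 1 := hOS _ (O.pow_mem ha m) (by
      rw [eq_inv_of_mul_eq_one_left h1]
      exact (S : Subgroup G).inv_mem ((S : Subgroup G).pow_mem (hR hb) m))
    rw [h2, one_mul] at h1
    obtain ⟨k, hk⟩ := S.2 ⟨b, hR hb⟩
    have h3 : b ^ 2 ^ k = 1 := congrArg Subtype.val hk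
    have h4 := pow_gcd_eq_one.mpr ⟨h3, h1⟩
    rw [((Nat.coprime_two_left.mpr ho).pow_left k).gcd_eq_one, pow_one] at h4
    rw [h4, mul_one]; exact ha
  have hti : ∀ g, ∀ x ∈ K, x ≠ 1 → g * x * g⁻¹ ∈ K → g * t = t * g := by
    intro g x hx hx1 hg
    have hgoal : ∀ c, g * t * g⁻¹ = c → c = t → g * t = t * g := fun c h1 h2 =>
      mul_inv_eq_iff_eq_mul.mp (h1.trans h2)
    refine hgoal _ rfl ?_
    have hgt1 : g * t * g⁻¹ ≠ 1 := fun h => ht1 (conj_eq_one_iff.mp h)
    have hgtt : g * t * g⁻¹ * (g * t * g⁻¹) = 1 := by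
      rw [show g * t * g⁻¹ * (g * t * g⁻¹) = g * (t * t) * g⁻¹ by group, htt]; simp
    suffices hgK : g * t * g⁻¹ ∈ K from (huniq _ hgK hgtt).resolve_left hgt1
    rcases Nat.even_or_odd (orderOf x) with ho | ho
    · obtain ⟨m, hm⟩ := ho
      have hpos := orderOf_pos x
      have hw1 : x ^ m ≠ 1 := pow_ne_one_of_lt_orderOf (by omega) (by omega)
      have hw : x ^ m = t := (huniq _ (K.pow_mem hx m) (by
        rw [← pow_add, ← hm, pow_orderOf_eq_one])).resolve_left hw1
      rw [← hw, ← conj_pow]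
      exact K.pow_mem hg m
    · have hy := hodd _ hg (by rwa [orderOf_conj])
      set y := g * x * g⁻¹ with hydef
      have hy1 : y ≠ 1 := fun h => hx1 (conj_eq_one_iff.mp h)
      have hcy : Commute (g * t * g⁻¹) y := by
        rw [hydef]
        exact (Commute.symm (hKt x hx)).map (MulAut.conj g).toMonoidHom
      have hcC : g * t * g⁻¹ * t = t * (g * t * g⁻¹) := by
        refine Subgroup.mem_centralizer_singleton_iff.mp
          (hc (Subgroup.zpowers y) (Subgroup.zpowers_le.mpr hy)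
            (fun h => hy1 (Subgroup.zpowers_eq_bot.mp h)) ?_)
        refine Subgroup.centralizer_le_normalizer _ (Subgroup.mem_centralizer_iff.mpr ?_)
        rintro _ ⟨j, rfl⟩
        exact ((hcy.zpow_right j).symm).eq
      obtain ⟨a, ha, b, hb, hab⟩ := hgen _ hcC
      by_cases hbR : b ∈ R
      · rw [← hab]; exact (hmem _).mpr ⟨a, ha, b, hbR, rfl⟩
      · exfalso
        have h1 : g * t * g⁻¹ * y * (g * t * g⁻¹)⁻¹ = y⁻¹ := by
          rw [← hab, show a * b * y * (a * b)⁻¹ = a * (b * y * b⁻¹) * a⁻¹ by group,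
            hSO b hb hbR y hy, hOcomm a ha _ (O.inv_mem hy), mul_inv_cancel_right]
        rw [hcy.eq, mul_inv_cancel_right, eq_inv_iff_mul_eq_one] at h1
        exact hy1 (hOodd y hy h1)
  refine ⟨K, s, ⟨ht, hs2, hKcomm, htK, fun x hx => hinv x hx s hsS hsR, huniq, hsK, hcent,
    hti, hconj⟩, le_antisymm (sup_le (fun x hx => ?_) ?_) fun g hg => ?_⟩
  · exact Subgroup.mem_centralizer_singleton_iff.mpr (hKt x hx)
  · exact Subgroup.zpowers_le.mpr (Subgroup.mem_centralizer_singleton_iff.mpr hst)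
  · rcases (hcent g).mp (Subgroup.mem_centralizer_singleton_iff.mp hg) with h | h
    · exact Subgroup.mem_sup_left h
    · have := (K ⊔ Subgroup.zpowers s).mul_mem (Subgroup.mem_sup_left h)
        (Subgroup.mem_sup_right (Subgroup.mem_zpowers s))
      rwa [mul_assoc, hss, mul_one] at this

end CfsgLib.BSW
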