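import Mathlib

/-!
# A Frobenius group of operators forces elements of order `p ^ 2`

If `R⟨u⟩` acts on the abelian group `V`, `R` without fixed points, `⟨u⟩` of exponent `p` without
fixed points on `R`, and every `v r u r⁻¹` has `p`-th power one, then `v ^ |R| = 1` on `V`.
-/

set_option autoImplicit false
set_option linter.unusedSectionVars false

open scoped Classical

namespace CfsgLib.BSW

variable {G : Type*} [Group G] [Finite G]

/-- Conjugation on a subgroup by an element, where defined. -/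
noncomputable def cj (V : Subgroup G) (g : G) (v : V) : V :=
  if hm : g * (v : G) * g⁻¹ ∈ V then ⟨g * v * g⁻¹, hm⟩ else 1

theorem coe_cj {V : Subgroup G} {g : G} (hg : g ∈ Subgroup.normalizer (V : Set G)) (v : V) :
    (cj V g v : G) = g * v * g⁻¹ := by
  rw [cj, dif_pos ((Subgroup.mem_normalizer_iff.mp hg _).mp v.2)]

theorem cj_mul {V : Subgroup G} {g k : G} (hg : g ∈ Subgroup.normalizer (V : Set G))
    (hk : k ∈ Subgroup.normalizer (V : Set G)) (v : V) : cj V (g * k) v = cj V g (cj V k v) := by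
  refine Subtype.ext ?_
  rw [coe_cj (mul_mem hg hk), coe_cj hg, coe_cj hk]
  group

theorem cj_one {V : Subgroup G} (v : V) : cj V 1 v = v :=
  Subtype.ext (by rw [coe_cj (one_mem _)]; simp)

/-- Conjugation as an endomorphism. -/
noncomputable def cjHom {V : Subgroup G} {g : G} (hg : g ∈ Subgroup.normalizer (V : Set G)) :
    V →* V where
  toFun := cj V g
  map_one' := Subtype.ext (by rw [coe_cj hg]; simp)
  map_mul' a b := Subtype.ext (by
    simp only [Subgroup.coe_mul, coe_cj hg]; group)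

theorem pow_card_eq_one_of_frobenius {V R : Subgroup G} {u : G} {p : ℕ} (hp : 0 < p)
    (hVc : ∀ a ∈ V, ∀ b ∈ V, a * b = b * a) (hR : R ≤ Subgroup.normalizer (V : Set G))
    (hu : u ∈ Subgroup.normalizer (V : Set G)) (huR : u ∈ Subgroup.normalizer (R : Set G))
    (hup : u ^ p = 1) (hcu : ∀ i, 0 < i → i < p → ∀ r ∈ R, r * u ^ i = u ^ i * r → r = 1)
    (hRV : ∀ v ∈ V, (∀ r ∈ R, r * v = v * r) → v = 1)
    (hexp : ∀ v ∈ V, ∀ r ∈ R, (v * (r * u * r⁻¹)) ^ p = 1) {v₀ : G} (hv₀ : v₀ ∈ V) :
    v₀ ^ Nat.card R = 1 := by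
  letI : CommGroup V := { (inferInstance : Group V) with
    mul_comm := fun a b => Subtype.ext (hVc a a.2 b b.2) }
  haveI := Fintype.ofFinite R
  set N := Subgroup.normalizer (V : Set G)
  set v : V := ⟨v₀, hv₀⟩
  have hw : ∀ r : R, (r : G) * u * (r : G)⁻¹ ∈ N := fun r =>
    mul_mem (mul_mem (hR r.2) hu) (inv_mem (hR r.2))
  -- the power formula
  have hpow : ∀ (w : G) (hwN : w ∈ N) (n : ℕ),
      ((∏ i ∈ Finset.range n, cj V (w ^ i) v : V) : G) * w ^ n = (v₀ * w) ^ n := by
    intro w hwN n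
    induction n with
    | zero => simp
    | succ n ih =>
      rw [pow_succ' (v₀ * w), ← ih, Finset.prod_range_succ', pow_zero, cj_one, mul_comm]
      have e : ∏ i ∈ Finset.range n, cj V (w ^ (i + 1)) v =
          cj V w (∏ i ∈ Finset.range n, cj V (w ^ i) v) := by
        show _ = cjHom hwN _
        rw [map_prod]
        refine Finset.prod_congr rfl fun i _ => ?_
        show _ = cj V w _
        rw [pow_succ', cj_mul hwN (pow_mem hwN i)]
      rw [e, Subgroup.coe_mul, coe_cj hwN, show (v : G) = v₀ from rfl, pow_succ']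
      group
  -- all the `p`-th powers vanish
  have hzero : ∀ r : R, ∏ i ∈ Finset.range p, cj V ((r : G) * u ^ i * (r : G)⁻¹) v = 1 := by
    intro r
    refine Subtype.ext ?_
    have h1 := hpow _ (hw r) p
    have hwp : ((r : G) * u * (r : G)⁻¹) ^ p = 1 := by rw [conj_pow, hup]; group
    rw [hwp, mul_one, hexp v₀ hv₀ r r.2] at h1
    rw [Subgroup.coe_one, ← h1]
    exact congrArg Subtype.val (Finset.prod_congr rfl fun i _ => by rw [conj_pow])
  -- the terms with `i ≠ 0` vanish after averaging over `R`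
  have havg : ∀ i, 0 < i → i < p → ∏ r : R, cj V ((r : G) * u ^ i * (r : G)⁻¹) v = 1 := by
    intro i hi hip
    have hmem : ∀ r : R, (r : G) * u ^ i * (r : G)⁻¹ * (u ^ i)⁻¹ ∈ R := fun r => by
      rw [show (r : G) * u ^ i * (r : G)⁻¹ * (u ^ i)⁻¹ =
        (r : G) * (u ^ i * (r : G)⁻¹ * (u ^ i)⁻¹) by group]
      exact R.mul_mem r.2 ((Subgroup.mem_normalizer_iff.mp (pow_mem huR i) _).mp (R.inv_mem r.2))
    let φ : R → R := fun r => ⟨_, hmem r⟩
    have hinj : Function.Injective φ := by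
      intro a b e
      have e' : (a : G) * u ^ i * (a : G)⁻¹ = (b : G) * u ^ i * (b : G)⁻¹ :=
        mul_right_cancel (congrArg Subtype.val e)
      have hc := hcu i hi hip ((b : G)⁻¹ * a) (R.mul_mem (R.inv_mem b.2) a.2) (by
        calc (b : G)⁻¹ * a * u ^ i = (b : G)⁻¹ * ((a : G) * u ^ i * (a : G)⁻¹) * a := by group
          _ = (b : G)⁻¹ * ((b : G) * u ^ i * (b : G)⁻¹) * a := by rw [e']
          _ = u ^ i * ((b : G)⁻¹ * a) := by group)
      exact Subtype.ext (inv_mul_eq_one.mp hc).symm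
    set v' := cj V (u ^ i) v
    have hterm : ∀ r : R, cj V ((r : G) * u ^ i * (r : G)⁻¹) v = cj V ((φ r : R) : G) v' := by
      intro r
      rw [← cj_mul (hR (φ r).2) (pow_mem hu i)]
      congr 1
      show _ = (r : G) * u ^ i * (r : G)⁻¹ * (u ^ i)⁻¹ * u ^ i
      rw [inv_mul_cancel_right]
    rw [Fintype.prod_congr _ _ hterm,
      Function.Bijective.prod_comp (Finite.injective_iff_bijective.mp hinj)
        (fun r : R => cj V (r : G) v')]
    refine Subtype.ext (hRV _ (SetLike.coe_mem _) fun r hr => ?_)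
    have hfix : cjHom (hR hr) (∏ x : R, cj V (x : G) v') = ∏ x : R, cj V (x : G) v' := by
      rw [map_prod]
      refine Fintype.prod_equiv (Equiv.mulLeft ⟨r, hr⟩) _ _ fun x => ?_
      show cj V r (cj V (x : G) v') = cj V (r * (x : G)) v'
      rw [cj_mul (hR hr) (hR x.2)]
    have h2 : (cj V r (∏ x : R, cj V (x : G) v') : G) = (∏ x : R, cj V (x : G) v' : V) :=
      congrArg Subtype.val hfix
    rw [coe_cj (hR hr)] at h2
    exact mul_inv_eq_iff_eq_mul.mp h2
  have h0 : ∏ r : R, ∏ i ∈ Finset.range p, cj V ((r : G) * u ^ i * (r : G)⁻¹) v = 1 :=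
    Finset.prod_eq_one fun r _ => hzero r
  rw [Finset.prod_comm, Finset.prod_eq_single_of_mem 0 (Finset.mem_range.mpr hp) fun i hi hi0 =>
    havg i (Nat.pos_of_ne_zero hi0) (Finset.mem_range.mp hi)] at h0
  rw [Fintype.prod_congr _ _ fun r : R => show cj V ((r : G) * u ^ 0 * (r : G)⁻¹) v = v by
      rw [pow_zero, mul_one, mul_inv_cancel, cj_one], Finset.prod_const, Finset.card_univ,
    ← Nat.card_eq_fintype_card] at h0
  exact congrArg Subtype.val h0

end CfsgLib.BSW
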