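import Cfsg.Agent.Lib.BSW.Coeff

/-!
# The linear characters of `K`

Exactly one nontrivial character of `K` is real; the coefficients of conjugate characters agree.
-/

set_option autoImplicit false
set_option linter.unusedSectionVars false

open scoped Classical

namespace CfsgLib.BSW

open Cfsg CfsgLib.Char
open scoped ComplexConjugate

variable {G : Type*} [Group G] [Fintype G] {K : Subgroup G} {t s : G}

theorem conjPerm_conjPerm {A : Type*} [Group A] [Finite A] (l : IrrCharacter A) :
    conjPerm (conjPerm l) = l :=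
  Subtype.ext (funext fun x => by rw [conjPerm_apply, conjPerm_apply, Complex.conj_conj])

theorem conjPerm_triv {A : Type*} [Group A] [Finite A] : conjPerm (triv A) = triv A :=
  Subtype.ext (funext fun x => by rw [conjPerm_apply, triv_apply, map_one])

theorem conjPerm_ne_triv {A : Type*} [Group A] [Finite A] {l : IrrCharacter A} (h : l ≠ triv A) :
    conjPerm l ≠ triv A := fun e => h (by
  rw [← conjPerm_conjPerm l, e, conjPerm_triv])

theorem Setting.isConj_iff_eq (h : Setting t K s) (a b : K) : IsConj a b ↔ a = b := by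
  refine ⟨fun e => ?_, fun e => e ▸ IsConj.refl a⟩
  obtain ⟨c, hc⟩ := isConj_iff.mp e
  rw [← hc]
  refine Subtype.ext ?_
  show (a : G) = c * a * (c : G)⁻¹
  rw [h.comm c c.2 a a.2, mul_inv_cancel_right]

theorem Setting.card_conjClasses (h : Setting t K s) : Nat.card (ConjClasses K) = Nat.card K := by
  refine (Nat.card_congr (Equiv.ofBijective ConjClasses.mk ⟨fun a b e => ?_, ?_⟩)).symm
  · exact (h.isConj_iff_eq a b).mp (ConjClasses.mk_eq_mk_iff_isConj.mp e)
  · exact ConjClasses.mk_surjective

theorem Setting.card_irr (h : Setting t K s) :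
    Fintype.card (IrrCharacter K) = Nat.card K := by
  rw [← Nat.card_eq_fintype_card, card_irr_eq_card_conjClasses, h.card_conjClasses]

/-- There is exactly one nontrivial real character. -/
theorem Setting.exists_real (h : Setting t K s) :
    ∃ l0 : IrrCharacter K, l0 ≠ triv K ∧ conjPerm l0 = l0 ∧
      ∀ l : IrrCharacter K, l ≠ triv K → conjPerm l = l → l = l0 := by
  have hc : Nat.card {χ : IrrCharacter K // ∀ g : K, ((χ : K → ℂ) g).im = 0} = 2 := by
    rw [card_real_irr]
    rw [Nat.card_congr (Equiv.subtypeEquiv (p := fun x : K => x = 1 ∨ x = ⟨t, h.tK⟩)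
      (Equiv.ofBijective ConjClasses.mk ⟨fun a b e =>
        (h.isConj_iff_eq a b).mp (ConjClasses.mk_eq_mk_iff_isConj.mp e),
        ConjClasses.mk_surjective⟩) fun x => ?_).symm]
    · rw [Nat.card_eq_fintype_card, Fintype.card_subtype]
      have : (Finset.univ.filter fun x : K => x = 1 ∨ x = ⟨t, h.tK⟩) = {1, ⟨t, h.tK⟩} := by
        ext; simp
      rw [this, Finset.card_pair]
      exact fun e => h.t_ne (congrArg Subtype.val e).symm
    · show _ ↔ ∀ g : K, ConjClasses.mk g = ConjClasses.mk x → IsConj g g⁻¹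
      constructor
      · intro hx g hg
        rw [(h.isConj_iff_eq g x).mp (ConjClasses.mk_eq_mk_iff_isConj.mp hg), h.isConj_iff_eq]
        rcases hx with rfl | rfl
        · rw [inv_one]
        · exact Subtype.ext (inv_of_two h.t2).symm
      · intro hx
        have h1 := (h.isConj_iff_eq _ _).mp (hx x rfl)
        have h2 : (x : G) * x = 1 :=
          mul_eq_one_iff_eq_inv.mpr (congrArg Subtype.val h1)
        rcases h.uniq x x.2 h2 with e | e
        exacts [Or.inl (Subtype.ext e), Or.inr (Subtype.ext e)]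
  have hreal : ∀ l : IrrCharacter K, (∀ g, ((l : K → ℂ) g).im = 0) ↔ conjPerm l = l := fun l => by
    rw [Subtype.ext_iff, funext_iff]
    exact forall_congr' fun g => Complex.conj_eq_iff_im.symm
  rw [Nat.card_eq_fintype_card, Fintype.card_subtype] at hc
  obtain ⟨a, b, hab, hS⟩ := Finset.card_eq_two.mp hc
  have hmem : ∀ l : IrrCharacter K, conjPerm l = l ↔ l = a ∨ l = b := fun l => by
    rw [← hreal]
    simpa using Finset.ext_iff.mp hS l
  rcases (hmem (triv K)).mp conjPerm_triv with e | e
  · refine ⟨b, fun hb => hab (e.symm.trans hb.symm), (hmem b).mpr (Or.inr rfl), fun l hl hl' => ?_⟩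
    exact ((hmem l).mp hl').resolve_left fun h' => hl (h'.trans e.symm)
  · refine ⟨a, fun ha => hab (ha.trans e), (hmem a).mpr (Or.inl rfl), fun l hl hl' => ?_⟩
    exact ((hmem l).mp hl').resolve_right fun h' => hl (h'.trans e.symm)

/-- Weight of a nontrivial character: one for the conjugate pairs, two for the real one. -/
noncomputable def wt (l : IrrCharacter K) : ℕ := if conjPerm l = l then 2 else 1

theorem wt_conj (l : IrrCharacter K) : wt (conjPerm l) = wt l := by
  unfold wt
  rw [conjPerm_conjPerm]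
  by_cases e : conjPerm l = l
  · rw [if_pos e.symm, if_pos e]
  · rw [if_neg (fun e' => e e'.symm), if_neg e]

theorem Setting.real_unique (h : Setting t K s) {l m : IrrCharacter K} (hl : l ≠ triv K)
    (hm : m ≠ triv K) (el : conjPerm l = l) (em : conjPerm m = m) : l = m := by
  obtain ⟨l0, -, -, hu⟩ := h.exists_real
  rw [hu l hl el, hu m hm em]

theorem Setting.gram_self (h : Setting t K s) {l : IrrCharacter K} (hl : l ≠ triv K) :
    ∑ χ : IrrCharacter G, coeff K l χ * coeff K l χ = 2 + (wt l : ℤ) := by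
  rw [h.gram hl hl, if_pos rfl, wt]
  by_cases e : conjPerm l = l
  · rw [if_pos e.symm, if_pos e]; norm_num
  · rw [if_neg (fun e' => e e'.symm), if_neg e]; norm_num

theorem Setting.gram_apart (h : Setting t K s) {l m : IrrCharacter K} (hl : l ≠ triv K)
    (hm : m ≠ triv K) (h1 : l ≠ m) (h2 : l ≠ conjPerm m) :
    ∑ χ : IrrCharacter G, coeff K l χ * coeff K m χ = 2 := by
  rw [h.gram hl hm, if_neg h1, if_neg h2]; norm_num

/-- Conjugate characters have the same coefficients. -/
theorem Setting.coeff_conj (h : Setting t K s) (l : IrrCharacter K) (χ : IrrCharacter G) :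
    coeff K (conjPerm l) χ = coeff K l χ := by
  by_cases e : conjPerm l = l
  · rw [e]
  by_cases hl : l = triv K
  · exact absurd (hl ▸ conjPerm_triv) e
  have h1 := h.gram_self hl
  have h2 := h.gram_self (conjPerm_ne_triv hl)
  rw [wt_conj] at h2
  have h3 := h.gram hl (conjPerm_ne_triv hl)
  rw [if_neg (fun e' => e e'.symm), conjPerm_conjPerm, if_pos rfl] at h3
  have hw : wt l = 1 := if_neg e
  have h4 : ∑ χ : IrrCharacter G, (coeff K (conjPerm l) χ - coeff K l χ) ^ 2 = 0 := by
    rw [Finset.sum_congr rfl fun χ _ =>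
      (by ring : (coeff K (conjPerm l) χ - coeff K l χ) ^ 2 =
        coeff K (conjPerm l) χ * coeff K (conjPerm l) χ + coeff K l χ * coeff K l χ -
          2 * (coeff K l χ * coeff K (conjPerm l) χ))]
    rw [Finset.sum_sub_distrib, Finset.sum_add_distrib, ← Finset.mul_sum, h1, h2, h3, hw]
    norm_num
  have := (Finset.sum_eq_zero_iff_of_nonneg fun χ _ => sq_nonneg _).mp h4 χ (Finset.mem_univ _)
  linarith [sq_eq_zero_iff.mp this]

theorem Setting.sign_t (h : Setting t K s) (l : IrrCharacter K) :
    (l : K → ℂ) ⟨t, h.tK⟩ = 1 ∨ (l : K → ℂ) ⟨t, h.tK⟩ = -1 := by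
  refine mul_self_eq_one_iff.mp ?_
  rw [← h.lin_mul l, show (⟨t, h.tK⟩ : K) * ⟨t, h.tK⟩ = 1 from Subtype.ext h.tt, h.degree_one l]

theorem Setting.sum_t (h : Setting t K s) :
    ∑ l : IrrCharacter K, (l : K → ℂ) ⟨t, h.tK⟩ = 0 := by
  have := sum_degree_mul_irr (⟨t, h.tK⟩ : K)
  rw [if_neg (fun e => h.t_ne (congrArg Subtype.val e))] at this
  rw [← this]
  exact Finset.sum_congr rfl fun l _ => by rw [h.degree_one l, one_mul]

/-- The degree of an irreducible character. -/
noncomputable def deg (χ : IrrCharacter G) : ℕ :=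
  (exists_nat_degree (isCharacter_of_isIrr χ.2)).choose

theorem deg_spec (χ : IrrCharacter G) : (χ : G → ℂ) 1 = (deg χ : ℂ) :=
  (exists_nat_degree (isCharacter_of_isIrr χ.2)).choose_spec

theorem deg_ne_zero (χ : IrrCharacter G) : deg χ ≠ 0 := fun e =>
  irr_degree_ne_zero χ.2 (by rw [deg_spec, e, Nat.cast_zero])

theorem deg_triv : deg (triv G) = 1 := by
  have := deg_spec (triv G)
  rw [triv_apply] at this
  exact_mod_cast this.symm

theorem sum_sq_deg : ∑ χ : IrrCharacter G, (deg χ : ℤ) ^ 2 = (Nat.card G : ℤ) := by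
  have := sum_sq_degree (G := G)
  simp only [deg_spec] at this
  exact_mod_cast this

theorem Setting.sum_deg_int (h : Setting t K s) (l : IrrCharacter K) :
    ∑ χ : IrrCharacter G, coeff K l χ * (deg χ : ℤ) = 0 := by
  have := h.sum_deg l
  simp only [deg_spec] at this
  exact_mod_cast this

end CfsgLib.BSW
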