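import Cfsg.Agent.Lib.BSW.MinusTorus
import Cfsg.Agent.Lib.BSW.Count

/-!
# The Brauer–Suzuki–Wall theorem: order and the subgroups `Q`, `D`
-/

set_option autoImplicit false
set_option linter.unusedSectionVars false

namespace CfsgLib.BSW

variable {G : Type*} [Group G] [Finite G] {t s : G} {K : Subgroup G}

theorem Setting.of_frozen (t : G) (ht : orderOf t = 2)
    (K : Subgroup G) (hKab : IsMulCommutative ↥K)
    (hKH : K ≤ Subgroup.centralizer ({t} : Set G)) (htK : t ∈ K)
    (s : G) (hs : orderOf s = 2) (hsH : s ∈ Subgroup.centralizer ({t} : Set G)) (hsK : s ∉ K)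
    (hH : K ⊔ Subgroup.zpowers s = Subgroup.centralizer ({t} : Set G))
    (hCK : K ⊓ Subgroup.centralizer ({s} : Set G) = Subgroup.zpowers t)
    (hinv : ∀ x ∈ K, s * x * s⁻¹ = x⁻¹)
    (hTI : ∀ g : G, g ∉ Subgroup.centralizer ({t} : Set G) →
      K ⊓ K.map (MulAut.conj g).toMonoidHom = ⊥)
    (hconj : ∀ x y : G, orderOf x = 2 → orderOf y = 2 → IsConj x y) : Setting t K s where
  t2 := ht
  s2 := hs
  comm a ha b hb := congrArg Subtype.val (hKab.is_comm.comm ⟨a, ha⟩ ⟨b, hb⟩)
  tK := htK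
  inv := hinv
  uniq x hx hxx := by
    have hxs : x ∈ K ⊓ Subgroup.centralizer ({s} : Set G) := by
      refine ⟨hx, Subgroup.mem_centralizer_singleton_iff.mpr ?_⟩
      have e := hinv x hx
      rw [inv_eq_of_mul_eq_one_right hxx] at e
      exact (mul_inv_eq_iff_eq_mul.mp e).symm
    rw [hCK, Subgroup.mem_zpowers_iff] at hxs
    obtain ⟨j, rfl⟩ := hxs
    rcases Int.even_or_odd j with ⟨i, rfl⟩ | ⟨i, rfl⟩
    · left
      rw [← two_mul, zpow_mul, zpow_two, (orderOf_two_iff.mp ht).1, one_zpow]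
    · right
      rw [zpow_add_one, zpow_mul, zpow_two, (orderOf_two_iff.mp ht).1, one_zpow, one_mul]
  sK := hsK
  cent g := by
    rw [← Subgroup.mem_centralizer_singleton_iff, ← hH]
    constructor
    · intro hg
      have hsn : Subgroup.zpowers s ≤ Subgroup.normalizer (K : Set G) := by
        rw [Subgroup.zpowers_le, Subgroup.mem_normalizer_iff]
        intro x
        refine ⟨fun hx => by rw [hinv x hx]; exact K.inv_mem hx, fun hx => ?_⟩
        have := hinv _ hx
        rw [inv_of_two hs, show s * (s * x * s) * s = (s * s) * x * (s * s) by group,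
          (orderOf_two_iff.mp hs).1, one_mul, mul_one] at this
        rw [this]
        exact K.inv_mem (by rwa [inv_of_two hs] at hx)
      rw [← SetLike.mem_coe,
        Subgroup.coe_mul_of_right_le_normalizer_left K (Subgroup.zpowers s) hsn] at hg
      obtain ⟨a, ha, b, hb, rfl⟩ := hg
      obtain ⟨j, rfl⟩ := Subgroup.mem_zpowers_iff.mp hb
      rcases Int.even_or_odd j with ⟨i, rfl⟩ | ⟨i, rfl⟩
      · left
        show a * s ^ (i + i) ∈ K
        rw [← two_mul, zpow_mul, zpow_two, (orderOf_two_iff.mp hs).1, one_zpow, mul_one]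
        exact ha
      · right
        show a * s ^ (2 * i + 1) * s ∈ K
        rw [zpow_add_one, zpow_mul, zpow_two, (orderOf_two_iff.mp hs).1, one_zpow, one_mul,
          mul_assoc, (orderOf_two_iff.mp hs).1, mul_one]
        exact ha
    · rintro (hg | hg)
      · exact Subgroup.mem_sup_left hg
      · have := (K ⊔ Subgroup.zpowers s).mul_mem (Subgroup.mem_sup_left hg)
          (Subgroup.mem_sup_right (Subgroup.mem_zpowers s))
        rwa [mul_assoc, (orderOf_two_iff.mp hs).1, mul_one] at this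
  ti g x hx hx1 hg := by
    by_contra hgt
    have h1 := hTI g fun e => hgt (Subgroup.mem_centralizer_singleton_iff.mp e)
    have : g * x * g⁻¹ = 1 := (Subgroup.eq_bot_iff_forall _).mp h1 _
      ⟨hg, (mem_map_conj K g x).mpr hx⟩
    exact hx1 (by simpa using this)
  conj := hconj

/-- The normaliser of a nontrivial subgroup of `K`. -/
theorem Setting.normalizer_le_K (h : Setting t K s) {X : Subgroup G} (hX : X ≤ K) (hX1 : X ≠ ⊥) :
    Subgroup.normalizer (X : Set G) = Subgroup.centralizer ({t} : Set G) := by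
  obtain ⟨⟨x, hx⟩, hx1⟩ := X.ne_bot_iff_exists_ne_one.mp hX1
  refine le_antisymm (fun g hg => ?_) fun g hg => ?_
  · exact Subgroup.mem_centralizer_singleton_iff.mpr
      (h.ti g x (hX hx) (fun e => hx1 (Subtype.ext e))
        (hX ((Subgroup.mem_normalizer_iff.mp hg x).mp hx)))
  · have key : ∀ c : G, c * t = t * c → ∀ w ∈ X, c * w * c⁻¹ ∈ X := by
      intro c hc w hw
      rcases h.conj_mem hc (hX hw) with ⟨-, e⟩ | ⟨-, e⟩ <;> rw [e]
      exacts [hw, X.inv_mem hw]
    have hc := Subgroup.mem_centralizer_singleton_iff.mp hg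
    refine Subgroup.mem_normalizer_iff.mpr fun w => ⟨key g hc w, fun hw => ?_⟩
    have := key g⁻¹ (Subgroup.mem_centralizer_singleton_iff.mp
      ((Subgroup.centralizer ({t} : Set G)).inv_mem hg)) _ hw
    rwa [inv_inv, show g⁻¹ * (g * w * g⁻¹) * g = w by group] at this

/-- The theorem. -/
theorem Setting.main (h : Setting t K s)
    (hH : K ⊔ Subgroup.zpowers s = Subgroup.centralizer ({t} : Set G)) :
    ∃ Q D : Subgroup G, 2 * Nat.card G = Nat.card ↥Q * (Nat.card ↥Q + 1) * (Nat.card ↥Q - 1) ∧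
      (∀ x ∈ Q, x ≠ 1 → Subgroup.centralizer ({x} : Set G) = Q) ∧
      IsMulCommutative ↥D ∧ 2 * Nat.card ↥D + 1 = Nat.card ↥Q ∧ Q ⊓ D = ⊥ ∧
      Subgroup.normalizer (Q : Set G) = Q ⊔ D ∧
      ∀ X : Subgroup G, X ≤ D → X ≠ ⊥ →
        Subgroup.normalizer (X : Set G) = Subgroup.normalizer (D : Set G) ∧
        ∃ u : G, orderOf u = 2 ∧ u ∉ D ∧ (∀ d ∈ D, u * d * u⁻¹ = d⁻¹) ∧
          Subgroup.normalizer (D : Set G) = D ⊔ Subgroup.zpowers u := by
  haveI := Fintype.ofFinite G
  obtain ⟨q, ⟨hq, hG, -, hU⟩ | ⟨hq, hG, hv, hU⟩⟩ := h.counts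
  · obtain ⟨Q, hQc, hQs, hinf, hsup, -⟩ := h.plus hq hG hU
    refine ⟨Q, K, ?_, hQs, ⟨⟨fun a b => Subtype.ext (h.comm a a.2 b b.2)⟩⟩, by omega, hinf,
      hsup.symm, fun X hX hX1 => ⟨?_, s, h.s2, h.sK, h.inv, ?_⟩⟩
    · rw [hQc, hG, show q - 1 = 2 * Nat.card K by omega]; ring
    · rw [h.normalizer_le_K hX hX1, h.normalizer_le_K le_rfl fun e => h.t_ne
        ((Subgroup.eq_bot_iff_forall _).mp e t h.tK)]
    · rw [h.normalizer_le_K le_rfl fun e => h.t_ne
        ((Subgroup.eq_bot_iff_forall _).mp e t h.tK), hH]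
  · have m : Minus K q := ⟨hq, hG, hv, hU⟩
    obtain ⟨Q, hQc, hQs, hQN, hQU⟩ := m.exists_Q h
    obtain ⟨D, hDc, hinf, hsup, hcomm, hD⟩ := m.exists_D h hQc hQs hQN hQU
    have hk := h.two_le
    refine ⟨Q, D, ?_, hQs, ⟨⟨fun a b => Subtype.ext (hcomm a a.2 b b.2)⟩⟩, by omega, hinf,
      hsup.symm, fun X hX hX1 => ?_⟩
    · rw [hQc, hG, show q + 1 = 2 * Nat.card K by omega]; ring
    obtain ⟨hsD, u, hu2, huD, hinv, hND⟩ := hD fun e => hX1 (le_bot_iff.mp (e ▸ hX))
    refine ⟨le_antisymm (fun g hg => ?_) ?_, u, hu2, huD, hinv, hND⟩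
    · obtain ⟨⟨x, hx⟩, hx1⟩ := X.ne_bot_iff_exists_ne_one.mp hX1
      exact hsD.normalizer_mem (hX hx) (fun e => hx1 (Subtype.ext e))
        (hX ((Subgroup.mem_normalizer_iff.mp hg x).mp hx))
    · rw [hND]
      refine sup_le (fun g hg => Subgroup.mem_normalizer_iff.mpr fun w => ?_)
        (Subgroup.zpowers_le.mpr (Subgroup.mem_normalizer_iff.mpr fun w => ?_))
      · constructor
        · intro hw
          rwa [hcomm g hg w (hX hw), mul_inv_cancel_right]
        · intro hw
          have e := hcomm g⁻¹ (D.inv_mem hg) _ (hX hw)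
          rw [show g⁻¹ * (g * w * g⁻¹) = w * g⁻¹ by group] at e
          rwa [← mul_right_cancel e] at hw
      · constructor
        · intro hw
          rw [hinv w (hX hw)]; exact X.inv_mem hw
        · intro hw
          have e := hinv _ (hX hw)
          have hu := (orderOf_two_iff.mp hu2).1
          rw [inv_of_two hu2, show u * (u * w * u) * u = (u * u) * w * (u * u) by group, hu,
            one_mul, mul_one] at e
          rw [e]
          exact X.inv_mem (by rwa [inv_of_two hu2] at hw)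

end CfsgLib.BSW
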