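import Cfsg.Agent.Lib.BSW.Setup

/-!
# Centralisers of the elements outside the conjugates of `K`

Such a centraliser has odd order; if its element is a product of two involutions, it is abelian,
inverted by an involution, and it is the centraliser of each of its nontrivial elements.
-/

set_option autoImplicit false
set_option linter.unusedSectionVars false

namespace CfsgLib.BSW

variable {G : Type*} [Group G]

/-- The centraliser of an element. -/
abbrev czer (y : G) : Subgroup G := Subgroup.centralizer ({y} : Set G)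

theorem mem_cent {y g : G} : g ∈ czer y ↔ g * y = y * g :=
  Subgroup.mem_centralizer_singleton_iff

theorem self_mem_cent (y : G) : y ∈ czer y := mem_cent.mpr rfl

theorem cent_conj (g y : G) : czer (g * y * g⁻¹) = (czer y).map (MulAut.conj g).toMonoidHom := by
  ext c
  rw [Subgroup.mem_map_equiv, mem_cent, mem_cent, MulAut.conj_symm_apply]
  constructor
  · intro e
    calc g⁻¹ * c * g * y = g⁻¹ * (c * (g * y * g⁻¹)) * g := by group
      _ = g⁻¹ * (g * y * g⁻¹ * c) * g := by rw [e]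
      _ = y * (g⁻¹ * c * g) := by group
  · intro e
    calc c * (g * y * g⁻¹) = g * (g⁻¹ * c * g * y) * g⁻¹ := by group
      _ = g * (y * (g⁻¹ * c * g)) * g⁻¹ := by rw [e]
      _ = g * y * g⁻¹ * c := by group

theorem mem_map_conj (H : Subgroup G) (g c : G) :
    g * c * g⁻¹ ∈ H.map (MulAut.conj g).toMonoidHom ↔ c ∈ H := by
  rw [Subgroup.mem_map_equiv, MulAut.conj_symm_apply]
  simp [mul_assoc]

theorem mem_normalizer_of_map {H : Subgroup G} {g : G}
    (h : H.map (MulAut.conj g).toMonoidHom = H) : g ∈ Subgroup.normalizer (H : Set G) := by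
  rw [Subgroup.mem_normalizer_iff]
  intro c
  conv_rhs => rw [← h]
  exact (mem_map_conj H g c).symm

/-- `H` is the centraliser of each of its nontrivial elements. -/
def SelfCent (H : Subgroup G) : Prop := ∀ x ∈ H, x ≠ 1 → czer x = H

theorem SelfCent.comm {H : Subgroup G} (hH : SelfCent H) {a b : G} (ha : a ∈ H) (hb : b ∈ H) :
    a * b = b * a := by
  by_cases hb1 : b = 1
  · rw [hb1, mul_one, one_mul]
  · rw [← hH b hb hb1, mem_cent] at ha
    exact ha

theorem SelfCent.normalizer_mem {H : Subgroup G} (hH : SelfCent H) {g x : G} (hx : x ∈ H)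
    (hx1 : x ≠ 1) (hg : g * x * g⁻¹ ∈ H) : g ∈ Subgroup.normalizer (H : Set G) := by
  refine mem_normalizer_of_map ?_
  have e := cent_conj g x
  rw [hH x hx hx1, hH _ hg (fun e => hx1 (by simpa using e))] at e
  exact e.symm

theorem SelfCent.map {H : Subgroup G} (hH : SelfCent H) (g : G) :
    SelfCent (H.map (MulAut.conj g).toMonoidHom) := by
  rintro _ ⟨x, hx, rfl⟩ hx1
  show czer (g * x * g⁻¹) = _
  rw [cent_conj, hH x hx fun e => hx1 (by simp [e])]

/-- The nontrivial elements of the conjugates of `H`. -/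
def InConj (H : Subgroup G) (y : G) : Prop := y ≠ 1 ∧ ∃ g : G, g * y * g⁻¹ ∈ H

theorem SelfCent.card_inConj [Finite G] {H : Subgroup G} (hH : SelfCent H) :
    Nat.card {y : G // InConj H y} =
      (Subgroup.normalizer (H : Set G)).index * (Nat.card H - 1) := by
  classical
  set N := Subgroup.normalizer (H : Set G) with hN
  have e : Nat.card ((G ⧸ N) × {x : H // x ≠ 1}) = Nat.card {y : G // InConj H y} := by
    refine Nat.card_congr (Equiv.ofBijective
      (fun p => ⟨p.1.out * (p.2.1 : G) * p.1.out⁻¹, ?_, p.1.out⁻¹, ?_⟩) ⟨?_, ?_⟩)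
    · intro e
      exact p.2.2 (Subtype.ext (by simpa using e))
    · simp [mul_assoc]
    · rintro ⟨c, x, hx⟩ ⟨c', x', hx'⟩ e
      have e' : c.out * (x : G) * c.out⁻¹ = c'.out * (x' : G) * c'.out⁻¹ := congrArg Subtype.val e
      have hmem : c'.out⁻¹ * c.out ∈ N := hH.normalizer_mem x.2 (fun e0 => hx (Subtype.ext e0)) (by
        rw [show c'.out⁻¹ * c.out * (x : G) * (c'.out⁻¹ * c.out)⁻¹ =
          c'.out⁻¹ * (c.out * x * c.out⁻¹) * c'.out by group, e']
        simp [mul_assoc])
      have hc : c' = c := by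
        rw [← QuotientGroup.out_eq' c', ← QuotientGroup.out_eq' c]
        exact QuotientGroup.eq.mpr hmem
      subst hc
      simp only [Prod.mk.injEq, Subtype.mk.injEq, true_and]
      exact Subtype.ext (mul_left_cancel (mul_right_cancel e'))
    · rintro ⟨y, hy1, g, hg⟩
      set c : G ⧸ N := QuotientGroup.mk g⁻¹
      obtain ⟨⟨n, hn⟩, hn'⟩ := QuotientGroup.mk_out_eq_mul N g⁻¹
      have hm : c.out⁻¹ * y * c.out ∈ H := by
        rw [show c.out = g⁻¹ * n from hn', show (g⁻¹ * n)⁻¹ * y * (g⁻¹ * n) =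
          n⁻¹ * (g * y * g⁻¹) * n⁻¹⁻¹ by group]
        exact (Subgroup.mem_normalizer_iff.mp (N.inv_mem hn) _).mp hg
      refine ⟨⟨c, ⟨⟨_, hm⟩, fun e => hy1 ?_⟩⟩, Subtype.ext ?_⟩
      · have e' : c.out⁻¹ * y * c.out = 1 := congrArg Subtype.val e
        calc y = c.out * (c.out⁻¹ * y * c.out) * c.out⁻¹ := by group
          _ = 1 := by rw [e']; group
      · show c.out * (c.out⁻¹ * y * c.out) * c.out⁻¹ = y
        group
  have hc : Nat.card {x : H // x ≠ 1} = Nat.card H - 1 := by
    haveI := Fintype.ofFinite H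
    rw [Nat.card_eq_fintype_card, Nat.card_eq_fintype_card, Fintype.card_subtype_compl,
      Fintype.card_subtype_eq]
  rw [← e, Nat.card_prod, hc]
  rfl

/-- Self-centralising Hall subgroups of the same order are conjugate. -/
theorem conj_of_selfCent [Finite G] {H H' : Subgroup G} (hH : SelfCent H) (hH' : SelfCent H')
    (hcard : Nat.card H' = Nat.card H) (hcop : (Nat.card H).Coprime H.index) (hne : H ≠ ⊥) :
    ∃ g : G, H.map (MulAut.conj g).toMonoidHom = H' := by
  obtain ⟨p, hp, hpd⟩ := Nat.exists_prime_and_dvd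
    (H.one_lt_card_iff_ne_bot.mpr hne).ne'
  haveI := Fact.mk hp
  have hidx : H'.index = H.index := by
    have h1 := H.card_mul_index
    rw [← H'.card_mul_index, hcard] at h1
    exact (Nat.eq_of_mul_eq_mul_left Nat.card_pos h1).symm
  have key : ∀ L : Subgroup G, (Nat.card L).Coprime L.index → p ∣ Nat.card L →
      ∃ S : Sylow p G, (S : Subgroup G) ≤ L := by
    intro L hL hpL
    obtain ⟨S⟩ := (inferInstance : Nonempty (Sylow p L))
    have hS : Nat.card ((S : Subgroup L).map L.subtype) = p ^ (Nat.card G).factorization p := by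
      rw [Subgroup.card_map_of_injective L.subtype_injective, S.card_eq_multiplicity,
        ← L.card_mul_index, Nat.factorization_mul Nat.card_pos.ne' Subgroup.index_ne_zero_of_finite,
        Finsupp.add_apply, Nat.factorization_eq_zero_of_not_dvd (n := L.index), add_zero]
      exact fun hd => hp.ne_one (Nat.eq_one_of_dvd_coprimes hL hpL hd)
    exact ⟨Sylow.ofCard _ hS, Subgroup.map_subtype_le _⟩
  obtain ⟨S, hS⟩ := key H hcop hpd
  obtain ⟨S', hS'⟩ := key H' (by rw [hcard, hidx]; exact hcop) (by rw [hcard]; exact hpd)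
  obtain ⟨g, hg⟩ := MulAction.exists_smul_eq G S S'
  obtain ⟨x, hx, hx1⟩ := (S : Subgroup G).ne_bot_iff_exists_ne_one.mp
    (S.ne_bot_of_dvd_card (hpd.trans H.card_subgroup_dvd_card)) |> fun ⟨⟨x, hx⟩, hx1⟩ =>
      (⟨x, hx, fun e => hx1 (Subtype.ext e)⟩ : ∃ x : G, x ∈ (S : Subgroup G) ∧ x ≠ 1)
  have hgx : g * x * g⁻¹ ∈ H' := hS' (by
    rw [← hg, Sylow.coe_subgroup_smul]
    exact Subgroup.smul_mem_pointwise_smul x (MulAut.conj g) _ hx)
  refine ⟨g, ?_⟩
  rw [← hH x (hS hx) hx1, ← hH' _ hgx (fun e => hx1 (by simpa using e)), cent_conj]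

variable {t s : G} {K : Subgroup G}

theorem Rest.conj {y : G} (hy : Rest K y) (g : G) : Rest K (g * y * g⁻¹) := by
  refine ⟨fun e => hy.1 (by simpa using e), fun c hc => hy.2 (c * g) ?_⟩
  rw [show c * g * y * (c * g)⁻¹ = c * (g * y * g⁻¹) * c⁻¹ by group]
  exact hc

theorem Setting.inK_of_two (h : Setting t K s) {x : G} (hx : orderOf x = 2) : InK K x := by
  obtain ⟨c, hc⟩ := isConj_iff.mp (h.conj x t hx h.t2)
  exact ⟨(orderOf_two_iff.mp hx).2, c, hc ▸ h.tK⟩

theorem Setting.rest_not_two (h : Setting t K s) {y : G} (hy : Rest K y) : orderOf y ≠ 2 := by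
  intro e
  obtain ⟨-, g, hg⟩ := h.inK_of_two e
  exact hy.2 g hg

theorem Setting.not_commute (h : Setting t K s) {x y : G} (hy : Rest K y) (hx : InK K x) :
    x * y ≠ y * x := by
  intro e
  obtain ⟨hx1, g, hg⟩ := hx
  have hc : g * y * g⁻¹ * t = t * (g * y * g⁻¹) := h.ti _ _ hg (fun e0 => hx1 (by simpa using e0))
    (by rw [show g * y * g⁻¹ * (g * x * g⁻¹) * (g * y * g⁻¹)⁻¹ = g * (y * x) * y⁻¹ * g⁻¹ by group,
      ← e, show g * (x * y) * y⁻¹ * g⁻¹ = g * x * g⁻¹ by group]
        exact hg)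
  exact h.rest_not_two (hy.conj g) (h.outside hc (hy.2 g))

theorem Setting.rest_of_commute (h : Setting t K s) {x y : G} (hy : Rest K y) (hx1 : x ≠ 1)
    (e : x * y = y * x) : Rest K x :=
  ⟨hx1, fun g hg => h.not_commute hy ⟨hx1, g, hg⟩ e⟩

theorem Setting.odd_cent (h : Setting t K s) [Finite G] {y : G} (hy : Rest K y) :
    Odd (Nat.card (czer y)) := by
  rw [← Nat.not_even_iff_odd]
  intro he
  haveI := Fact.mk Nat.prime_two
  obtain ⟨⟨x, hx⟩, hx2⟩ := exists_prime_orderOf_dvd_card' 2 (even_iff_two_dvd.mp he)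
  rw [Subgroup.orderOf_mk] at hx2
  exact h.not_commute hy (h.inK_of_two hx2) (mem_cent.mp hx)

/-- An inverting involution makes a product of two involutions. -/
theorem Setting.two_of_inverts (h : Setting t K s) {y a : G} (hy : Rest K y) (ha : orderOf a = 2)
    (hi : a * y * a⁻¹ = y⁻¹) : orderOf (a * y) = 2 := by
  rw [orderOf_two_iff]
  refine ⟨?_, fun e => h.rest_not_two hy ?_⟩
  · rw [inv_of_two ha] at hi
    rw [show a * y * (a * y) = a * y * a * y by group, hi, inv_mul_cancel]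
  · rw [show y = a by rw [← inv_eq_of_mul_eq_one_right e, inv_of_two ha]]
    exact ha

theorem exists_inverter {y : G} [Finite G] (hn : npairs y ≠ 0) :
    ∃ a : G, orderOf a = 2 ∧ a * y * a⁻¹ = y⁻¹ := by
  obtain ⟨⟨a, ha, hay⟩⟩ := (Nat.card_ne_zero.mp hn).1
  refine ⟨a, ha, ?_⟩
  rw [inv_of_two ha, eq_comm, inv_eq_iff_mul_eq_one]
  calc y * (a * y * a) = a⁻¹ * ((a * y) * (a * y)) * a := by group
    _ = 1 := by rw [(orderOf_two_iff.mp hay).1]; group

theorem Setting.inverts_cent (h : Setting t K s) [Finite G] {y a : G} (hy : Rest K y)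
    (ha : orderOf a = 2) (hi : a * y * a⁻¹ = y⁻¹) :
    (∀ c ∈ czer y, a * c * a⁻¹ = c⁻¹) ∧ (∀ b ∈ czer y, ∀ c ∈ czer y, b * c = c * b) := by
  have hmem : ∀ c ∈ czer y, a * c * a⁻¹ ∈ czer y := by
    intro c hc
    have hc' := mem_cent.mp hc
    rw [mem_cent]
    have e : c * y⁻¹ = y⁻¹ * c := (show Commute c y from hc').inv_right.eq
    calc a * c * a⁻¹ * y = a * (c * (a⁻¹ * y * a)) * a⁻¹ := by group
      _ = a * (c * y⁻¹) * a⁻¹ := by rw [← hi, inv_of_two ha]
      _ = a * (y⁻¹ * c) * a⁻¹ := by rw [e]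
      _ = a * (a * y * a⁻¹ * c) * a⁻¹ := by rw [hi]
      _ = (a * a) * y * (a⁻¹ * c * a⁻¹) := by group
      _ = y * (a * c * a⁻¹) := by rw [(orderOf_two_iff.mp ha).1, inv_of_two ha, one_mul]
  let φ : czer y →* czer y :=
    { toFun := fun c => ⟨a * c * a⁻¹, hmem c c.2⟩
      map_one' := Subtype.ext (by simp)
      map_mul' := fun b c => Subtype.ext (show a * (b * c : G) * a⁻¹ = a * b * a⁻¹ * (a * c * a⁻¹) by
        group) }
  have hinv : Function.Involutive φ := fun c => Subtype.ext (by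
    show a * (a * c * a⁻¹) * a⁻¹ = c
    rw [show a * (a * (c : G) * a⁻¹) * a⁻¹ = (a * a) * c * (a * a)⁻¹ by group,
      (orderOf_two_iff.mp ha).1]
    simp)
  have hfpf : MonoidHom.FixedPointFree φ := by
    intro c hc
    by_contra hc1
    have e : a * (c : G) = c * a := mul_inv_eq_iff_eq_mul.mp (congrArg Subtype.val hc)
    exact h.not_commute (h.rest_of_commute hy (fun e0 => hc1 (Subtype.ext e0)) (mem_cent.mp c.2))
      (h.inK_of_two ha) e
  refine ⟨fun c hc => ?_, fun b hb c hc => ?_⟩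
  · exact congrArg Subtype.val (congrFun (hfpf.coe_eq_inv_of_involutive hinv) ⟨c, hc⟩)
  · exact congrArg Subtype.val (hfpf.commute_all_of_involutive hinv ⟨b, hb⟩ ⟨c, hc⟩).eq

theorem Setting.npairs_eq_card_cent (h : Setting t K s) [Finite G] {y : G} (hy : Rest K y)
    (hn : npairs y ≠ 0) : npairs y = Nat.card (czer y) := by
  obtain ⟨a, ha, hi⟩ := exists_inverter hn
  obtain ⟨hinv, -⟩ := h.inverts_cent hy ha hi
  refine (Nat.card_congr (Equiv.ofBijective (fun c : czer y => (⟨a * c, ?_, ?_⟩ :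
    {b : G // orderOf b = 2 ∧ orderOf (b * y) = 2})) ⟨?_, ?_⟩)).symm
  · rw [orderOf_two_iff]
    refine ⟨?_, fun e => h.not_commute hy (h.inK_of_two ha) ?_⟩
    · have e := hinv c c.2
      rw [inv_of_two ha] at e
      rw [show a * (c : G) * (a * c) = a * c * a * c by group, e, inv_mul_cancel]
    · refine mem_cent.mp ?_
      have e' := (czer y).inv_mem c.2
      rwa [← inv_eq_of_mul_eq_one_left e] at *
  · have h2 : orderOf (a * (c : G)) = 2 := by
      rw [orderOf_two_iff]
      refine ⟨?_, fun e => h.not_commute hy (h.inK_of_two ha) (mem_cent.mp ?_)⟩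
      · have e := hinv c c.2
        rw [inv_of_two ha] at e
        rw [show a * (c : G) * (a * c) = a * c * a * c by group, e, inv_mul_cancel]
      · rw [eq_inv_of_mul_eq_one_left e]; exact (czer y).inv_mem c.2
    refine h.two_of_inverts hy h2 ?_
    calc a * (c : G) * y * (a * (c : G))⁻¹ = a * ((c : G) * y * (c : G)⁻¹) * a⁻¹ := by group
      _ = y⁻¹ := by rw [mem_cent.mp c.2, mul_inv_cancel_right, hi]
  · intro b c e
    exact Subtype.ext (mul_left_cancel (congrArg Subtype.val e))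
  · rintro ⟨b, hb, hby⟩
    have hi' : b * y * b⁻¹ = y⁻¹ := by
      rw [inv_of_two hb, eq_comm, inv_eq_iff_mul_eq_one]
      calc y * (b * y * b) = b⁻¹ * ((b * y) * (b * y)) * b := by group
        _ = 1 := by rw [(orderOf_two_iff.mp hby).1]; group
    refine ⟨⟨a⁻¹ * b, mem_cent.mpr ?_⟩, Subtype.ext (mul_inv_cancel_left a b)⟩
    calc a⁻¹ * b * y = a⁻¹ * (b * y * b⁻¹) * b := by group
      _ = a⁻¹ * (a * y * a⁻¹) * b := by rw [hi', hi]
      _ = y * (a⁻¹ * b) := by group

/-- The centraliser of a product of two involutions is self-centralising. -/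
theorem Setting.selfCent (h : Setting t K s) [Finite G] {y : G} (hy : Rest K y)
    (hn : npairs y ≠ 0) :
    SelfCent (czer y) ∧ ∀ x ∈ czer y, x ≠ 1 → npairs x = npairs y := by
  obtain ⟨a, ha, hi⟩ := exists_inverter hn
  obtain ⟨hinv, hcomm⟩ := h.inverts_cent hy ha hi
  have key : ∀ x ∈ czer y, x ≠ 1 → czer x = czer y := by
    intro x hx hx1
    have hxr := h.rest_of_commute hy hx1 (mem_cent.mp hx)
    obtain ⟨-, hcomm'⟩ := h.inverts_cent hxr ha (hinv x hx)
    refine le_antisymm (fun c hc => mem_cent.mpr (hcomm' c hc y (mem_cent.mpr (mem_cent.mp hx).symm)))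
      fun c hc => mem_cent.mpr (hcomm c hc x hx)
  refine ⟨key, fun x hx hx1 => ?_⟩
  have hxr := h.rest_of_commute hy hx1 (mem_cent.mp hx)
  have hxn : npairs x ≠ 0 := Nat.card_ne_zero.mpr
    ⟨⟨⟨a, ha, h.two_of_inverts hxr ha (hinv x hx)⟩⟩, inferInstance⟩
  rw [h.npairs_eq_card_cent hxr hxn, key x hx hx1, ← h.npairs_eq_card_cent hy hn]

end CfsgLib.BSW
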