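import Cfsg.Agent.Lib.BSW.Count
import Cfsg.Agent.Lib.BSW.Structure

/-!
# The case `|G| = k q (q - 1)`, `q = 2 k - 1`: the elements with pairs of involutions
-/

set_option autoImplicit false
set_option linter.unusedSectionVars false

open scoped Classical

namespace CfsgLib.BSW

variable {G : Type*} [Group G] [Finite G] {t s : G} {K : Subgroup G}

/-- The hypotheses of the minus case. -/
structure Minus (K : Subgroup G) (q : ℕ) : Prop where
  q_eq : q + 1 = 2 * Nat.card K
  card : Nat.card G = Nat.card K * q * (q - 1)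
  values : ∀ y, Rest K y → npairs y = 0 ∨ npairs y + 1 = Nat.card K
  count : Nat.card {y : G // Rest K y ∧ npairs y = 0} + 1 = q * q

theorem Minus.odd_q {q : ℕ} (m : Minus K q) : Odd q := ⟨Nat.card K - 1, by have := m.q_eq; omega⟩

theorem Minus.card_eq {q : ℕ} (m : Minus K q) :
    Nat.card G = 2 * Nat.card K * q * (Nat.card K - 1) := by
  rw [m.card, show q - 1 = 2 * (Nat.card K - 1) by have := m.q_eq; omega]; ring

theorem Minus.coprime (h : Setting t K s) {q : ℕ} (m : Minus K q) :
    q.Coprime (2 * Nat.card K * (Nat.card K - 1)) := by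
  have hk := h.two_le
  have e := m.q_eq
  refine Nat.Coprime.mul_right (Nat.Coprime.mul_right ?_ ?_) ?_
  · exact Nat.coprime_two_right.mpr m.odd_q
  · obtain ⟨j, hj⟩ : ∃ j, Nat.card K = j + 1 := ⟨Nat.card K - 1, by omega⟩
    rw [hj] at e ⊢
    rw [show q = j + (j + 1) by omega, Nat.coprime_add_self_left]
    exact Nat.coprime_self_add_right.mpr (Nat.coprime_one_right _)
  · obtain ⟨j, hj⟩ : ∃ j, Nat.card K = j + 1 := ⟨Nat.card K - 1, by omega⟩
    rw [hj] at e ⊢
    rw [show q = 1 + 2 * j by omega, Nat.add_sub_cancel, Nat.coprime_add_mul_right_left]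
    exact Nat.coprime_one_left _

theorem Minus.coprime_K (h : Setting t K s) : (Nat.card K - 1).Coprime (2 * Nat.card K) := by
  have hk := h.two_le
  obtain ⟨j, hj⟩ : ∃ j, Nat.card K = j + 1 := ⟨Nat.card K - 1, by omega⟩
  rw [hj, Nat.add_sub_cancel]
  refine Nat.Coprime.mul_right (Nat.coprime_two_right.mpr ?_)
    (Nat.coprime_self_add_right.mpr (Nat.coprime_one_right _))
  obtain ⟨r, hr⟩ := h.two_dvd
  exact ⟨r - 1, by omega⟩

/-- The number of elements with pairs. -/
theorem Minus.count_pos (h : Setting t K s) {q : ℕ} (m : Minus K q) :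
    Nat.card {y : G // Rest K y ∧ npairs y ≠ 0} = q * Nat.card K * (Nat.card K - 2) := by
  haveI := Fintype.ofFinite G
  have hk := h.two_le
  have hC : 2 * (Nat.card K : ℤ) * ((Finset.univ.filter (InK K)).card : ℤ) =
      (Nat.card G : ℤ) * ((Nat.card K : ℤ) - 1) := by exact_mod_cast h.card_inK
  set W := Finset.univ.filter (InK K)
  set U := Finset.univ.filter (fun y : G => Rest K y ∧ npairs y = 0)
  set V := Finset.univ.filter (fun y : G => Rest K y ∧ npairs y ≠ 0)
  have hU : U.card + 1 = q * q := by
    have := m.count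
    rwa [Nat.card_eq_fintype_card, Fintype.card_subtype] at this
  have hpart : 1 + W.card + U.card + V.card = Nat.card G := by
    have e : (Finset.univ.erase (1 : G)) = W ∪ (U ∪ V) := by
      ext y
      simp only [W, U, V, Finset.mem_erase, Finset.mem_univ, and_true, Finset.mem_union,
        Finset.mem_filter, true_and]
      constructor
      · intro hy
        by_cases hr : Rest K y
        · exact Or.inr ((em (npairs y = 0)).imp (fun e => ⟨hr, e⟩) (fun e => ⟨hr, e⟩))
        · exact Or.inl ((not_rest_iff hy).mp hr)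
      · rintro (hy | ⟨hy, -⟩ | ⟨hy, -⟩) <;> exact hy.1
    have hd1 : Disjoint U V := Finset.disjoint_filter.mpr fun y _ hy hy' => hy'.2 hy.2
    have hd2 : Disjoint W (U ∪ V) := Finset.disjoint_left.mpr fun y hy hy' => by
      simp only [W, U, V, Finset.mem_union, Finset.mem_filter, Finset.mem_univ, true_and] at hy hy'
      obtain ⟨-, g, hg⟩ := hy
      rcases hy' with ⟨hr, -⟩ | ⟨hr, -⟩ <;> exact hr.2 g hg
    have := congrArg Finset.card e
    rw [Finset.card_erase_of_mem (Finset.mem_univ _), Finset.card_univ,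
      Finset.card_union_of_disjoint hd2, Finset.card_union_of_disjoint hd1,
      ← Nat.card_eq_fintype_card] at this
    have hG : 0 < Nat.card G := Nat.card_pos
    omega
  rw [Nat.card_eq_fintype_card, Fintype.card_subtype]
  show V.card = _
  have hG : (Nat.card G : ℤ) = 2 * (Nat.card K : ℤ) * q * ((Nat.card K : ℤ) - 1) := by
    rw [m.card_eq]; push_cast [Nat.cast_sub (show 1 ≤ Nat.card K by omega)]; ring
  have e : (q : ℤ) + 1 = 2 * (Nat.card K : ℤ) := by exact_mod_cast m.q_eq
  have hU' : (U.card : ℤ) + 1 = q * q := by exact_mod_cast hU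
  have hp' : (1 : ℤ) + W.card + U.card + V.card = Nat.card G := by exact_mod_cast hpart
  have hW : (W.card : ℤ) = q * ((Nat.card K : ℤ) - 1) ^ 2 :=
    mul_left_cancel₀ (show (2 : ℤ) * (Nat.card K : ℤ) ≠ 0 by positivity)
      (by rw [hC, hG]; ring)
  zify [hk]
  linear_combination hp' - hU' - hW + hG - (q : ℤ) * e

/-- The self-centralising subgroup of order `k - 1` of an element with pairs. -/
theorem Minus.pos_cent (h : Setting t K s) {q : ℕ} (m : Minus K q) {y : G} (hy : Rest K y)
    (hn : npairs y ≠ 0) :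
    SelfCent (Subgroup.centralizer ({y} : Set G)) ∧
      Nat.card (Subgroup.centralizer ({y} : Set G)) = Nat.card K - 1 ∧
      (Nat.card (Subgroup.centralizer ({y} : Set G))).Coprime
        (Subgroup.centralizer ({y} : Set G)).index := by
  set D := Subgroup.centralizer ({y} : Set G)
  have hk := h.two_le
  have hc : Nat.card D = Nat.card K - 1 := by
    rw [← h.npairs_eq_card_cent hy hn]
    have := (m.values y hy).resolve_left hn
    omega
  refine ⟨(h.selfCent hy hn).1, hc, ?_⟩
  have hi := D.card_mul_index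
  rw [hc, m.card_eq] at hi
  rcases Nat.eq_zero_or_pos (Nat.card K - 1) with e | e
  · omega
  rw [hc, Nat.eq_of_mul_eq_mul_left e (hi.trans (show 2 * Nat.card K * q * (Nat.card K - 1) =
    (Nat.card K - 1) * (2 * Nat.card K * q) by ring))]
  exact Nat.Coprime.mul_right (Minus.coprime_K h)
    ((m.coprime h).coprime_dvd_right (dvd_mul_left _ _)).symm

end CfsgLib.BSW
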