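import Cfsg.Agent.Lib.BSW.MinusCount
import Cfsg.Agent.Lib.Transfer.Basic

/-!
# The case `|G| = k q (q - 1)`: the elements without pairs

They form two classes interchanged by inversion; their order is one prime `p`, and their
centralisers have order `q`, a power of `p`.
-/

set_option autoImplicit false
set_option linter.unusedSectionVars false

open scoped Classical

namespace CfsgLib.BSW

variable {G : Type*} [Group G] [Finite G] {t s : G} {K : Subgroup G} {q : ℕ}

/-- The elements outside the conjugates of `K` which are not products of two involutions. -/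
def Unip (K : Subgroup G) (x : G) : Prop := Rest K x ∧ npairs x = 0

theorem Unip.conj {x : G} (hx : Unip K x) (g : G) : Unip K (g * x * g⁻¹) :=
  ⟨hx.1.conj g, by rw [npairs_conj, hx.2]⟩

theorem Minus.unip_commute (h : Setting t K s) {x z : G} (hx : Unip K x) (hz1 : z ≠ 1)
    (e : z * x = x * z) : Unip K z := by
  have hzr := h.rest_of_commute hx.1 hz1 e
  refine ⟨hzr, ?_⟩
  by_contra hn
  exact hn (((h.selfCent hzr hn).2 x (Subgroup.mem_centralizer_singleton_iff.mpr e.symm)
    hx.1.1).symm.trans hx.2)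

/-- A subgroup of full `r`-part holds a conjugate of every `r`-element. -/
theorem exists_conj_mem_of_not_dvd {H : Subgroup G} {r : ℕ} [Fact r.Prime] (hr : ¬ r ∣ H.index)
    {z : G} (hz : ∃ n, orderOf z = r ^ n) : ∃ g : G, g * z * g⁻¹ ∈ H := by
  obtain ⟨S⟩ := (inferInstance : Nonempty (Sylow r H))
  have hS : Nat.card ((S : Subgroup H).map H.subtype) = r ^ (Nat.card G).factorization r := by
    rw [Subgroup.card_map_of_injective H.subtype_injective, S.card_eq_multiplicity,
      ← H.card_mul_index, Nat.factorization_mul Nat.card_pos.ne' Subgroup.index_ne_zero_of_finite,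
      Finsupp.add_apply, Nat.factorization_eq_zero_of_not_dvd (n := H.index) hr, add_zero]
  obtain ⟨T, hT⟩ := (Transfer.isPGroup_zpowers (p := r) hz).exists_le_sylow
  obtain ⟨g, hg⟩ := MulAction.exists_smul_eq G T (Sylow.ofCard _ hS)
  refine ⟨g, ?_⟩
  have h1 : g * z * g⁻¹ ∈ (Sylow.ofCard _ hS : Sylow r G) := by
    rw [← hg]
    exact Subgroup.smul_mem_pointwise_smul z (MulAut.conj g) _ (hT (Subgroup.mem_zpowers z))
  exact Subgroup.map_subtype_le _ h1

theorem Minus.unip_coprime (h : Setting t K s) (m : Minus K q) {z : G} {r : ℕ} [Fact r.Prime]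
    (hz : Unip K z) (hzr : orderOf z = r) : ¬ r ∣ 2 * Nat.card K * (Nat.card K - 1) := by
  intro hd
  have hr := (Fact.out : r.Prime)
  have hrq : ¬ r ∣ q := fun hq =>
    hr.ne_one (Nat.eq_one_of_dvd_coprimes (m.coprime h) hq hd)
  have hr2 : r ≠ 2 := fun e => h.rest_not_two hz.1 (hzr.trans e)
  rcases (hr.dvd_mul.mp hd) with hd' | hd'
  · have hdK : r ∣ Nat.card K := (hr.dvd_mul.mp hd').resolve_left
      fun e => hr2 ((Nat.prime_dvd_prime_iff_eq hr Nat.prime_two).mp e)
    have hK1 : ¬ r ∣ Nat.card K - 1 := fun e => hr.ne_one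
      (Nat.eq_one_of_dvd_coprimes (Minus.coprime_K h) e hd')
    obtain ⟨g, hg⟩ := exists_conj_mem_of_not_dvd (H := K) (r := r) (z := z) (by
      have hi := K.card_mul_index
      rw [m.card_eq] at hi
      rw [Nat.eq_of_mul_eq_mul_left Nat.card_pos (hi.trans (show 2 * Nat.card K * q *
        (Nat.card K - 1) = Nat.card K * (2 * q * (Nat.card K - 1)) by ring))]
      intro e
      rcases hr.dvd_mul.mp e with e | e
      · rcases hr.dvd_mul.mp e with e | e
        exacts [hr2 ((Nat.prime_dvd_prime_iff_eq hr Nat.prime_two).mp e), hrq e]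
      · exact hK1 e) ⟨1, by rw [hzr, pow_one]⟩
    exact hz.1.2 g hg
  · have hk3 : 2 < Nat.card K := by
      by_contra hle
      have hk2 : Nat.card K = 2 := by have := h.two_le; omega
      rw [hk2] at hd'
      exact hr.not_dvd_one hd'
    obtain ⟨⟨y, hy, hyn⟩⟩ : Nonempty {y : G // Rest K y ∧ npairs y ≠ 0} := by
      refine (Nat.card_ne_zero.mp ?_).1
      rw [m.count_pos h]
      have := m.q_eq
      exact Nat.mul_ne_zero_iff.mpr ⟨Nat.mul_ne_zero_iff.mpr ⟨by omega, by omega⟩, by omega⟩
    obtain ⟨-, hDc, hcop⟩ := m.pos_cent h hy hyn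
    obtain ⟨g, hg⟩ := exists_conj_mem_of_not_dvd (z := z) (r := r)
      (H := Subgroup.centralizer ({y} : Set G))
      (fun e => hr.ne_one (Nat.eq_one_of_dvd_coprimes hcop (hDc ▸ hd') e))
      ⟨1, by rw [hzr, pow_one]⟩
    have hne : g * z * g⁻¹ ≠ 1 := fun e => hz.1.1 (by simpa using e)
    have := (h.selfCent hy hyn).2 _ hg hne
    rw [(hz.conj g).2] at this
    exact hyn this.symm

/-- The centralisers have order `q`. -/
theorem Minus.card_cent (h : Setting t K s) (m : Minus K q) {x : G} (hx : Unip K x) :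
    Nat.card (Subgroup.centralizer ({x} : Set G)) = q := by
  haveI := Fintype.ofFinite G
  set C := Subgroup.centralizer ({x} : Set G)
  have hk := h.two_le
  have e := m.q_eq
  have hcop : (Nat.card C).Coprime (2 * Nat.card K * (Nat.card K - 1)) := by
    refine Nat.coprime_of_dvd fun r hr h1 h2 => ?_
    haveI := Fact.mk hr
    obtain ⟨⟨z, hz⟩, hzo⟩ := exists_prime_orderOf_dvd_card' r h1
    rw [Subgroup.orderOf_mk] at hzo
    have hz1 : z ≠ 1 := fun e1 => hr.ne_one (by rw [← hzo, e1, orderOf_one])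
    exact m.unip_coprime h (Minus.unip_commute h hx hz1
      (Subgroup.mem_centralizer_singleton_iff.mp hz)) hzo h2
  have hdvd : Nat.card C ∣ q := by
    refine hcop.dvd_of_dvd_mul_left ?_
    have := C.card_subgroup_dvd_card
    rw [m.card_eq] at this
    rwa [show 2 * Nat.card K * (Nat.card K - 1) * q = 2 * Nat.card K * q * (Nat.card K - 1) by ring]
  have hidx : C.index + 1 ≤ q * q := by
    rw [← m.count, Nat.add_le_add_iff_right, ← Char.card_isConj_eq_index x]
    refine Nat.card_le_card_of_injective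
      (fun y => (⟨y.1, ?_⟩ : {y : G // Rest K y ∧ npairs y = 0}))
      fun a b e => Subtype.ext (congrArg (fun v : {y : G // Rest K y ∧ npairs y = 0} => v.1) e)
    obtain ⟨c, hc⟩ := isConj_iff.mp y.2
    have := hx.conj c⁻¹
    rw [inv_inv, (congrArg (fun w => c⁻¹ * w * c) hc.symm).trans (by group : c⁻¹ * (c * y.1 * c⁻¹) * c = y.1)] at this
    exact this
  obtain ⟨n, hn⟩ := hdvd
  have hmul := C.card_mul_index
  have hq0 : 0 < q := by omega
  have hn2 : n ≤ 2 := by
    by_contra hn3
    have hG := m.card_eq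
    rw [← hmul] at hG
    obtain ⟨j, hj⟩ : ∃ j, Nat.card K = j + 1 := ⟨Nat.card K - 1, by omega⟩
    rw [hj, Nat.add_sub_cancel] at hG
    have hqj : q = 2 * j + 1 := by omega
    have hC0 : 0 < Nat.card C := Nat.card_pos
    have h1 : C.index = 2 * (j + 1) * n * j := by
      apply Nat.eq_of_mul_eq_mul_left hC0
      rw [hG, hn]; ring
    have h3 : 2 * (j + 1) * 3 * j ≤ 2 * (j + 1) * n * j :=
      Nat.mul_le_mul_right _ (Nat.mul_le_mul_left _ (by omega))
    rw [hqj] at hidx
    nlinarith
  interval_cases n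
  · omega
  · rw [mul_one] at hn; exact hn.symm
  · exact absurd ⟨Nat.card C, by omega⟩ (Nat.not_even_iff_odd.mpr m.odd_q)

/-- An element without pairs is not real. -/
theorem Minus.not_real (h : Setting t K s) {x : G} (hx : Unip K x) (g : G) :
    g * x * g⁻¹ ≠ x⁻¹ := by
  intro hg
  haveI := Fact.mk Nat.prime_two
  obtain ⟨a, m, hm, -, -, hgo⟩ := Transfer.exists_pow_coprime_part (p := 2) g
  have hodd : Odd m := Nat.odd_iff.mpr (Nat.two_dvd_ne_zero.mp hm)
  have hstep : ∀ n : ℕ, (Odd n → g ^ n * x * (g ^ n)⁻¹ = x⁻¹) ∧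
      (Even n → g ^ n * x * (g ^ n)⁻¹ = x) := by
    intro n
    induction n with
    | zero => exact ⟨fun hh => absurd hh (by simp), fun _ => by simp⟩
    | succ n ih =>
      have e : g ^ (n + 1) * x * (g ^ (n + 1))⁻¹ = g * (g ^ n * x * (g ^ n)⁻¹) * g⁻¹ := by
        rw [pow_succ']; group
      rw [e]
      rcases Nat.even_or_odd n with hn | hn
      · exact ⟨fun _ => by rw [ih.2 hn, hg],
          fun hh => absurd hh (Nat.not_even_iff_odd.mpr hn.add_one)⟩
      · refine ⟨fun hh => absurd hh (Nat.not_odd_iff_even.mpr hn.add_one), fun _ => ?_⟩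
        rw [ih.1 hn, show g * x⁻¹ * g⁻¹ = (g * x * g⁻¹)⁻¹ by group, hg, inv_inv]
  have hi := (hstep m).1 hodd
  rcases a with _ | _ | a
  · rw [orderOf_eq_one_iff.mp (show orderOf (g ^ m) = 1 by simpa using hgo)] at hi
    simp only [one_mul, inv_one, mul_one] at hi
    exact h.rest_not_two hx.1 (orderOf_two_iff.mpr ⟨mul_eq_one_iff_eq_inv.mpr hi, hx.1.1⟩)
  · have hgm : orderOf (g ^ m) = 2 := by simpa using hgo
    have := h.two_of_inverts hx.1 hgm hi
    exact (Nat.card_ne_zero.mpr ⟨⟨⟨g ^ m, hgm, this⟩⟩, inferInstance⟩) hx.2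
  · have hj : orderOf ((g ^ m) ^ (2 ^ (a + 1))) = 2 := by
      rw [orderOf_pow' _ (by positivity), hgo, Nat.gcd_eq_right (pow_dvd_pow 2 (by omega)),
        pow_succ 2 (a + 1), Nat.mul_div_cancel_left _ (by positivity)]
    refine h.not_commute hx.1 (h.inK_of_two hj) ?_
    rw [← pow_mul]
    exact mul_inv_eq_iff_eq_mul.mp ((hstep _).2 ⟨m * 2 ^ a, by ring⟩)

/-- All elements without pairs have the same prime order `p`, and `q` is a power of `p`. -/
theorem Minus.exists_prime (h : Setting t K s) (m : Minus K q) :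
    ∃ p : ℕ, p.Prime ∧ (∃ a, q = p ^ a) ∧ (∀ x, Unip K x → orderOf x = p) := by
  haveI := Fintype.ofFinite G
  have hk := h.two_le
  have hq := m.q_eq
  obtain ⟨⟨x, hx⟩⟩ : Nonempty {y : G // Rest K y ∧ npairs y = 0} := by
    refine (Nat.card_ne_zero.mp ?_).1
    have := m.count
    have : 2 * 2 ≤ q * q := Nat.mul_le_mul (by omega) (by omega)
    omega
  have hxu : Unip K x := hx
  have hxi : Unip K x⁻¹ := Minus.unip_commute h hxu (inv_ne_one.mpr hxu.1.1) (by simp)
  -- the two classes exhaust the set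
  have hcl : ∀ z : G, Unip K z →
      Nat.card {y : G // IsConj y z} = 2 * Nat.card K * (Nat.card K - 1) := by
    intro z hz
    rw [Char.card_isConj_eq_index]
    have := (Subgroup.centralizer ({z} : Set G)).card_mul_index
    rw [m.card_cent h hz, m.card_eq] at this
    exact Nat.eq_of_mul_eq_mul_left (show 0 < q by omega) (this.trans (by ring))
  have hmem : ∀ y : G, Unip K y → IsConj y x ∨ IsConj y x⁻¹ := by
    set U := Finset.univ.filter (fun y : G => Rest K y ∧ npairs y = 0)
    set A := Finset.univ.filter (fun y : G => IsConj y x)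
    set B := Finset.univ.filter (fun y : G => IsConj y x⁻¹)
    have hsub : A ∪ B ⊆ U := by
      intro y hy
      simp only [A, B, U, Finset.mem_union, Finset.mem_filter, Finset.mem_univ, true_and] at hy ⊢
      rcases hy with hy | hy <;> obtain ⟨c, hc⟩ := isConj_iff.mp hy.symm <;> rw [← hc]
      exacts [hxu.conj c, hxi.conj c]
    have hd : Disjoint A B := Finset.disjoint_filter.mpr fun y _ h1 h2 => by
      obtain ⟨c, hc⟩ := isConj_iff.mp (h1.symm.trans h2)
      exact Minus.not_real h hxu c hc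
    have hA : A.card = 2 * Nat.card K * (Nat.card K - 1) := by
      rw [← hcl x hxu, Nat.card_eq_fintype_card, Fintype.card_subtype]
    have hB : B.card = 2 * Nat.card K * (Nat.card K - 1) := by
      rw [← hcl _ hxi, Nat.card_eq_fintype_card, Fintype.card_subtype]
    have hU : U.card + 1 = q * q := by
      have := m.count
      rwa [Nat.card_eq_fintype_card, Fintype.card_subtype] at this
    have heq : A ∪ B = U := Finset.eq_of_subset_of_card_le hsub (by
      rw [Finset.card_union_of_disjoint hd, hA, hB]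
      obtain ⟨j, hj⟩ : ∃ j, Nat.card K = j + 1 := ⟨Nat.card K - 1, by omega⟩
      rw [hj, Nat.add_sub_cancel]
      rw [show q = 2 * j + 1 by omega] at hU
      nlinarith)
    intro y hy
    have : y ∈ A ∪ B := heq ▸ Finset.mem_filter.mpr ⟨Finset.mem_univ _, hy⟩
    simpa [A, B] using this
  have hord : ∀ y : G, Unip K y → orderOf y = orderOf x := by
    intro y hy
    rcases hmem y hy with e | e <;> obtain ⟨c, hc⟩ := isConj_iff.mp e.symm <;>
      rw [← hc, orderOf_conj]
    exact orderOf_inv x
  have ho1 : orderOf x ≠ 1 := fun e => hxu.1.1 (orderOf_eq_one_iff.mp e)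
  set p := (orderOf x).minFac with hp
  haveI hpp : Fact p.Prime := ⟨Nat.minFac_prime ho1⟩
  have hpo : orderOf x = p := by
    have e : orderOf (x ^ (orderOf x / p)) = p :=
      orderOf_pow_orderOf_div (orderOf_pos x).ne' (Nat.minFac_dvd _)
    rw [← e]
    refine (hord _ (Minus.unip_commute h hxu ?_ (Commute.refl x |>.pow_left _).eq)).symm
    intro e1
    exact hpp.out.ne_one (by rw [← e, e1, orderOf_one])
  refine ⟨p, hpp.out, ?_, fun y hy => (hord y hy).trans hpo⟩
  have hP : IsPGroup p (Subgroup.centralizer ({x} : Set G)) := by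
    rintro ⟨z, hz⟩
    refine ⟨1, Subtype.ext ?_⟩
    by_cases hz1 : z = 1
    · simp [hz1]
    · have := hord z (Minus.unip_commute h hxu hz1 (Subgroup.mem_centralizer_singleton_iff.mp hz))
      rw [hpo] at this
      show z ^ (p ^ 1) = 1
      rw [pow_one, ← this, pow_orderOf_eq_one]
  obtain ⟨a, ha⟩ := IsPGroup.iff_card.mp hP
  exact ⟨a, (m.card_cent h hxu).symm.trans ha⟩

end CfsgLib.BSW
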