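import Cfsg.Agent.Lib.BSW.MinusElements
import Cfsg.Agent.Lib.BSW.FrobeniusExponent
import Cfsg.Agent.Lib.CNOdd.Solvable
import Cfsg.Agent.Lib.CNOdd.Partition

/-!
# The case `|G| = k q (q - 1)`: the Sylow `p`-subgroups are abelian TI subgroups

If two of them met nontrivially, the normaliser of a largest such intersection would be a solvable
group of odd order with a Frobenius group acting on a `p`-subgroup, forcing an element of order
`p ^ 2`.
-/

set_option autoImplicit false
set_option linter.unusedSectionVars false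

open scoped Classical

namespace CfsgLib.BSW

variable {G : Type*} [Group G] [Finite G] {t s : G} {K : Subgroup G} {q : ℕ}

theorem isNilpotent_of_comm {H : Subgroup G} (hc : ∀ a ∈ H, ∀ b ∈ H, a * b = b * a) :
    Group.IsNilpotent H := by
  letI : CommGroup H := { (inferInstance : Group H) with
    mul_comm := fun a b => Subtype.ext (hc a a.2 b b.2) }
  exact inferInstance

/-- An element of order dividing the exponent of the unipotent elements. -/
theorem Minus.unip_of_order (h : Setting t K s) (m : Minus K q) {p : ℕ} [Fact p.Prime]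
    (hpq : p ∣ q) {x : G} (hx : orderOf x = p) : Unip K x := by
  have hp := (Fact.out : p.Prime)
  have hcop := m.coprime h
  have hr : Rest K x := by
    refine ⟨fun e => hp.ne_one (by rw [← hx, e, orderOf_one]), fun g hg => ?_⟩
    have h1 := Subgroup.orderOf_dvd_natCard K hg
    rw [orderOf_conj, hx] at h1
    exact hp.ne_one (Nat.eq_one_of_dvd_coprimes hcop hpq
      ((h1.mul_left 2).mul_right _))
  refine ⟨hr, ?_⟩
  by_contra hn
  obtain ⟨-, hDc, -⟩ := m.pos_cent h hr hn
  have h1 := Subgroup.orderOf_dvd_natCard (Subgroup.centralizer ({x} : Set G))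
    (x := x) (Subgroup.mem_centralizer_singleton_iff.mpr rfl)
  rw [hx, hDc] at h1
  exact hp.ne_one (Nat.eq_one_of_dvd_coprimes hcop hpq (h1.mul_left _))

/-- The facts about `p` used below. -/
structure UnipPrime (K : Subgroup G) (q p : ℕ) : Prop where
  pow : ∃ a, q = p ^ a
  order : ∀ x, Unip K x → orderOf x = p

theorem Minus.dvd_q (h : Setting t K s) (m : Minus K q) {p : ℕ} [Fact p.Prime]
    (hU : UnipPrime K q p) : p ∣ q := by
  obtain ⟨a, ha⟩ := hU.pow
  rw [ha]
  refine dvd_pow_self p fun e => ?_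
  rw [e, pow_zero] at ha
  have := m.q_eq
  have := h.two_le
  omega

/-- The `p`-elements. -/
theorem Minus.pow_p (h : Setting t K s) (m : Minus K q) {p : ℕ} [Fact p.Prime]
    (hU : UnipPrime K q p) {x : G} (hx : ∃ n, x ^ (p ^ n) = 1) : x ^ p = 1 := by
  obtain ⟨n, hn⟩ := hx
  obtain ⟨j, -, hj⟩ := (Nat.dvd_prime_pow (Fact.out : p.Prime)).mp (orderOf_dvd_of_pow_eq_one hn)
  rcases j with _ | j
  · rw [pow_zero] at hj
    rw [orderOf_eq_one_iff.mp hj, one_pow]
  · have hy : orderOf (x ^ p ^ j) = p := by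
      rw [orderOf_pow' _ (pow_ne_zero _ (Fact.out : p.Prime).ne_zero), hj,
        Nat.gcd_eq_right (pow_dvd_pow p (Nat.le_succ j)), pow_succ,
        Nat.mul_div_cancel_left _ (pow_pos (Fact.out : p.Prime).pos _)]
    have hu := m.unip_of_order h (m.dvd_q h hU) hy
    have hx1 : x ≠ 1 := fun e => hu.1.1 (by rw [e, one_pow])
    have := hU.order x (Minus.unip_commute h hu hx1 ((Commute.refl x).pow_right _).eq)
    rw [← this, pow_orderOf_eq_one]

/-- An element commuting with a nontrivial element of order `p` is a `p`-element. -/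
theorem Minus.pow_of_commute (h : Setting t K s) (m : Minus K q) {p : ℕ} [Fact p.Prime]
    (hU : UnipPrime K q p) {x y : G} (hx : x ^ p = 1) (hx1 : x ≠ 1) (e : y * x = x * y) :
    y ^ p = 1 := by
  have hu := m.unip_of_order h (m.dvd_q h hU) (orderOf_eq_prime hx hx1)
  by_cases hy : y = 1
  · rw [hy, one_pow]
  · rw [← hU.order y (Minus.unip_commute h hu hy e), pow_orderOf_eq_one]

/-- The centralisers of nontrivial elements of odd order are nilpotent. -/
theorem Minus.nilpotent_cent (h : Setting t K s) (m : Minus K q) {p : ℕ} [Fact p.Prime]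
    (hU : UnipPrime K q p) {x : G} (hx1 : x ≠ 1) (hx2 : Odd (orderOf x)) :
    Group.IsNilpotent (Subgroup.centralizer ({x} : Set G)) := by
  by_cases hr : Rest K x
  · by_cases hn : npairs x = 0
    · refine IsPGroup.isNilpotent (p := p) fun y => ⟨1, Subtype.ext ?_⟩
      show (y : G) ^ p ^ 1 = 1
      rw [pow_one]
      exact m.pow_of_commute h hU (by rw [← hU.order x ⟨hr, hn⟩, pow_orderOf_eq_one]) hx1
        (Subgroup.mem_centralizer_singleton_iff.mp y.2)
    · obtain ⟨hsc, -, -⟩ := m.pos_cent h hr hn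
      exact isNilpotent_of_comm fun a ha b hb => hsc.comm ha hb
  · obtain ⟨-, g, hg⟩ := (show InK K x by
      simpa [InK, Rest, hx1] using hr)
    refine isNilpotent_of_comm fun a ha b hb => ?_
    have hne1 : g * x * g⁻¹ ≠ 1 := fun e => hx1 (by simpa using e)
    have hnet : g * x * g⁻¹ ≠ t := fun e => by
      rw [← orderOf_conj g, e, h.t2] at hx2
      exact absurd hx2 (by decide)
    have key : ∀ c : G, c * x = x * c → g * c * g⁻¹ ∈ K := fun c hc =>
      (h.centralizer_eq hg hne1 hnet).mp (by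
        calc g * c * g⁻¹ * (g * x * g⁻¹) = g * (c * x) * g⁻¹ := by group
          _ = g * (x * c) * g⁻¹ := by rw [hc]
          _ = g * x * g⁻¹ * (g * c * g⁻¹) := by group)
    have := h.comm _ (key a (Subgroup.mem_centralizer_singleton_iff.mp ha)) _
      (key b (Subgroup.mem_centralizer_singleton_iff.mp hb))
    rw [show g * a * g⁻¹ * (g * b * g⁻¹) = g * (a * b) * g⁻¹ by group,
      show g * b * g⁻¹ * (g * a * g⁻¹) = g * (b * a) * g⁻¹ by group] at this
    exact mul_left_cancel (mul_right_cancel this)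

/-- Distinct Sylow `p`-subgroups meet trivially. -/
theorem Minus.sylow_ti (h : Setting t K s) (m : Minus K q) {p : ℕ} [hp : Fact p.Prime]
    (hU : UnipPrime K q p) (P P' : Sylow p G) (hne : P ≠ P') :
    (P : Subgroup G) ⊓ P' = ⊥ := by
  haveI := Fintype.ofFinite (Sylow p G)
  by_contra hbad
  obtain ⟨⟨P, P'⟩, hmem, hmax⟩ := Finset.exists_max_image
    (Finset.univ.filter fun z : Sylow p G × Sylow p G =>
      z.1 ≠ z.2 ∧ (z.1 : Subgroup G) ⊓ z.2 ≠ ⊥)
    (fun z => Nat.card ((z.1 : Subgroup G) ⊓ z.2 : Subgroup G))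
    ⟨(P, P'), Finset.mem_filter.mpr ⟨Finset.mem_univ _, hne, hbad⟩⟩
  obtain ⟨-, hne, hW1⟩ := Finset.mem_filter.mp hmem
  replace hne : P ≠ P' := hne
  replace hW1 : (P : Subgroup G) ⊓ P' ≠ ⊥ := hW1
  set W : Subgroup G := (P : Subgroup G) ⊓ P' with hW
  set L := Subgroup.normalizer (W : Set G) with hL
  -- the `p`-parts of `L` in `P` and `P'` are bigger than `W`
  have grow : ∀ S : Sylow p G, W < (S : Subgroup G) → W < (S : Subgroup G) ⊓ L := by
    intro S hS
    haveI : Group.IsNilpotent (S : Subgroup G) := S.2.isNilpotent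
    have h1 := (normalizerCondition_of_isNilpotent (G := (S : Subgroup G)))
      (W.subgroupOf (S : Subgroup G)) (by
        rw [lt_top_iff_ne_top, ne_eq, Subgroup.subgroupOf_eq_top]
        exact fun e => hS.not_ge e)
    obtain ⟨x, hx, hxW⟩ := SetLike.exists_of_lt h1
    refine lt_of_le_of_ne (le_inf hS.le Subgroup.le_normalizer) fun e => hxW ?_
    rw [Subgroup.mem_subgroupOf, e]
    refine ⟨x.2, Subgroup.mem_normalizer_iff.mpr fun w => ⟨fun hw => ?_, fun hw => ?_⟩⟩
    · exact (Subgroup.mem_normalizer_iff.mp hx ⟨w, hS.le hw⟩).mp hw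
    · have hwS : w ∈ (S : Subgroup G) := by
        have := mul_mem (mul_mem (inv_mem x.2) (hS.le hw)) x.2
        rwa [show (x : G)⁻¹ * ((x : G) * w * (x : G)⁻¹) * x = w by group] at this
      exact (Subgroup.mem_normalizer_iff.mp hx ⟨w, hwS⟩).mpr hw
  have hlt : W < (P : Subgroup G) := inf_le_left.lt_of_ne fun e => hne (by
    refine Sylow.ext (Subgroup.eq_of_le_of_card_ge (inf_eq_left.mp e) ?_)
    rw [P.card_eq_multiplicity, P'.card_eq_multiplicity])
  have hlt' : W < (P' : Subgroup G) := inf_le_right.lt_of_ne fun e => hne (by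
    refine (Sylow.ext (Subgroup.eq_of_le_of_card_ge (inf_eq_right.mp e) ?_)).symm
    rw [P.card_eq_multiplicity, P'.card_eq_multiplicity])
  obtain ⟨⟨w, hw⟩, hw1⟩ := W.ne_bot_iff_exists_ne_one.mp hW1
  have hw1 : w ≠ 1 := fun e => hw1 (Subtype.ext e)
  have hpW : ∀ v ∈ W, v ^ p = 1 := fun v hv => m.pow_p h hU (by
    obtain ⟨k, hk⟩ := P.2 ⟨v, hlt.le hv⟩
    exact ⟨k, congrArg Subtype.val hk⟩)
  -- `L` has odd order
  have hodd : Odd (Nat.card L) := by
    rw [← Nat.not_even_iff_odd]
    intro he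
    haveI := Fact.mk Nat.prime_two
    obtain ⟨⟨a, haL⟩, ha2⟩ := exists_prime_orderOf_dvd_card' (G := L) 2 (even_iff_two_dvd.mp he)
    rw [Subgroup.orderOf_mk] at ha2
    let φ : W →* W :=
      { toFun := fun c => ⟨a * c * a⁻¹, (Subgroup.mem_normalizer_iff.mp haL _).mp c.2⟩
        map_one' := Subtype.ext (by simp)
        map_mul' := fun x z => Subtype.ext (show a * (x * z : G) * a⁻¹ =
          a * x * a⁻¹ * (a * z * a⁻¹) by group) }
    have hinv : Function.Involutive φ := fun x => Subtype.ext (by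
      show a * (a * x * a⁻¹) * a⁻¹ = x
      rw [show a * (a * (x : G) * a⁻¹) * a⁻¹ = (a * a) * x * (a * a)⁻¹ by group,
        (orderOf_two_iff.mp ha2).1]
      simp)
    have hu : ∀ v ∈ W, v ≠ 1 → Unip K v := fun v hv hv1 =>
      m.unip_of_order h (m.dvd_q h hU) (orderOf_eq_prime (hpW v hv) hv1)
    have hfpf : MonoidHom.FixedPointFree φ := by
      intro x hx
      by_contra hx1
      exact h.not_commute (hu x x.2 fun e => hx1 (Subtype.ext e)).1 (h.inK_of_two ha2)
        (mul_inv_eq_iff_eq_mul.mp (congrArg Subtype.val hx))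
    have hi : a * w * a⁻¹ = w⁻¹ :=
      congrArg Subtype.val (congrFun (hfpf.coe_eq_inv_of_involutive hinv) ⟨w, hw⟩)
    exact (Nat.card_ne_zero.mpr ⟨⟨⟨a, ha2, h.two_of_inverts (hu w hw hw1).1 ha2 hi⟩⟩,
      inferInstance⟩) (hu w hw hw1).2
  -- `L` is a solvable CN-group
  have hCN : Cfsg.IsCNGroup L := by
    intro x hx
    have hx2 : Odd (orderOf (x : G)) := by
      rw [Subgroup.orderOf_coe]
      exact hodd.of_dvd_nat (orderOf_dvd_natCard x)
    have hn := m.nilpotent_cent h hU (fun e => hx (Subtype.ext e)) hx2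
    haveI := Cfsg.Agent.CNOdd.nilpotent_mono (H := (Subgroup.centralizer ({x} : Set L)).map L.subtype)
      (by
        rintro _ ⟨c, hc, rfl⟩
        exact Subgroup.mem_centralizer_singleton_iff.mpr
          (congrArg Subtype.val (Subgroup.mem_centralizer_singleton_iff.mp hc))) hn
    exact Group.nilpotent_of_mulEquiv
      (Subgroup.equivMapOfInjective _ L.subtype L.subtype_injective).symm
  have hsol := Cfsg.Agent.CNOdd.isSolvable_of_cn hodd hCN
  -- `L` is not `p`-closed
  have hWL : W ≤ L := Subgroup.le_normalizer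
  haveI : (W.subgroupOf L).Normal := Subgroup.normal_in_normalizer
  have hWp : IsPGroup p W := P.2.to_le hlt.le
  have hcore : Cfsg.pCore p L ≠ ⊥ := by
    intro e
    have := Fitting.le_pCore (p := p) (N := W.subgroupOf L) inferInstance
      (hWp.comap_of_injective L.subtype L.subtype_injective)
    rw [e, le_bot_iff, Subgroup.subgroupOf_eq_bot, disjoint_iff, inf_eq_left.mpr hWL] at this
    exact hW1 this
  obtain ⟨T⟩ := (inferInstance : Nonempty (Sylow p L))
  have hTn : ¬ (T : Subgroup L).Normal := by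
    intro hn
    obtain ⟨S, hS⟩ := (T.2.map L.subtype).exists_le_sylow
    have hsub : ∀ R : Sylow p G, (R : Subgroup G) ⊓ L ≤ S := by
      intro R x hx
      refine hS ⟨⟨x, hx.2⟩, ?_, rfl⟩
      have hz : IsPGroup p (Subgroup.zpowers (⟨x, hx.2⟩ : L)) := by
        obtain ⟨j, hj⟩ := R.2 ⟨x, hx.1⟩
        have hj' : (⟨x, hx.2⟩ : L) ^ p ^ j = 1 :=
          Subtype.ext (congrArg Subtype.val hj : x ^ p ^ j = 1)
        obtain ⟨i, -, hi⟩ := (Nat.dvd_prime_pow hp.out).mp (orderOf_dvd_of_pow_eq_one hj')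
        exact Transfer.isPGroup_zpowers ⟨i, hi⟩
      have := T.3 (hz.to_sup_of_normal_right T.2) le_sup_right
      exact this.le (Subgroup.mem_sup_left (Subgroup.mem_zpowers _))
    have hSP : ∀ R : Sylow p G, W < (R : Subgroup G) → S = R := by
      intro R hR
      by_contra hne'
      have h1 : W < (S : Subgroup G) ⊓ R :=
        (grow R hR).trans_le (le_inf (hsub R) inf_le_left)
      exact absurd (hmax (S, R) (Finset.mem_filter.mpr
          ⟨Finset.mem_univ _, hne', fun e => not_lt_bot (e ▸ h1)⟩))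
        (not_le.mpr (Set.ncard_lt_ncard (SetLike.coe_ssubset_coe.mpr h1) (Set.toFinite _)))
    exact hne ((hSP P hlt).symm.trans (hSP P' hlt'))
  obtain ⟨-, A, hA1, -, -, hAp, hMn, -, ⟨n, hn⟩, -, -⟩ :=
    Cfsg.Agent.CNOdd.three_step hsol hCN hcore T hTn
  set O := Cfsg.pCore p L with hO
  set M := O ⊔ A with hM
  have hOp : IsPGroup p O := Fitting.pCore_isPGroup p
  haveI hOn : O.Normal := Fitting.pCore_normal p
  haveI := hMn
  -- a Sylow subgroup of `M` for a prime other than `p`
  obtain ⟨r, hr, hrd⟩ := Nat.exists_prime_and_dvd (A.one_lt_card_iff_ne_bot.mpr hA1).ne'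
  haveI := Fact.mk hr
  have hrp : r ≠ p := fun e => hr.ne_one (Nat.eq_one_of_dvd_coprimes hAp hrd (e ▸ dvd_rfl))
  obtain ⟨R₀⟩ := (inferInstance : Nonempty (Sylow r M))
  set R := (R₀ : Subgroup M).map M.subtype with hR
  have hRp : IsPGroup r R := R₀.2.map _
  have hR1 : R ≠ ⊥ := by
    rw [hR, ne_eq, Subgroup.map_eq_bot_iff_of_injective _ M.subtype_injective]
    exact R₀.ne_bot_of_dvd_card (hrd.trans (Subgroup.card_dvd_of_le le_sup_right))
  have hRcop : ∀ x ∈ R, x ^ p = 1 → x = 1 := by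
    intro x hx hxp
    obtain ⟨j, hj⟩ := IsPGroup.iff_card.mp hRp
    exact orderOf_eq_one_iff.mp (Nat.eq_one_of_dvd_coprimes
      (((Nat.coprime_primes hr hp.out).mpr hrp).pow_left j)
      (hj ▸ Subgroup.orderOf_dvd_natCard R hx) (orderOf_dvd_of_pow_eq_one hxp))
  have hRfix : ∀ x ∈ R, ∀ v : L, v ^ p = 1 → v ≠ 1 → x * v = v * x → x = 1 := by
    intro x hx v hv hv1 e
    refine hRcop x hx (Subtype.ext ?_)
    exact m.pow_of_commute h hU (congrArg Subtype.val hv) (fun e' => hv1 (Subtype.ext e'))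
      (congrArg Subtype.val e)
  have hpexp : ∀ v : L, (∃ j, v ^ p ^ j = 1) → v ^ p = 1 := fun v ⟨j, hj⟩ =>
    Subtype.ext (m.pow_p h hU ⟨j, congrArg Subtype.val hj⟩)
  -- an element of order `p` normalising `R`, outside `M`
  have hMtop : M ≠ ⊤ := by
    intro e
    apply hTn
    have h1 : O.index.Coprime p := by
      have hd : O.index ∣ Nat.card A := by
        have h2 : O ⊔ A = ⊤ := e
        have h3 := Subgroup.relIndex_sup_left (K := O) (H := A)
        rw [h2, Subgroup.relIndex_top_right] at h3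
        rw [h3]
        exact Subgroup.relIndex_dvd_card _ _
      exact hAp.coprime_dvd_left hd
    have : O = (T : Subgroup L) := by
      refine le_antisymm ?_ ?_
      · rw [hO, Fitting.pCore_eq_iInf_sylow]; exact iInf_le _ T
      · intro x hx
        refine Cfsg.Agent.CNOdd.mem_of_coprime_index O ?_
        obtain ⟨j, hj⟩ := T.2 ⟨x, hx⟩
        exact Nat.Coprime.coprime_dvd_left (orderOf_dvd_of_pow_eq_one (congrArg Subtype.val hj))
          (h1.symm.pow_left j)
    rw [← this]
    exact hOn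
  have hfr : Subgroup.normalizer (R : Set L) ⊔ M = ⊤ := Sylow.normalizer_sup_eq_top R₀
  obtain ⟨u₀, hu₀, hu₀M⟩ : ∃ u₀ ∈ Subgroup.normalizer (R : Set L), u₀ ∉ M := by
    by_contra hall
    push_neg at hall
    exact hMtop (top_le_iff.mp (hfr ▸ sup_le hall le_rfl))
  obtain ⟨a, mm, hmm, hord, -, hum⟩ := Transfer.exists_pow_coprime_part (p := p) u₀
  set u := u₀ ^ mm with hu
  have huR : u ∈ Subgroup.normalizer (R : Set L) := pow_mem hu₀ mm
  have huM : u ∉ M := by
    intro e
    apply hu₀M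
    have h1 : (QuotientGroup.mk' M u₀) ^ mm = 1 := by
      rw [← map_pow, ← MonoidHom.mem_ker, QuotientGroup.ker_mk']; exact e
    have h2 : (QuotientGroup.mk' M u₀) ^ p ^ n = 1 := by
      rw [← hn, Subgroup.index_eq_card]; exact pow_card_eq_one'
    have h3 : QuotientGroup.mk' M u₀ = 1 := orderOf_eq_one_iff.mp
      (Nat.eq_one_of_dvd_coprimes (((hp.out.coprime_iff_not_dvd.mpr hmm)).pow_left n)
        (orderOf_dvd_of_pow_eq_one h2) (orderOf_dvd_of_pow_eq_one h1))
    rwa [← MonoidHom.mem_ker, QuotientGroup.ker_mk'] at h3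
  have hup : u ^ p = 1 := hpexp u ⟨a, by rw [← hum, pow_orderOf_eq_one]⟩
  have hu1 : u ≠ 1 := fun e => huM (e ▸ M.one_mem)
  -- the centre of `O`
  set V := (Subgroup.center O).map O.subtype with hV
  have hVO : V ≤ O := Subgroup.map_subtype_le _
  haveI hVn : V.Normal := PSolvable.normal_map_of_characteristic _ _
  have hVc : ∀ x ∈ V, ∀ y ∈ V, x * y = y * x := by
    rintro _ ⟨x, -, rfl⟩ _ ⟨y, hy, rfl⟩
    exact congrArg O.subtype (Subgroup.mem_center_iff.mp hy x)
  have hVp : ∀ x ∈ V, x ^ p = 1 := fun x hx => hpexp x (by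
    obtain ⟨j, hj⟩ := hOp ⟨x, hVO hx⟩
    exact ⟨j, congrArg Subtype.val hj⟩)
  haveI : Nontrivial O := (Subgroup.nontrivial_iff_ne_bot O).mpr hcore
  haveI := hOp.center_nontrivial
  obtain ⟨v₀, hv₀⟩ := exists_ne (1 : Subgroup.center O)
  have hv₀V : ((v₀ : O) : L) ∈ V := Subgroup.mem_map_of_mem _ v₀.2
  have key := pow_card_eq_one_of_frobenius (V := V) (R := R) (u := u) hp.out.pos hVc
    Subgroup.le_normalizer_of_normal (Subgroup.le_normalizer_of_normal (Subgroup.mem_top u)) huR hup
    (fun i hi hip x hx e => hRfix x hx (u ^ i) (by rw [← pow_mul, mul_comm, pow_mul, hup, one_pow])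
      (fun e1 => by
        have := orderOf_dvd_of_pow_eq_one e1
        rw [orderOf_eq_prime hup hu1] at this
        exact absurd (Nat.le_of_dvd hi this) (by omega)) e)
    (fun v hv hfix => by
      by_contra hv1
      obtain ⟨⟨x, hx⟩, hx1⟩ := R.ne_bot_iff_exists_ne_one.mp hR1
      exact hx1 (Subtype.ext (hRfix x hx v (hVp v hv) hv1 (hfix x hx))))
    (fun v hv x hx => hpexp _ ⟨1 + 1, by
      have hwp : (x * u * x⁻¹) ^ p = 1 := by rw [conj_pow, hup]; group
      have hz : IsPGroup p (Subgroup.zpowers (x * u * x⁻¹)) := fun ⟨y, k, hk⟩ => ⟨1, Subtype.ext (by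
        show y ^ p ^ 1 = 1
        rw [pow_one, ← hk, ← zpow_natCast, ← zpow_mul, mul_comm, zpow_mul, zpow_natCast, hwp,
          one_zpow])⟩
      obtain ⟨j, hj⟩ := (hz.to_sup_of_normal_right hOp)
        ⟨v * (x * u * x⁻¹), mul_mem (Subgroup.mem_sup_right (hVO hv))
          (Subgroup.mem_sup_left (Subgroup.mem_zpowers _))⟩
      rw [pow_add, pow_mul, pow_one, hpexp _ ⟨j, congrArg Subtype.val hj⟩, one_pow]⟩) hv₀V
  apply hv₀
  obtain ⟨j, hj⟩ := IsPGroup.iff_card.mp hRp
  rw [hj] at key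
  refine Subtype.ext (Subtype.ext ?_)
  exact orderOf_eq_one_iff.mp (Nat.eq_one_of_dvd_coprimes
    (((Nat.coprime_primes hp.out hr).mpr hrp.symm).pow_right j)
    (orderOf_dvd_of_pow_eq_one (hVp _ hv₀V)) (orderOf_dvd_of_pow_eq_one key))

end CfsgLib.BSW
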