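import Cfsg.Agent.Lib.BSW.Structure

/-!
# The case `|G| = k q (q + 1)`, `q = 2 k + 1`

The elements which are products of two involutions in `q` ways fill the conjugates of a
self-centralising subgroup of order `q`, one of which is normalised by `K`.
-/

set_option autoImplicit false
set_option linter.unusedSectionVars false

namespace CfsgLib.BSW

variable {G : Type*} [Group G] [Finite G] {t s : G} {K : Subgroup G}

theorem card_sup_of_coprime {H D : Subgroup G} (hD : D ≤ Subgroup.normalizer (H : Set G))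
    (hc : (Nat.card H).Coprime (Nat.card D))
    (hN : Nat.card (Subgroup.normalizer (H : Set G)) = Nat.card H * Nat.card D) :
    H ⊔ D = Subgroup.normalizer (H : Set G) :=
  Subgroup.eq_of_le_of_card_ge (sup_le Subgroup.le_normalizer hD) (hN ▸ Nat.le_of_dvd Nat.card_pos
    (hc.mul_dvd_of_dvd_of_dvd (Subgroup.card_dvd_of_le le_sup_left)
      (Subgroup.card_dvd_of_le le_sup_right)))

/-- The data of the plus case. -/
theorem Setting.plus (h : Setting t K s) {q : ℕ} (hq : q = 2 * Nat.card K + 1)
    (hG : Nat.card G = Nat.card K * q * (q + 1))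
    (hU : Nat.card {y : G // Rest K y ∧ npairs y = q} + 1 = q * q) :
    ∃ Q : Subgroup G, Nat.card Q = q ∧ SelfCent Q ∧ Q ⊓ K = ⊥ ∧
      Q ⊔ K = Subgroup.normalizer (Q : Set G) ∧
      Nat.card (Subgroup.normalizer (Q : Set G)) = q * Nat.card K := by
  classical
  have hk := h.two_le
  obtain ⟨⟨y, hy, hyn⟩⟩ : Nonempty {y : G // Rest K y ∧ npairs y = q} := by
    refine (Nat.card_ne_zero.mp ?_).1
    nlinarith
  have hn0 : npairs y ≠ 0 := by omega
  obtain ⟨hsc, -⟩ := h.selfCent hy hn0
  set Q := Subgroup.centralizer ({y} : Set G) with hQ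
  have hQc : Nat.card Q = q := (h.npairs_eq_card_cent hy hn0).symm.trans hyn
  have hQ1 : Q ≠ ⊥ := fun e => by
    rw [e, Subgroup.card_bot] at hQc; omega
  have hidxQ : Q.index = Nat.card K * (q + 1) := by
    have := Q.card_mul_index
    rw [hQc, hG] at this
    exact Nat.eq_of_mul_eq_mul_left (show 0 < q by omega) (by rw [this]; ring)
  have hcopK : q.Coprime (Nat.card K) := by
    rw [hq, mul_comm, Nat.coprime_mul_left_add_left]
    exact Nat.coprime_one_left _
  have hcop : (Nat.card Q).Coprime Q.index := by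
    rw [hQc, hidxQ]
    exact Nat.Coprime.mul_right hcopK (by
      rw [Nat.coprime_self_add_right]; exact Nat.coprime_one_right _)
  have hyQ : y ∈ Q := Subgroup.mem_centralizer_singleton_iff.mpr rfl
  -- the conjugates of `Q` hold all elements with `q` pairs
  have hset : ∀ x : G, InConj Q x ↔ Rest K x ∧ npairs x = q := by
    intro x
    constructor
    · rintro ⟨hx1, g, hg⟩
      have hgx1 : g * x * g⁻¹ ≠ 1 := fun e => hx1 (by simpa using e)
      have hr := h.rest_of_commute hy hgx1 (Subgroup.mem_centralizer_singleton_iff.mp hg)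
      have hnp := (h.selfCent hy hn0).2 _ hg hgx1
      refine ⟨?_, by rw [← npairs_conj g x, hnp, hyn]⟩
      have := hr.conj g⁻¹
      rwa [inv_inv, show g⁻¹ * (g * x * g⁻¹) * g = x by group] at this
    · rintro ⟨hx, hxn⟩
      have hn1 : npairs x ≠ 0 := by omega
      obtain ⟨g, hg⟩ := conj_of_selfCent (h.selfCent hx hn1).1 hsc
        (by rw [← h.npairs_eq_card_cent hx hn1, hxn, hQc])
        (by
          have hc : Nat.card (Subgroup.centralizer ({x} : Set G)) = Nat.card Q := by
            rw [← h.npairs_eq_card_cent hx hn1, hxn, hQc]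
          have hi := (Subgroup.centralizer ({x} : Set G)).card_mul_index
          rw [← Q.card_mul_index, hc] at hi
          show (Nat.card (Subgroup.centralizer ({x} : Set G))).Coprime _
          rw [hc, Nat.eq_of_mul_eq_mul_left Nat.card_pos hi]
          exact hcop)
        (fun e => hx.1 ((Subgroup.eq_bot_iff_forall _).mp e x
          (Subgroup.mem_centralizer_singleton_iff.mpr rfl)))
      refine ⟨hx.1, g, ?_⟩
      show g * x * g⁻¹ ∈ czer y
      rw [← hg, mem_map_conj]
      exact Subgroup.mem_centralizer_singleton_iff.mpr rfl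
  have hNidx : (Subgroup.normalizer (Q : Set G)).index = q + 1 := by
    have := hsc.card_inConj
    rw [Nat.card_congr (Equiv.subtypeEquivRight hset)] at this
    rw [this, hQc] at hU
    have e : (Subgroup.normalizer (Q : Set G)).index * (q - 1) = (q + 1) * (q - 1) := by
      obtain ⟨r, rfl⟩ : ∃ r, q = r + 1 := ⟨q - 1, by omega⟩
      simp only [Nat.add_sub_cancel] at hU ⊢
      linarith
    exact Nat.eq_of_mul_eq_mul_right (by omega) e
  have hNc : Nat.card (Subgroup.normalizer (Q : Set G)) = q * Nat.card K := by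
    have := (Subgroup.normalizer (Q : Set G)).card_mul_index
    rw [hNidx, hG] at this
    exact Nat.eq_of_mul_eq_mul_right (show 0 < q + 1 by omega) (this.trans (by ring))
  -- a complement of even order
  set N := Subgroup.normalizer (Q : Set G) with hN
  haveI : (Q.subgroupOf N).Normal := Subgroup.normal_in_normalizer
  have hQN : Q ≤ N := Subgroup.le_normalizer
  have hcq : Nat.card (Q.subgroupOf N) = q := by
    rw [Nat.card_congr (Subgroup.subgroupOfEquivOfLe hQN).toEquiv, hQc]
  have hci : (Q.subgroupOf N).index = Nat.card K := by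
    have := (Q.subgroupOf N).card_mul_index
    rw [hcq, hNc] at this
    exact Nat.eq_of_mul_eq_mul_left (show 0 < q by omega) this
  obtain ⟨E, hE⟩ := Subgroup.exists_right_complement'_of_coprime (N := Q.subgroupOf N)
    (by rw [hcq, hci]; exact hcopK)
  have hEc : Nat.card E = Nat.card K := by
    have := hE.card_mul_card
    rw [hcq, hNc] at this
    exact Nat.eq_of_mul_eq_mul_left (show 0 < q by omega) this
  haveI := Fact.mk Nat.prime_two
  obtain ⟨⟨⟨a, haN⟩, haE⟩, ha2⟩ := exists_prime_orderOf_dvd_card' (G := E) 2 (hEc ▸ h.two_dvd)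
  rw [Subgroup.orderOf_mk, Subgroup.orderOf_mk] at ha2
  have hQE : ∀ c : N, (c : G) ∈ Q → c ∈ E → c = 1 := fun c hc hcE =>
    Subgroup.mem_bot.mp (hE.disjoint.le_bot (Subgroup.mem_inf.mpr ⟨hc, hcE⟩))
  -- every involution normalising `Q` inverts it
  have hinvol : ∀ b : G, orderOf b = 2 → b ∈ N → ∀ c ∈ Q, b * c * b⁻¹ = c⁻¹ := by
    intro b hb hbN c hc
    let φ : Q →* Q :=
      { toFun := fun c => ⟨b * c * b⁻¹, (Subgroup.mem_normalizer_iff.mp hbN _).mp c.2⟩
        map_one' := Subtype.ext (by simp)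
        map_mul' := fun x z => Subtype.ext (show b * (x * z : G) * b⁻¹ =
          b * x * b⁻¹ * (b * z * b⁻¹) by group) }
    have hinv : Function.Involutive φ := fun x => Subtype.ext (by
      show b * (b * x * b⁻¹) * b⁻¹ = x
      rw [show b * (b * (x : G) * b⁻¹) * b⁻¹ = (b * b) * x * (b * b)⁻¹ by group,
        (orderOf_two_iff.mp hb).1]
      simp)
    have hfpf : MonoidHom.FixedPointFree φ := by
      intro x hx
      by_contra hx1
      have e : b * (x : G) = x * b := mul_inv_eq_iff_eq_mul.mp (congrArg Subtype.val hx)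
      exact h.not_commute (h.rest_of_commute hy (fun e0 => hx1 (Subtype.ext e0))
        (Subgroup.mem_centralizer_singleton_iff.mp x.2)) (h.inK_of_two hb) e
    exact congrArg Subtype.val (congrFun (hfpf.coe_eq_inv_of_involutive hinv) ⟨c, hc⟩)
  have hprod : ∀ b : G, orderOf b = 2 → b ∈ N → b * a⁻¹ ∈ Q := by
    intro b hb hbN
    refine Subgroup.mem_centralizer_singleton_iff.mpr ?_
    have e1 := hinvol b hb hbN y hyQ
    have e2 := hinvol a ha2 haN y hyQ
    calc b * a⁻¹ * y = b * a⁻¹ * (a * y * a⁻¹)⁻¹ := by rw [e2, inv_inv]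
      _ = (b * y * b⁻¹)⁻¹ * (b * a⁻¹) := by group
      _ = y * (b * a⁻¹) := by rw [e1, inv_inv]
  -- the complement centralises `a`, and `a` is its only involution
  have hEa : ∀ g ∈ E, (g : G) * a = a * g := by
    intro g hg
    have h1 := hQE (g * ⟨a, haN⟩ * g⁻¹ * ⟨a, haN⟩⁻¹)
      (hprod _ (by rw [orderOf_conj, ha2]) (N.mul_mem (N.mul_mem g.2 haN) (N.inv_mem g.2)))
      (E.mul_mem (E.mul_mem (E.mul_mem hg haE) (E.inv_mem hg)) (E.inv_mem haE))
    exact mul_inv_eq_iff_eq_mul.mp (mul_inv_eq_one.mp (congrArg Subtype.val h1))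
  have huniq : ∀ g ∈ E, orderOf (g : G) = 2 → (g : G) = a := by
    intro g hg hg2
    have h1 := hQE (g * ⟨a, haN⟩⁻¹) (hprod _ hg2 g.2) (E.mul_mem hg (E.inv_mem haE))
    exact mul_inv_eq_one.mp (congrArg Subtype.val h1)
  -- conjugate `a` to `t`
  obtain ⟨c, hc⟩ := isConj_iff.mp (h.conj a t ha2 h.t2)
  set D := (E.map N.subtype).map (MulAut.conj c).toMonoidHom with hD
  have hDK : D = K := by
    refine Subgroup.eq_of_le_of_card_ge ?_ (le_of_eq ?_)
    · rintro x ⟨-, ⟨g, hg, rfl⟩, rfl⟩
      show c * (g : G) * c⁻¹ ∈ K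
      have hct : c * (g : G) * c⁻¹ * t = t * (c * (g : G) * c⁻¹) := by
        rw [← hc]
        calc c * (g : G) * c⁻¹ * (c * a * c⁻¹) = c * ((g : G) * a) * c⁻¹ := by group
          _ = c * (a * g) * c⁻¹ := by rw [hEa g hg]
          _ = c * a * c⁻¹ * (c * g * c⁻¹) := by group
      by_contra hnK
      have h2 := h.outside hct hnK
      rw [orderOf_conj] at h2
      exact hnK (by rw [huniq g hg h2, hc]; exact h.tK)
    · rw [hD, Subgroup.card_map_of_injective (MulAut.conj c).injective,
        Subgroup.card_map_of_injective N.subtype_injective, hEc]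
  have hKQ : K ≤ Subgroup.normalizer ((Q.map (MulAut.conj c).toMonoidHom : Subgroup G) : Set G) := by
    rw [← hDK]
    rintro x ⟨z, ⟨g, -, rfl⟩, rfl⟩
    refine mem_normalizer_of_map ?_
    rw [Subgroup.map_map]
    ext w
    simp only [Subgroup.mem_map, MonoidHom.comp_apply, MulEquiv.coe_toMonoidHom, MulAut.conj_apply,
      Subgroup.coe_subtype]
    constructor
    · rintro ⟨u, hu, rfl⟩
      exact ⟨g * u * (g : G)⁻¹, (Subgroup.mem_normalizer_iff.mp g.2 u).mp hu, by group⟩
    · rintro ⟨u, hu, rfl⟩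
      exact ⟨(g : G)⁻¹ * u * g, by
        have := (Subgroup.mem_normalizer_iff.mp g.2 ((g : G)⁻¹ * u * g)).mpr (by
          rw [show (g : G) * ((g : G)⁻¹ * u * g) * (g : G)⁻¹ = u by group]; exact hu)
        exact this, by group⟩
  have hQ'c : Nat.card (Q.map (MulAut.conj c).toMonoidHom : Subgroup G) = q := by
    rw [Subgroup.card_map_of_injective (MulAut.conj c).injective, hQc]
  have hN'c : Nat.card (Subgroup.normalizer ((Q.map (MulAut.conj c).toMonoidHom : Subgroup G) :
      Set G)) = q * Nat.card K := by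
    rw [← Subgroup.map_equiv_normalizer_eq, Subgroup.card_map_of_injective (MulAut.conj c).injective]
    exact hNc
  refine ⟨Q.map (MulAut.conj c).toMonoidHom, hQ'c, hsc.map c, ?_,
    card_sup_of_coprime hKQ (by rw [hQ'c]; exact hcopK) (by rw [hN'c, hQ'c]), hN'c⟩
  exact (disjoint_iff.mp (Subgroup.disjoint_of_coprime_natCard (by rw [hQ'c]; exact hcopK)))

end CfsgLib.BSW
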