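import Cfsg.Agent.Lib.BSW.MinusSylow
import Cfsg.Agent.Lib.BSW.Plus

/-!
# The case `|G| = k q (q - 1)`: the subgroups `Q` and `D`
-/

set_option autoImplicit false
set_option linter.unusedSectionVars false

open scoped Classical

namespace CfsgLib.BSW

variable {G : Type*} [Group G] [Finite G] {t s : G} {K : Subgroup G} {q : ℕ}

/-- The Sylow subgroup of order `q`. -/
theorem Minus.exists_Q (h : Setting t K s) (m : Minus K q) :
    ∃ Q : Subgroup G, Nat.card Q = q ∧ SelfCent Q ∧
      Nat.card (Subgroup.normalizer (Q : Set G)) = q * (Nat.card K - 1) ∧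
      ∀ x, InConj Q x ↔ Unip K x := by
  have hk := h.two_le
  have hq := m.q_eq
  obtain ⟨p, hp, ⟨a, ha⟩, hord⟩ := m.exists_prime h
  haveI := Fact.mk hp
  have hU : UnipPrime K q p := ⟨⟨a, ha⟩, hord⟩
  have hfac : (Nat.card G).factorization p = a := by
    have ha0 : a ≠ 0 := fun e => by rw [e, pow_zero] at ha; omega
    have hnd : ¬ p ∣ 2 * Nat.card K * (Nat.card K - 1) := fun e =>
      hp.ne_one (Nat.eq_one_of_dvd_coprimes (m.coprime h) (ha ▸ dvd_pow_self p ha0) e)
    rw [m.card_eq, show 2 * Nat.card K * q * (Nat.card K - 1) =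
      q * (2 * Nat.card K * (Nat.card K - 1)) by ring, ha, Nat.factorization_mul
        (pow_ne_zero _ hp.ne_zero) (mul_ne_zero (by omega) (by omega)), Finsupp.add_apply,
      Nat.factorization_eq_zero_of_not_dvd hnd, add_zero, Nat.factorization_pow,
      Finsupp.smul_apply, hp.factorization_self, smul_eq_mul, mul_one]
  have hcardS : ∀ S : Sylow p G, Nat.card (S : Subgroup G) = q := fun S => by
    rw [S.card_eq_multiplicity, hfac, ha]
  -- centralisers of the nontrivial elements of order `p`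
  have hcent : ∀ x : G, Unip K x → ∃ S : Sylow p G,
      (S : Subgroup G) = Subgroup.centralizer ({x} : Set G) := by
    intro x hx
    have e : Nat.card (Subgroup.centralizer ({x} : Set G)) = p ^ (Nat.card G).factorization p := by
      rw [m.card_cent h hx, hfac, ha]
    exact ⟨Sylow.ofCard _ e, rfl⟩
  obtain ⟨S⟩ := (inferInstance : Nonempty (Sylow p G))
  have hunip : ∀ T : Sylow p G, ∀ x ∈ (T : Subgroup G), x ≠ 1 → Unip K x := by
    intro T x hx hx1
    refine m.unip_of_order h (m.dvd_q h hU) (orderOf_eq_prime (m.pow_p h hU ?_) hx1)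
    obtain ⟨j, hj⟩ := T.2 ⟨x, hx⟩
    exact ⟨j, congrArg Subtype.val hj⟩
  have hsc : SelfCent (S : Subgroup G) := by
    intro x hx hx1
    obtain ⟨T, hT⟩ := hcent x (hunip S x hx hx1)
    show Subgroup.centralizer ({x} : Set G) = _
    rw [← hT]
    by_contra hne
    have hxT : x ∈ (T : Subgroup G) := hT ▸ Subgroup.mem_centralizer_singleton_iff.mpr rfl
    have := m.sylow_ti h hU T S fun e => hne (congrArg Sylow.toSubgroup e)
    exact hx1 ((Subgroup.eq_bot_iff_forall _).mp this x ⟨hxT, hx⟩)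
  have hset : ∀ x, InConj (S : Subgroup G) x ↔ Unip K x := by
    intro x
    constructor
    · rintro ⟨hx1, g, hg⟩
      have := (hunip S _ hg fun e => hx1 (by simpa using e)).conj g⁻¹
      rwa [inv_inv, show g⁻¹ * (g * x * g⁻¹) * g = x by group] at this
    · intro hx
      obtain ⟨T, hT⟩ := hcent x hx
      obtain ⟨g, hg⟩ := MulAction.exists_smul_eq G T S
      refine ⟨hx.1.1, g, ?_⟩
      rw [← hg]
      exact Subgroup.smul_mem_pointwise_smul x (MulAut.conj g) _
        (hT ▸ Subgroup.mem_centralizer_singleton_iff.mpr rfl)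
  refine ⟨S, hcardS S, hsc, ?_, hset⟩
  have hcnt := hsc.card_inConj
  rw [Nat.card_congr (Equiv.subtypeEquivRight hset), hcardS S] at hcnt
  have hU' : Nat.card {y : G // Unip K y} + 1 = q * q := m.count
  rw [hcnt] at hU'
  have hidx : (Subgroup.normalizer ((S : Subgroup G) : Set G)).index = q + 1 := by
    have e : (Subgroup.normalizer ((S : Subgroup G) : Set G)).index * (q - 1) = (q + 1) * (q - 1) := by
      obtain ⟨r, rfl⟩ : ∃ r, q = r + 1 := ⟨q - 1, by omega⟩
      simp only [Nat.add_sub_cancel] at hU' ⊢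
      linarith
    exact Nat.eq_of_mul_eq_mul_right (by omega) e
  have := (Subgroup.normalizer ((S : Subgroup G) : Set G)).card_mul_index
  rw [hidx, m.card_eq] at this
  refine Nat.eq_of_mul_eq_mul_right (show 0 < q + 1 by omega) (this.trans ?_)
  rw [hq]; ring

/-- The complement `D` of `Q` in its normaliser, with the involution inverting it. -/
theorem Minus.exists_D (h : Setting t K s) (m : Minus K q) {Q : Subgroup G}
    (hQc : Nat.card Q = q) (hQs : SelfCent Q)
    (hQN : Nat.card (Subgroup.normalizer (Q : Set G)) = q * (Nat.card K - 1))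
    (hQU : ∀ x, InConj Q x ↔ Unip K x) :
    ∃ D : Subgroup G, Nat.card D = Nat.card K - 1 ∧ Q ⊓ D = ⊥ ∧
      Q ⊔ D = Subgroup.normalizer (Q : Set G) ∧ (∀ a ∈ D, ∀ b ∈ D, a * b = b * a) ∧
      (D ≠ ⊥ → SelfCent D ∧ ∃ u : G, orderOf u = 2 ∧ u ∉ D ∧
        (∀ d ∈ D, u * d * u⁻¹ = d⁻¹) ∧
        Subgroup.normalizer (D : Set G) = D ⊔ Subgroup.zpowers u) := by
  have hk := h.two_le
  have hq := m.q_eq
  set N := Subgroup.normalizer (Q : Set G) with hN
  haveI : (Q.subgroupOf N).Normal := Subgroup.normal_in_normalizer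
  have hQle : Q ≤ N := Subgroup.le_normalizer
  have hcq : Nat.card (Q.subgroupOf N) = q := by
    rw [Nat.card_congr (Subgroup.subgroupOfEquivOfLe hQle).toEquiv, hQc]
  have hci : (Q.subgroupOf N).index = Nat.card K - 1 := by
    have := (Q.subgroupOf N).card_mul_index
    rw [hcq, hQN] at this
    exact Nat.eq_of_mul_eq_mul_left (show 0 < q by omega) this
  have hcop : q.Coprime (Nat.card K - 1) := (m.coprime h).coprime_dvd_right (dvd_mul_left _ _)
  obtain ⟨E, hE⟩ := Subgroup.exists_right_complement'_of_coprime (N := Q.subgroupOf N)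
    (by rw [hcq, hci]; exact hcop)
  have hEc : Nat.card E = Nat.card K - 1 := by
    have := hE.card_mul_card
    rw [hcq, hQN] at this
    exact Nat.eq_of_mul_eq_mul_left (show 0 < q by omega) this
  set D := E.map N.subtype with hD
  have hDc : Nat.card D = Nat.card K - 1 := by
    rw [hD, Subgroup.card_map_of_injective N.subtype_injective, hEc]
  have hDN : D ≤ N := Subgroup.map_subtype_le _
  have hinf : Q ⊓ D = ⊥ :=
    disjoint_iff.mp (Subgroup.disjoint_of_coprime_natCard (by rw [hQc, hDc]; exact hcop))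
  have hsup : Q ⊔ D = N := card_sup_of_coprime hDN (by rw [hQc, hDc]; exact hcop)
    (by rw [hQN, hQc, hDc])
  by_cases hD1 : D = ⊥
  · refine ⟨D, hDc, hinf, hsup, fun a ha b hb => ?_, fun hne => absurd hD1 hne⟩
    rw [hD1, Subgroup.mem_bot] at ha
    rw [ha, one_mul, mul_one]
  -- `D` acts on the abelian group `Q` without fixed points
  haveI : IsMulCommutative Q := ⟨⟨fun a b => Subtype.ext (hQs.comm a.2 b.2)⟩⟩
  have hQ1 : Q ≠ ⊥ := fun e => by rw [e, Subgroup.card_bot] at hQc; omega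
  have hfpf : ∀ e ∈ D, e ≠ 1 → Q ⊓ Subgroup.centralizer ({e} : Set G) = ⊥ := by
    intro e he he1
    rw [Subgroup.eq_bot_iff_forall]
    intro x hx
    by_contra hx1
    have heQ : e ∈ Q := by
      rw [← hQs x hx.1 hx1]
      exact Subgroup.mem_centralizer_singleton_iff.mpr
        (Subgroup.mem_centralizer_singleton_iff.mp hx.2).symm
    exact he1 ((Subgroup.eq_bot_iff_forall _).mp hinf e ⟨heQ, he⟩)
  obtain ⟨⟨⟨z, hzD⟩, hz⟩, hz1⟩ := Subgroup.ne_bot_iff_exists_ne_one.mp
    (FrobCompl.center_ne_bot hD1 hQ1 hDN hfpf)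
  have hz1 : z ≠ 1 := fun e => hz1 (Subtype.ext (Subtype.ext e))
  have hzd : orderOf z ∣ Nat.card K - 1 := hDc ▸ Subgroup.orderOf_dvd_natCard D hzD
  have hzr : Rest K z := by
    refine ⟨hz1, fun g hg => hz1 (orderOf_eq_one_iff.mp
      (Nat.eq_one_of_dvd_coprimes (Minus.coprime_K h) hzd (Dvd.dvd.mul_left ?_ 2)))⟩
    rw [← orderOf_conj g z]
    exact Subgroup.orderOf_dvd_natCard K hg
  have hzn : npairs z ≠ 0 := by
    intro hn
    obtain ⟨-, g, hg⟩ := (hQU z).mpr ⟨hzr, hn⟩
    refine hz1 (orderOf_eq_one_iff.mp (Nat.eq_one_of_dvd_coprimes hcop ?_ hzd))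
    rw [← orderOf_conj g z, ← hQc]
    exact Subgroup.orderOf_dvd_natCard Q hg
  obtain ⟨hsc, hcc, -⟩ := m.pos_cent h hzr hzn
  have hDeq : D = Subgroup.centralizer ({z} : Set G) :=
    Subgroup.eq_of_le_of_card_ge (fun x hx => Subgroup.mem_centralizer_singleton_iff.mpr
      (congrArg Subtype.val (Subgroup.mem_center_iff.mp hz ⟨x, hx⟩))) (by rw [hcc, hDc])
  refine ⟨D, hDc, hinf, hsup, fun a ha b hb => (hDeq ▸ hsc).comm ha hb, fun _ => ⟨hDeq ▸ hsc, ?_⟩⟩
  obtain ⟨u, hu2, hu⟩ := exists_inverter hzn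
  obtain ⟨hinv, -⟩ := h.inverts_cent hzr hu2 hu
  have hinv' : ∀ d ∈ D, u * d * u⁻¹ = d⁻¹ := fun d hd => hinv d (show d ∈ Subgroup.centralizer ({z} : Set G) from hDeq ▸ hd)
  have huD : u ∉ D := fun e => by
    rw [hDeq] at e
    exact h.not_commute hzr (h.inK_of_two hu2) (Subgroup.mem_centralizer_singleton_iff.mp e)
  refine ⟨u, hu2, huD, hinv', ?_⟩
  -- the order of the normaliser of `D`
  have hset : ∀ x, InConj D x ↔ Rest K x ∧ npairs x ≠ 0 := by
    intro x
    constructor
    · rintro ⟨hx1, g, hg⟩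
      have hne : g * x * g⁻¹ ≠ 1 := fun e => hx1 (by simpa using e)
      rw [hDeq] at hg
      have hr := h.rest_of_commute hzr hne (Subgroup.mem_centralizer_singleton_iff.mp hg)
      have hnp := (h.selfCent hzr hzn).2 _ hg hne
      refine ⟨?_, by rw [← npairs_conj g x, hnp]; exact hzn⟩
      have := hr.conj g⁻¹
      rwa [inv_inv, show g⁻¹ * (g * x * g⁻¹) * g = x by group] at this
    · rintro ⟨hx, hxn⟩
      obtain ⟨h1, h2, h3⟩ := m.pos_cent h hx hxn
      obtain ⟨g, hg⟩ := conj_of_selfCent h1 hsc (hcc.trans h2.symm) h3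
        (fun e => hx.1 ((Subgroup.eq_bot_iff_forall _).mp e x
          (Subgroup.mem_centralizer_singleton_iff.mpr rfl)))
      refine ⟨hx.1, g, ?_⟩
      rw [hDeq, ← hg, mem_map_conj]
      exact Subgroup.mem_centralizer_singleton_iff.mpr rfl
  have hsD : SelfCent D := hDeq ▸ hsc
  have hcnt := hsD.card_inConj
  rw [Nat.card_congr (Equiv.subtypeEquivRight hset), m.count_pos h, hDc, Nat.sub_sub] at hcnt
  have hk2 : 2 < Nat.card K := by
    have := D.one_lt_card_iff_ne_bot.mpr hD1
    omega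
  have hidx : (Subgroup.normalizer (D : Set G)).index = q * Nat.card K :=
    (Nat.eq_of_mul_eq_mul_right (show 0 < Nat.card K - (1 + 1) by omega) hcnt).symm
  have hND : Nat.card (Subgroup.normalizer (D : Set G)) = 2 * (Nat.card K - 1) := by
    have := (Subgroup.normalizer (D : Set G)).card_mul_index
    rw [hidx, m.card_eq] at this
    exact Nat.eq_of_mul_eq_mul_right (show 0 < q * Nat.card K from Nat.mul_pos (by omega) (by omega))
      (this.trans (by ring))
  have huN : u ∈ Subgroup.normalizer (D : Set G) :=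
    hsD.normalizer_mem hzD hz1 (by rw [hinv' z hzD]; exact D.inv_mem hzD)
  refine (Subgroup.eq_of_le_of_card_ge (sup_le Subgroup.le_normalizer
    (Subgroup.zpowers_le.mpr huN)) ?_).symm
  rw [hND]
  have h2 : Nat.card (Subgroup.zpowers u) = 2 := by rw [Nat.card_zpowers, hu2]
  refine Nat.le_of_dvd Nat.card_pos (Nat.Coprime.mul_dvd_of_dvd_of_dvd ?_ ?_ ?_)
  · exact ((Minus.coprime_K h).coprime_dvd_right (dvd_mul_right 2 _)).symm
  · exact h2 ▸ Subgroup.card_dvd_of_le le_sup_right
  · exact hDc ▸ Subgroup.card_dvd_of_le le_sup_left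

end CfsgLib.BSW
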