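import Cfsg.Agent.Lib.BSW.Shape

/-!
# The order formula

With `q = |v|`, `v` the signed degree of the common constituent, `|G| = k v (v + 1)` and
`v = 1 ± 2k` where `k = |K|`.
-/

set_option autoImplicit false
set_option linter.unusedSectionVars false

open scoped Classical

namespace CfsgLib.BSW

open Cfsg CfsgLib.Char Finset
open scoped ComplexConjugate

variable {G : Type*} [Group G] [Fintype G] {K : Subgroup G} {t s : G}
variable {z : IrrCharacter G} {d : ℤ}

/-- A further constituent belongs to exactly one class of characters. -/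
theorem Setting.class_sum (h : Setting t K s) (hS : Shape K z d) {l : IrrCharacter K}
    (hl : l ≠ triv K) {χ : IrrCharacter G} (hχ : χ ≠ z) (h0 : rcoeff K l χ ≠ 0) (g : ℕ → ℂ) :
    ∑ m ∈ univ.erase (triv K), g (wt m) * ((rcoeff K m χ : ℂ) ^ 2 * (wt m : ℂ)) =
      2 * g (wt l) := by
  have hr : (rcoeff K l χ : ℂ) ^ 2 = 1 := by
    rcases ((h.rcoeff_bound hl).1 χ).resolve_left h0 with e | e <;> rw [e] <;> norm_num
  have hz : ∀ m ∈ univ.erase (triv K), m ≠ l → m ≠ conjPerm l →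
      g (wt m) * ((rcoeff K m χ : ℂ) ^ 2 * (wt m : ℂ)) = 0 := by
    intro m hm m1 m2
    have : rcoeff K m χ = 0 := by
      by_contra hne
      rcases h.separated hS.sign hS.const hl (ne_of_mem_erase hm) hχ h0 hne with e | e
      exacts [m1 e, m2 e]
    rw [this]; simp
  rcases h.wt_cases l with ⟨hne, hw⟩ | ⟨he, hw⟩
  · rw [sum_eq_add_of_mem l (conjPerm l) (mem_erase.mpr ⟨hl, mem_univ _⟩)
      (mem_erase.mpr ⟨conjPerm_ne_triv hl, mem_univ _⟩) hne.symm
      fun c hc hc' => hz c hc hc'.1 hc'.2, h.rcoeff_conj, wt_conj, hw, hr]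
    push_cast; ring
  · rw [sum_eq_single_of_mem l (mem_erase.mpr ⟨hl, mem_univ _⟩)
      fun c hc hc' => hz c hc hc' (by rwa [he]), hw, hr]
    push_cast; ring

/-- The squared value at `t` of a character other than the common constituent. -/
theorem Setting.value_sq_sum (h : Setting t K s) (hS : Shape K z d) {χ : IrrCharacter G}
    (hχ : χ ≠ z) (hχ1 : χ ≠ triv G) :
    (χ : G → ℂ) t ^ 2 =
      ∑ m ∈ univ.erase (triv K), 2 * (rcoeff K m χ : ℂ) ^ 2 / (wt m : ℂ) := by
  have hrw : ∀ m : IrrCharacter K, 2 * (rcoeff K m χ : ℂ) ^ 2 / (wt m : ℂ) =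
      (fun n : ℕ => 2 / (n : ℂ) ^ 2) (wt m) * ((rcoeff K m χ : ℂ) ^ 2 * (wt m : ℂ)) := fun m => by
    have : (wt m : ℂ) ≠ 0 := by rw [wt]; split_ifs <;> norm_num
    field_simp
  rw [sum_congr rfl fun m _ => hrw m]
  by_cases hsupp : ∃ l : IrrCharacter K, l ≠ triv K ∧ rcoeff K l χ ≠ 0
  · obtain ⟨l, hl, h0⟩ := hsupp
    rw [h.class_sum hS hl hχ h0 (fun n : ℕ => 2 / (n : ℂ) ^ 2)]
    have hw : (wt l : ℂ) ≠ 0 := by rw [wt]; split_ifs <;> norm_num
    have := h.value_sq hS.sign hS.const hl hχ h0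
    field_simp
    linear_combination this
  · push_neg at hsupp
    rw [h.value_t χ, sum_eq_zero fun l _ => ?_, sum_eq_zero fun m hm => ?_]
    · simp
    · rw [hsupp m (ne_of_mem_erase hm)]; simp
    · by_cases hl : l = triv K
      · rw [hl, h.coeff_triv_left]; simp
      · rw [coeff_of_ne hχ1, hsupp l hl]; simp

theorem Setting.card_erase_triv (h : Setting t K s) :
    ((univ : Finset (IrrCharacter K)).erase (triv K)).card = Nat.card K - 1 := by
  rw [card_erase_of_mem (mem_univ _), card_univ, h.card_irr]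

/-- The degrees of the further constituents contribute `(k - 1)(1 + v)²/2`. -/
theorem Setting.square_bound (h : Setting t K s) (hS : Shape K z d) :
    2 * (1 + (deg z : ℤ) ^ 2) + ((Nat.card K : ℤ) - 1) * (1 + d * (deg z : ℤ)) ^ 2 ≤
      2 * (Nat.card G : ℤ) := by
  set O := (univ.erase (triv G)).erase z with hO
  have hs : (1 : ℤ) + (deg z : ℤ) ^ 2 + ∑ χ ∈ O, (deg χ : ℤ) ^ 2 = (Nat.card G : ℤ) := by
    rw [← sum_sq_deg (G := G), ← sum_erase_add univ _ (mem_univ (triv G)),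
      ← sum_erase_add (univ.erase (triv G)) _ (mem_erase.mpr ⟨hS.ne_triv, mem_univ z⟩), deg_triv]
    push_cast; ring
  have hb : ∀ χ ∈ O, ∑ m ∈ univ.erase (triv K), (rcoeff K m χ) ^ 2 * (wt m : ℤ) ≤ 2 := by
    intro χ hχ
    rw [mem_erase] at hχ
    by_cases hsupp : ∃ l : IrrCharacter K, l ≠ triv K ∧ rcoeff K l χ ≠ 0
    · obtain ⟨l, hl, h0⟩ := hsupp
      have := h.class_sum hS hl hχ.1 h0 (fun _ => 1)
      simp only [one_mul, mul_one] at this
      exact le_of_eq (by exact_mod_cast this)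
    · push_neg at hsupp
      rw [sum_eq_zero fun m hm => by rw [hsupp m (ne_of_mem_erase hm)]; simp]
      norm_num
  have hl : ∀ m ∈ univ.erase (triv K),
      ∑ χ ∈ O, (rcoeff K m χ) ^ 2 * (wt m : ℤ) * (deg χ : ℤ) ^ 2 =
        (1 + d * (deg z : ℤ)) ^ 2 := by
    intro m hm
    have hm' := ne_of_mem_erase hm
    have hw : (wt m : ℤ) ≠ 0 := by rw [wt]; split_ifs <;> norm_num
    refine mul_left_cancel₀ hw ?_
    rw [mul_sum, hO, erase_right_comm]
    have e : ∀ χ ∈ univ.erase z, (wt m : ℤ) * ((rcoeff K m χ) ^ 2 * (wt m : ℤ) * (deg χ : ℤ) ^ 2) =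
        rcoeff K m χ ^ 2 * (1 + d * (deg z : ℤ)) ^ 2 := by
      intro χ hχ
      by_cases h0 : rcoeff K m χ = 0
      · rw [h0]; ring
      have := hS.degree m hm' χ (ne_of_mem_erase hχ) h0
      have hr2 : rcoeff K m χ ^ 2 = 1 := by
        rcases ((h.rcoeff_bound hm').1 χ).resolve_left h0 with e | e <;> rw [e] <;> norm_num
      linear_combination ((wt m : ℤ) * rcoeff K m χ * (deg χ : ℤ) - (1 + d * (deg z : ℤ))) * this
        - (1 + d * (deg z : ℤ)) ^ 2 * hr2
    rw [sum_erase, sum_congr rfl e, ← sum_mul, h.others_norm hS.sign hS.const hm']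
    simp [rcoeff]
  have h2 : ((Nat.card K : ℤ) - 1) * (1 + d * (deg z : ℤ)) ^ 2 ≤ 2 * ∑ χ ∈ O, (deg χ : ℤ) ^ 2 := by
    have hk := h.card_erase_triv
    have h1 := h.two_le
    rw [show ((Nat.card K : ℤ) - 1) = (((univ : Finset (IrrCharacter K)).erase (triv K)).card : ℤ) by
      omega, ← nsmul_eq_mul, ← sum_const, ← sum_congr rfl hl, sum_comm, mul_sum]
    refine sum_le_sum fun χ hχ => ?_
    rw [← sum_mul]
    exact mul_le_mul_of_nonneg_right (hb χ hχ) (sq_nonneg _)
  linarith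

/-- The signed degree of the common constituent. -/
theorem Setting.degree_form (h : Setting t K s) (hS : Shape K z d) :
    ∃ i : ℤ, d * (deg z : ℤ) = 1 - 2 * (Nat.card K : ℤ) * i ∧
      (Nat.card G : ℤ) * i ^ 2 =
        (Nat.card K : ℤ) * (d * (deg z : ℤ)) * (d * (deg z : ℤ) + 1) := by
  obtain ⟨l0, hl0, hl0r, -⟩ := h.exists_real
  have hw : wt l0 = 2 := if_pos hl0r
  obtain ⟨a, b, hab, hAB⟩ := card_eq_two.mp ((h.others_card hS.sign hS.const hl0).trans hw)
  have hmem : ∀ q, q ≠ z ∧ rcoeff K l0 q ≠ 0 ↔ q = a ∨ q = b := fun q => by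
    simpa using Finset.ext_iff.mp hAB q
  obtain ⟨haz, ha⟩ := (hmem a).mpr (Or.inl rfl)
  obtain ⟨hbz, hb⟩ := (hmem b).mpr (Or.inr rfl)
  have hat := (rcoeff_ne ha).1
  set A : ℤ := rcoeff K l0 a * (deg a : ℤ) with hA
  have hA2 : 2 * A = -(1 + d * (deg z : ℤ)) := by
    rw [hA, ← hS.degree l0 hl0 a haz ha, hw]; push_cast; ring
  have hB : rcoeff K l0 b * (deg b : ℤ) = A := by
    have := hS.degree l0 hl0 b hbz hb
    rw [hw, mul_assoc] at this
    push_cast at this
    linarith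
  -- the congruence
  obtain ⟨n, hn⟩ := exists_int_classInner (φ := fun x : K => (a : G → ℂ) x)
    (ψ := fun _ : K => (1 : ℂ)) (isGeneralized_restrict K (isGeneralized_of_isIrr a.2))
    isGeneralized_one
  have hval : ∀ x : K, x ≠ 1 → (a : G → ℂ) x = -(rcoeff K l0 a : ℂ) * (l0 : K → ℂ) x := by
    intro x hx
    rw [h.value_mem a hx, sum_eq_single_of_mem l0 (mem_univ _) fun c _ hc => ?_]
    · rw [coeff_of_ne hat]; ring
    · by_cases hct : c = triv K
      · rw [hct, h.coeff_triv_left]; simp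
      · have : rcoeff K c a = 0 := by
          by_contra hne
          rcases h.separated hS.sign hS.const hl0 hct haz ha hne with e | e
          exacts [hc e, hc (e.trans hl0r)]
        rw [coeff_of_ne hat, this]; simp
  have hsum : ∑ x : K, (a : G → ℂ) x = (deg a : ℂ) + (rcoeff K l0 a : ℂ) := by
    have h0 : ∑ x : K, (l0 : K → ℂ) x = 0 := by
      have h1 : classInner (l0 : K → ℂ) (triv K : K → ℂ) = 0 :=
        classInner_irr_ne l0.2 (triv K).2 fun e => hl0 (Subtype.ext e)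
      rw [classInner, mul_eq_zero, inv_eq_zero, or_iff_right
        (Nat.cast_ne_zero.mpr Nat.card_pos.ne')] at h1
      simpa only [triv_apply, map_one, mul_one] using h1
    rw [← sum_erase_add univ _ (mem_univ (1 : K)), sum_congr rfl fun x hx =>
      hval x (ne_of_mem_erase hx), ← mul_sum, show ((1 : K) : G) = 1 from rfl, deg_spec]
    rw [← sum_erase_add univ _ (mem_univ (1 : K)), h.degree_one l0] at h0
    rw [eq_neg_of_add_eq_zero_left h0]; ring
  rw [classInner] at hn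
  simp only [map_one, mul_one] at hn
  rw [hsum, inv_mul_eq_iff_eq_mul₀ (Nat.cast_ne_zero.mpr Nat.card_pos.ne')] at hn
  have hn' : (deg a : ℤ) + rcoeff K l0 a = (Nat.card K : ℤ) * n := by exact_mod_cast hn
  have hA1 : A + 1 = (Nat.card K : ℤ) * (rcoeff K l0 a * n) := by
    have hr2 : rcoeff K l0 a ^ 2 = 1 := by
      rcases ((h.rcoeff_bound hl0).1 a).resolve_left ha with e | e <;> rw [e] <;> norm_num
    rw [hA]
    linear_combination rcoeff K l0 a * hn' - hr2
  refine ⟨rcoeff K l0 a * n, by linarith, ?_⟩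
  · have hv : d * (deg z : ℤ) = 1 - 2 * (Nat.card K : ℤ) * (rcoeff K l0 a * n) := by linarith
    set i := rcoeff K l0 a * n
    set v := d * (deg z : ℤ) with hvdef
    have e := h.weighted_split hS.ne_triv hS.sign hS.const hl0
    rw [hAB, sum_pair hab, hw] at e
    have ea : (rcoeff K l0 a : ℂ) * (deg a : ℂ) = (A : ℂ) := by rw [hA]; push_cast; ring
    have eb : (rcoeff K l0 b : ℂ) * (deg b : ℂ) = (A : ℂ) := by rw [← hB]; push_cast; ring
    have ev : (d : ℂ) * (deg z : ℂ) = (v : ℂ) := by rw [hvdef]; push_cast; ring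
    rw [ea, eb, ev] at e
    have hA0 : (A : ℂ) ≠ 0 := Int.cast_ne_zero.mpr (mul_ne_zero ha (by simp [deg_ne_zero]))
    have hv0 : (v : ℂ) ≠ 0 := Int.cast_ne_zero.mpr (mul_ne_zero (by have := hS.sign; omega)
      (by simp [deg_ne_zero]))
    have hk0 : (Nat.card K : ℂ) ≠ 0 := Nat.cast_ne_zero.mpr Nat.card_pos.ne'
    have hG0 : (Nat.card G : ℂ) ≠ 0 := Nat.cast_ne_zero.mpr Nat.card_pos.ne'
    have hA2' : 2 * (A : ℂ) = -(1 + (v : ℂ)) := by exact_mod_cast hA2
    have hv' : (v : ℂ) = 1 - 2 * (Nat.card K : ℂ) * (i : ℂ) := by exact_mod_cast hv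
    have hv1 : (1 : ℂ) + v ≠ 0 := fun e0 => hA0 (by linear_combination (1 / 2) * hA2' - (1 / 2) * e0)
    have e3 : (1 : ℂ) / A = -2 / (1 + (v : ℂ)) := by
      rw [div_eq_div_iff hA0 hv1]; linear_combination hA2'
    rw [e3] at e
    push_cast at e
    field_simp at e
    have key : ((Nat.card G : ℤ) * i ^ 2 : ℂ) = (Nat.card K : ℂ) * v * (v + 1) := by
      refine mul_left_cancel₀ (show (4 : ℂ) * (Nat.card K : ℂ) ^ 2 ≠ 0 from
        mul_ne_zero (by norm_num) (pow_ne_zero 2 hk0)) ?_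
      push_cast
      rw [show (4 : ℂ) * (Nat.card K : ℂ) ^ 2 * ((Nat.card G : ℂ) * (i : ℂ) ^ 2) =
        (Nat.card G : ℂ) * ((v : ℂ) - 1) ^ 2 by rw [hv']; ring]
      linear_combination (1 / 2 : ℂ) * e
    exact_mod_cast key

/-- The order formula. -/
theorem Setting.order (h : Setting t K s) (hS : Shape K z d) :
    (d * (deg z : ℤ) = 1 + 2 * (Nat.card K : ℤ) ∨ d * (deg z : ℤ) = 1 - 2 * (Nat.card K : ℤ)) ∧
      (Nat.card G : ℤ) = (Nat.card K : ℤ) * (d * (deg z : ℤ)) * (d * (deg z : ℤ) + 1) := by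
  obtain ⟨i, hv, he⟩ := h.degree_form hS
  have hb := h.square_bound hS
  have hk : (2 : ℤ) ≤ (Nat.card K : ℤ) := by exact_mod_cast h.two_le
  have hsq : (deg z : ℤ) ^ 2 = (d * (deg z : ℤ)) ^ 2 := by
    rw [mul_pow, sign_sq hS.sign, one_mul]
  rw [hsq] at hb
  have hG : (0 : ℤ) < Nat.card G := by exact_mod_cast Nat.card_pos
  set v := d * (deg z : ℤ)
  set k := (Nat.card K : ℤ)
  set N := (Nat.card G : ℤ)
  rcases (show i = 0 ∨ i = 1 ∨ i = -1 ∨ 2 ≤ i ∨ i ≤ -2 by omega) with rfl | rfl | rfl | hi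
  · rw [show v = 1 by rw [hv]; ring] at he
    nlinarith
  · exact ⟨Or.inr (by rw [hv]; ring), by linear_combination he⟩
  · exact ⟨Or.inl (by rw [hv]; ring), by linear_combination he⟩
  · exfalso
    have h4 : 4 * N ≤ k * v * (v + 1) := by
      rw [← he]
      have : (4 : ℤ) ≤ i ^ 2 := by rcases hi with hi | hi <;> nlinarith
      nlinarith
    have hbig : 4 * k - 1 ≤ v ∨ v ≤ 1 - 4 * k := by
      rcases hi with hi | hi
      · right; rw [hv]; nlinarith
      · left; rw [hv]; nlinarith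
    have hq : (k + 2) * v ^ 2 + (3 * k - 4) * v + (2 * k + 2) ≤ 0 := by nlinarith
    rcases hbig with hbig | hbig
    · nlinarith [mul_nonneg (show (0 : ℤ) ≤ 3 * k - 4 by linarith) (show (0 : ℤ) ≤ v by linarith)]
    · have h3 : 0 ≤ (k + 2) * (-v) - (3 * k - 4) := by nlinarith
      nlinarith [mul_nonneg (show (0 : ℤ) ≤ -v by linarith) h3]

end CfsgLib.BSW
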