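import Cfsg.Agent.Lib.BSW.Main
import Cfsg.Agent.S0731

/-!
# Recognition of `PSL(2, q)` from the Brauer–Suzuki–Wall configuration
-/

set_option autoImplicit false
set_option linter.unusedSectionVars false
set_option linter.style.haveILetI false

open MulAction

namespace CfsgLib.BSW

variable {G : Type*} [Group G] [Finite G]

theorem mk_smul_base_iff {N : Subgroup G} {g x : G} :
    g • (x : G ⧸ N) = x ↔ x⁻¹ * g * x ∈ N := by
  rw [MulAction.Quotient.smul_mk, smul_eq_mul, eq_comm, QuotientGroup.eq, mul_assoc]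

/-- A simple group with the arithmetic and local structure of `PSL(2, q)`. -/
theorem isPSL_of_borel [IsSimpleGroup G] (Q D : Subgroup G) (hQ : SelfCent Q) (hinf : Q ⊓ D = ⊥)
    (hN : Subgroup.normalizer (Q : Set G) = Q ⊔ D) (hd : 2 * Nat.card D + 1 = Nat.card Q)
    (hd2 : 2 ≤ Nat.card D)
    (hG : 2 * Nat.card G = Nat.card Q * (Nat.card Q + 1) * (Nat.card Q - 1))
    (u : G) (hu : u ∈ Subgroup.normalizer (D : Set G)) (huD : u ∉ D) :
    ∃ (F : Type) (_ : Field F) (_ : Fintype F),
      Odd (Fintype.card F) ∧ Nonempty (G ≃* Matrix.ProjectiveSpecialLinearGroup (Fin 2) F) := by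
  classical
  set N := Subgroup.normalizer (Q : Set G) with hNdef
  have hQN : Q ≤ N := Subgroup.le_normalizer
  have hDN : D ≤ N := hN ▸ le_sup_right
  have hQD : ∀ x, x ∈ Q → x ∈ D → x = 1 := fun x hx hx' =>
    Subgroup.mem_bot.mp (hinf.le (Subgroup.mem_inf.mpr ⟨hx, hx'⟩))
  have hdec : ∀ x ∈ N, ∃ a ∈ Q, ∃ e ∈ D, a * e = x := by
    intro x hx
    rw [hN, ← SetLike.mem_coe, Subgroup.coe_mul_of_right_le_normalizer_left Q D hDN] at hx
    exact hx
  have hNc : Nat.card N = Nat.card Q * Nat.card D := by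
    rw [← Nat.card_prod]
    refine (Nat.card_eq_of_bijective
      (fun p : Q × D => (⟨(p.1 : G) * (p.2 : G), N.mul_mem (hQN p.1.2) (hDN p.2.2)⟩ : N))
      ⟨?_, ?_⟩).symm
    · rintro ⟨a, e⟩ ⟨a', e'⟩ he
      have he' : (a : G) * e = a' * e' := congrArg Subtype.val he
      have h1 : (a' : G)⁻¹ * a = e' * (e : G)⁻¹ := by
        rw [eq_mul_inv_iff_mul_eq, mul_assoc, he', inv_mul_cancel_left]
      have h2 := hQD _ (Q.mul_mem (Q.inv_mem a'.2) a.2) (h1 ▸ D.mul_mem e'.2 (D.inv_mem e.2))
      have h3 : a = a' := Subtype.ext (inv_mul_eq_one.mp h2).symm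
      subst h3
      rw [show e = e' from Subtype.ext (mul_left_cancel he')]
    · rintro ⟨x, hx⟩
      obtain ⟨a, ha, e, he, rfl⟩ := hdec x hx
      exact ⟨(⟨a, ha⟩, ⟨e, he⟩), rfl⟩
  have hcard : Nat.card (G ⧸ N) = Nat.card Q + 1 := by
    have e := Subgroup.card_eq_card_quotient_mul_card_subgroup N
    rw [hNc] at e
    rw [e, show Nat.card Q - 1 = 2 * Nat.card D by omega] at hG
    refine Nat.eq_of_mul_eq_mul_right
      (Nat.mul_pos (Nat.card_pos (α := Q)) (Nat.card_pos (α := D))) ?_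
    linarith
  haveI : (Q.subgroupOf N).Normal := Subgroup.normal_in_normalizer
  have hidx : (Q.subgroupOf N).index = Nat.card D := by
    have := (Q.subgroupOf N).card_mul_index
    rw [Nat.card_congr (Subgroup.subgroupOfEquivOfLe hQN).toEquiv, hNc] at this
    exact Nat.eq_of_mul_eq_mul_left Nat.card_pos this
  have hcop : (Nat.card Q).Coprime (Nat.card D) := by
    rw [← hd, mul_comm, Nat.coprime_mul_left_add_left]
    exact Nat.coprime_one_left _
  have hmemQ : ∀ x ∈ N, x ^ Nat.card Q = 1 → x ∈ Q := by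
    intro x hx hxq
    have h1 : (QuotientGroup.mk (⟨x, hx⟩ : N) : N ⧸ Q.subgroupOf N) ^ Nat.card D = 1 := by
      rw [← hidx, Subgroup.index]; exact pow_card_eq_one'
    have h2 : (QuotientGroup.mk (⟨x, hx⟩ : N) : N ⧸ Q.subgroupOf N) ^ Nat.card Q = 1 := by
      rw [← QuotientGroup.mk_pow]
      exact (QuotientGroup.eq_one_iff _).mpr (by simp [Subgroup.mem_subgroupOf, hxq])
    have h3 := pow_gcd_eq_one.mpr ⟨h2, h1⟩
    rw [hcop.gcd_eq_one, pow_one] at h3
    exact Subgroup.mem_subgroupOf.mp ((QuotientGroup.eq_one_iff _).mp h3)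
  set o : G ⧸ N := (QuotientGroup.mk 1 : G ⧸ N) with ho
  have hbase : ∀ g : G, g • o = o ↔ g ∈ N := fun g => by rw [ho, mk_smul_base_iff]; simp
  -- `Q` is semiregular away from the base point
  have hsemi : ∀ a ∈ Q, ∀ c : G ⧸ N, c ≠ o → a • c = c → a = 1 := by
    intro a ha c hc hac
    obtain ⟨x, rfl⟩ := QuotientGroup.mk_surjective c
    by_contra ha1
    rw [mk_smul_base_iff] at hac
    have haq : a ^ Nat.card Q = 1 := congrArg Subtype.val (pow_card_eq_one' (x := (⟨a, ha⟩ : Q)))
    have hq : x⁻¹ * a * x ∈ Q := hmemQ _ hac (by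
      have := conj_pow (i := Nat.card Q) (a := x⁻¹) (b := a)
      rw [inv_inv] at this
      rw [this, haq]; simp)
    have := hQ.normalizer_mem ha ha1 (g := x⁻¹) (by rwa [inv_inv])
    refine hc ?_
    rw [ho, QuotientGroup.eq, mul_one]
    exact this
  have hreg : ∀ y z : G ⧸ N, y ≠ o → z ≠ o → ∃! a : Q, (a : G) • y = z := by
    intro y z hy hz
    let f : Q → {c : G ⧸ N // c ≠ o} := fun a => ⟨(a : G) • y, fun e => hy
      (MulAction.injective (a : G) (e.trans ((hbase _).mpr (hQN a.2)).symm))⟩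
    have hf : Function.Injective f := by
      intro a b e
      have e' : ((b : G)⁻¹ * a) • y = y := by
        rw [mul_smul, show (a : G) • y = (b : G) • y from congrArg Subtype.val e, inv_smul_smul]
      exact Subtype.ext (inv_mul_eq_one.mp (hsemi _ (Q.mul_mem (Q.inv_mem b.2) a.2) y hy e')).symm
    have hb : Function.Bijective f := by
      refine (Nat.bijective_iff_injective_and_card f).2 ⟨hf, ?_⟩
      haveI := Fintype.ofFinite (G ⧸ N)
      rw [Nat.card_eq_fintype_card (α := {c : G ⧸ N // c ≠ o}), Fintype.card_subtype_compl,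
        Fintype.card_subtype_eq, ← Nat.card_eq_fintype_card (α := G ⧸ N), hcard]
      omega
    obtain ⟨a, ha⟩ := hb.2 ⟨z, hz⟩
    exact ⟨a, congrArg Subtype.val ha, fun b hb' => hf (Subtype.ext (hb'.trans (congrArg Subtype.val ha).symm))⟩
  have h2 : IsMultiplyPretransitive G (G ⧸ N) 2 := by
    rw [is_two_pretransitive_iff]
    intro a b c d hab hcd
    obtain ⟨g, hg⟩ := MulAction.exists_smul_eq G a o
    obtain ⟨k, hk⟩ := MulAction.exists_smul_eq G c o
    have h1 : g • b ≠ o := fun e => hab (MulAction.injective g (hg.trans e.symm))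
    have h2 : k • d ≠ o := fun e => hcd (MulAction.injective k (hk.trans e.symm))
    obtain ⟨v, hv, -⟩ := hreg _ _ h1 h2
    refine ⟨k⁻¹ * v * g, ?_, ?_⟩
    · rw [mul_smul, mul_smul, hg, (hbase _).mpr (hQN v.2), ← hk, inv_smul_smul]
    · rw [mul_smul, mul_smul, hv, inv_smul_smul]
  -- the second fixed point of `D`
  have huN : u ∉ N := by
    intro h
    obtain ⟨a, ha, e, he, rfl⟩ := hdec u h
    have haD : a ∈ Subgroup.normalizer (D : Set G) := by
      have := (Subgroup.normalizer (D : Set G)).mul_mem hu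
        (Subgroup.le_normalizer (D.inv_mem he))
      rwa [mul_inv_cancel_right] at this
    obtain ⟨⟨w, hw⟩, hw1⟩ := D.ne_bot_iff_exists_ne_one.mp (fun e0 => by
      rw [e0, Subgroup.card_bot] at hd2; omega)
    have hc : a * w * a⁻¹ * w⁻¹ = 1 := hQD _ (by
      rw [show a * w * a⁻¹ * w⁻¹ = a * (w * a⁻¹ * w⁻¹) by group]
      exact Q.mul_mem ha ((Subgroup.mem_normalizer_iff.mp (hDN hw) _).mp (Q.inv_mem ha)))
      (D.mul_mem ((Subgroup.mem_normalizer_iff.mp haD w).mp hw) (D.inv_mem hw))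
    by_cases ha1 : a = 1
    · exact huD (by rw [ha1, one_mul]; exact he)
    · refine hw1 (Subtype.ext (hQD w ?_ hw))
      rw [← hQ a ha ha1, mem_cent]
      exact ((mul_inv_eq_iff_eq_mul.mp (mul_inv_eq_one.mp hc))).symm
  set o' : G ⧸ N := u • o with ho'
  have ho'ne : o' ≠ o := fun e => huN ((hbase u).mp e)
  have hDfix : ∀ e ∈ D, e • o' = o' := by
    intro e he
    have hconj : u⁻¹ * e * u ∈ D := by
      rw [Subgroup.mem_normalizer_iff.mp hu, show u * (u⁻¹ * e * u) * u⁻¹ = e by group]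
      exact he
    rw [ho', ← mul_smul, show e * u = u * (u⁻¹ * e * u) by group, mul_smul,
      (hbase _).mpr (hDN hconj)]
  have hthree0 : ∀ g : G, ∀ c : G ⧸ N, c ≠ o → c ≠ o' →
      g • o = o → g • o' = o' → g • c = c → g = 1 := by
    intro g c hco hco' hgo hgo' hgc
    obtain ⟨a, ha, e, he, rfl⟩ := hdec g ((hbase g).mp hgo)
    rw [mul_smul, hDfix e he] at hgo'
    have ha1 := hsemi a ha o' ho'ne hgo'
    subst ha1
    rw [one_mul] at hgc ⊢
    obtain ⟨b, hb, -⟩ := hreg o' c ho'ne hco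
    by_contra he1
    have hb1 : (b : G) ≠ 1 := fun e0 => hco' (by rw [← hb, e0, one_smul])
    have hfix : ((b : G)⁻¹ * (e * b * e⁻¹)) • o' = o' := by
      have h3 : (e * b * e⁻¹) • o' = c := by
        rw [mul_smul, mul_smul]
        have h4 : e⁻¹ • o' = o' := hDfix _ (D.inv_mem he)
        rw [h4, hb, hgc]
      rw [mul_smul, h3, ← hb, inv_smul_smul]
    have hm : e * (b : G) * e⁻¹ ∈ Q := (Subgroup.mem_normalizer_iff.mp (hDN he) _).mp b.2
    have h5 := hsemi _ (Q.mul_mem (Q.inv_mem b.2) hm) o' ho'ne hfix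
    refine he1 (hQD e ?_ he)
    rw [← hQ b b.2 hb1, mem_cent]
    exact mul_inv_eq_iff_eq_mul.mp (inv_mul_eq_one.mp h5).symm
  have hthree : ∀ g : G, ∀ a b c : G ⧸ N, a ≠ b → b ≠ c → a ≠ c →
      g • a = a → g • b = b → g • c = c → g = 1 := by
    intro g a b c hab hbc hac ha hb hc
    obtain ⟨x, hxa, hxb⟩ := is_two_pretransitive_iff.mp h2 hab ho'ne.symm
    have key : ∀ y : G ⧸ N, g • y = y → (x * g * x⁻¹) • x • y = x • y := by
      intro y hy
      rw [← mul_smul, show x * g * x⁻¹ * x = x * g by group, mul_smul, hy]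
    have := hthree0 (x * g * x⁻¹) (x • c)
      (fun e => hac (MulAction.injective x (hxa.trans e.symm)))
      (fun e => hbc (MulAction.injective x (hxb.trans e.symm)))
      (by have := key a ha; rwa [hxa] at this) (by have := key b hb; rwa [hxb] at this) (key c hc)
    simpa using this
  haveI hnt : Nontrivial (G ⧸ N) := ⟨⟨o', o, ho'ne⟩⟩
  have hfaith : FaithfulSMul G (G ⧸ N) := by
    rcases (MulAction.toPermHom G (G ⧸ N)).normal_ker.eq_bot_or_eq_top with hk | hk
    · exact ⟨fun {g₁ g₂} h => (MonoidHom.ker_eq_bot_iff _).mp hk (Equiv.ext h)⟩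
    · exfalso
      refine huN ((hbase u).mp ?_)
      have : MulAction.toPermHom G (G ⧸ N) u = 1 := MonoidHom.mem_ker.mp (hk ▸ Subgroup.mem_top u)
      exact Equiv.congr_fun this o
  obtain ⟨⟨e, he⟩, he1⟩ := D.ne_bot_iff_exists_ne_one.mp (fun e0 => by
    rw [e0, Subgroup.card_bot] at hd2; omega)
  have he1' : e ≠ 1 := fun h => he1 (Subtype.ext h)
  have hZ : Cfsg.IsZassenhausGroup G (G ⧸ N) := by
    refine ⟨hfaith, h2, hthree,
      ⟨e, he1', o, o', ho'ne.symm, (hbase e).mpr (hDN he), hDfix e he⟩, fun M hM hMt => ?_⟩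
    rcases hM.eq_bot_or_eq_top with rfl | rfl
    · exfalso
      obtain ⟨m, hm⟩ := hMt.exists_smul_eq o o'
      have : (m : G) = 1 := Subgroup.mem_bot.mp m.2
      rw [Subgroup.smul_def, this, one_smul] at hm
      exact ho'ne hm.symm
    · exact ⟨o, fun h => he1' (congrArg Subtype.val ((Subgroup.eq_bot_iff_forall _).mp h
        ⟨e, Subgroup.mem_top e⟩ ((hbase e).mpr (hDN he))))⟩
  have hQle : Q ≤ stabilizer G o := fun a ha => (hbase a).mpr (hQN ha)
  have hstab : stabilizer G o = N := by ext g; exact hbase g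
  rcases Cfsg.Agent.S0731.result hZ o Q hQle
      (by rw [hstab]; exact Subgroup.normal_in_normalizer)
      ⟨⟨fun a b => Subtype.ext (hQ.comm a.2 b.2)⟩⟩ hreg with ⟨h3, ht⟩ | ⟨F, _, _, hchar, hiso⟩
  · exfalso
    haveI : IsPretransitive G (Fin 3 ↪ G ⧸ N) := h3
    haveI := Fintype.ofFinite (G ⧸ N)
    have h3le : 3 ≤ Fintype.card (G ⧸ N) := by
      rw [← Nat.card_eq_fintype_card (α := G ⧸ N), hcard]; omega
    obtain ⟨p⟩ : Nonempty (Fin 3 ↪ G ⧸ N) :=
      Function.Embedding.nonempty_of_card_le (by simpa using h3le)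
    have e3 : Nat.card G = Nat.card (Fin 3 ↪ G ⧸ N) := by
      rw [← (stabilizer G p).index_mul_card, ht p, Subgroup.card_bot, mul_one, ← ht p,
        MulAction.index_stabilizer_of_transitive]
    rw [Nat.card_eq_fintype_card (α := Fin 3 ↪ G ⧸ N), Fintype.card_embedding_eq,
      Fintype.card_fin, ← Nat.card_eq_fintype_card (α := G ⧸ N), hcard] at e3
    have e4 : (Nat.card Q + 1).descFactorial 3 =
        Nat.card Q * (Nat.card Q + 1) * (Nat.card Q - 1) := by
      simp [Nat.descFactorial_succ]; ring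
    have : 0 < Nat.card G := Nat.card_pos
    omega
  · refine ⟨F, inferInstance, inferInstance, ?_, hiso⟩
    exact Nat.odd_iff.mpr (FiniteField.odd_card_of_char_ne_two hchar)

/-- The recognition theorem. -/
theorem Setting.isPSL [IsSimpleGroup G] {t s : G} {K : Subgroup G} (h : Setting t K s)
    (hH : K ⊔ Subgroup.zpowers s = Subgroup.centralizer ({t} : Set G)) :
    ∃ (F : Type) (_ : Field F) (_ : Fintype F),
      Odd (Fintype.card F) ∧ Nonempty (G ≃* Matrix.ProjectiveSpecialLinearGroup (Fin 2) F) := by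
  classical
  obtain ⟨Q, D, hG, hQ, -, hd, hinf, hN, hX⟩ := h.main hH
  rcases Nat.lt_or_ge (Nat.card D) 2 with hlt | hge
  · exfalso
    have hD1 : Nat.card D = 1 := by have := Nat.card_pos (α := D); omega
    have hq : Nat.card Q = 3 := by omega
    have hDb : D = ⊥ := Subgroup.card_eq_one.mp hD1
    rw [hDb, sup_bot_eq] at hN
    have hG12 : Nat.card G = 12 := by rw [hq] at hG; omega
    have hidx : (Subgroup.normalizer (Q : Set G)).index = 4 := by
      rw [hN]
      have := Q.card_mul_index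
      rw [hq, hG12] at this; omega
    have hI := SelfCent.card_inConj (H := Q) hQ
    rw [hidx, hq] at hI
    set C := Subgroup.centralizer ({t} : Set G) with hC
    have hCc : Nat.card C = 2 * Nat.card K := h.card_centralizer
    have hk := h.two_le
    have hsub : ∀ g x : G, x ∈ C → ¬ InConj Q (g * x * g⁻¹) := by
      rintro g x hx ⟨hne, c, hc⟩
      have hc1 : c * (g * x * g⁻¹) * c⁻¹ ≠ 1 := fun e => hne (conj_eq_one_iff.mp e)
      have hm : c * g * t * (c * g)⁻¹ ∈ Q := by
        rw [← hQ _ hc hc1]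
        refine Subgroup.mem_centralizer_singleton_iff.mpr ?_
        have hxt := Subgroup.mem_centralizer_singleton_iff.mp hx
        calc c * g * t * (c * g)⁻¹ * (c * (g * x * g⁻¹) * c⁻¹)
            = c * g * (t * x) * (c * g)⁻¹ := by group
          _ = c * g * (x * t) * (c * g)⁻¹ := by rw [hxt]
          _ = c * (g * x * g⁻¹) * c⁻¹ * (c * g * t * (c * g)⁻¹) := by group
      have := Subgroup.orderOf_dvd_natCard Q hm
      rw [orderOf_conj, h.t2, hq] at this
      omega
    haveI := Fintype.ofFinite G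
    have hcompl : Nat.card {y : G // ¬ InConj Q y} = 4 := by
      rw [Nat.card_eq_fintype_card, Fintype.card_subtype_compl, ← Nat.card_eq_fintype_card,
        ← Nat.card_eq_fintype_card, hI, hG12]
    have hfull : ∀ g y : G, ¬ InConj Q y → ∃ x ∈ C, g * x * g⁻¹ = y := by
      intro g y hy
      let f : C → {y : G // ¬ InConj Q y} := fun x => ⟨g * x * g⁻¹, hsub g x x.2⟩
      have hf : Function.Injective f := fun a b e => Subtype.ext
        (mul_left_cancel (mul_right_cancel (congrArg Subtype.val e)))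
      have hb : Function.Bijective f := (Nat.bijective_iff_injective_and_card f).2 ⟨hf, by
        have := Nat.card_le_card_of_injective f hf
        omega⟩
      obtain ⟨x, hx⟩ := hb.2 ⟨y, hy⟩
      exact ⟨x, x.2, congrArg Subtype.val hx⟩
    have hnorm : C.Normal := ⟨fun x hx g => by
      obtain ⟨x', hx', e⟩ := hfull 1 _ (hsub g x hx)
      rw [← e]; simpa using hx'⟩
    rcases hnorm.eq_bot_or_eq_top with e | e <;> rw [e] at hCc
    · rw [Subgroup.card_bot] at hCc; omega
    · rw [Subgroup.card_top, hG12] at hCc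
      have := Nat.card_le_card_of_injective (fun x : (⊤ : Subgroup G) =>
        (⟨x, by have := hsub 1 x (by rw [e]; exact x.2); simpa using this⟩ : {y : G // ¬ InConj Q y}))
        (fun a b e => Subtype.ext (congrArg Subtype.val e :))
      rw [Subgroup.card_top, hG12, hcompl] at this
      omega
  · obtain ⟨-, u, hu2, huD, hinv, hND⟩ := hX D le_rfl (fun e => by
      rw [e, Subgroup.card_bot] at hge; omega)
    exact isPSL_of_borel Q D hQ hinf hN hd hge hG u
      (hND ▸ Subgroup.mem_sup_right (Subgroup.mem_zpowers u)) huD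

end CfsgLib.BSW
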