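import Mathlib

/-!
# The Brauer–Suzuki–Wall configuration

An involution `t` whose centraliser is `K ∪ K s`, where `K` is an abelian TI subgroup containing
`t` as its only involution and `s` inverts `K`; all involutions are conjugate.
-/

set_option autoImplicit false
set_option linter.unusedSectionVars false

namespace CfsgLib.BSW

variable {G : Type*} [Group G]

/-- The configuration. -/
structure Setting (t : G) (K : Subgroup G) (s : G) : Prop where
  t2 : orderOf t = 2
  s2 : orderOf s = 2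
  comm : ∀ a ∈ K, ∀ b ∈ K, a * b = b * a
  tK : t ∈ K
  inv : ∀ x ∈ K, s * x * s⁻¹ = x⁻¹
  uniq : ∀ x ∈ K, x * x = 1 → x = 1 ∨ x = t
  sK : s ∉ K
  cent : ∀ g, g * t = t * g ↔ g ∈ K ∨ g * s ∈ K
  ti : ∀ g, ∀ x ∈ K, x ≠ 1 → g * x * g⁻¹ ∈ K → g * t = t * g
  conj : ∀ x y : G, orderOf x = 2 → orderOf y = 2 → IsConj x y

/-- Lying in a conjugate of `K`, away from the identity. -/
def InK (K : Subgroup G) (y : G) : Prop := y ≠ 1 ∧ ∃ g : G, g * y * g⁻¹ ∈ K

/-- The elements outside all conjugates of `K`. -/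
def Rest (K : Subgroup G) (y : G) : Prop := y ≠ 1 ∧ ∀ g : G, g * y * g⁻¹ ∉ K

/-- The number of ways of writing `y` as a product of two involutions. -/
noncomputable def npairs (y : G) : ℕ := Nat.card {a : G // orderOf a = 2 ∧ orderOf (a * y) = 2}

theorem orderOf_two_iff {x : G} : orderOf x = 2 ↔ x * x = 1 ∧ x ≠ 1 := by
  rw [orderOf_eq_prime_iff, pow_two]

theorem inv_of_two {x : G} (h : orderOf x = 2) : x⁻¹ = x :=
  inv_eq_of_mul_eq_one_right (orderOf_two_iff.mp h).1

theorem orderOf_conj (g x : G) : orderOf (g * x * g⁻¹) = orderOf x := by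
  have := MulEquiv.orderOf_eq (MulAut.conj g) x
  rwa [MulAut.conj_apply] at this

variable {t s : G} {K : Subgroup G}

theorem Setting.tt (h : Setting t K s) : t * t = 1 := (orderOf_two_iff.mp h.t2).1

theorem Setting.ss (h : Setting t K s) : s * s = 1 := (orderOf_two_iff.mp h.s2).1

theorem Setting.t_ne (h : Setting t K s) : t ≠ 1 := (orderOf_two_iff.mp h.t2).2

theorem Setting.sinv (h : Setting t K s) : s⁻¹ = s := inv_of_two h.s2

theorem Setting.two_le (h : Setting t K s) [Finite G] : 2 ≤ Nat.card K := by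
  have : Nontrivial K := ⟨⟨t, h.tK⟩, 1, fun e => h.t_ne (congrArg Subtype.val e)⟩
  exact Finite.one_lt_card_iff_nontrivial.mpr this

theorem Setting.two_dvd (h : Setting t K s) [Finite G] : 2 ∣ Nat.card K := by
  rw [← h.t2]; exact Subgroup.orderOf_dvd_natCard K h.tK

/-- Conjugation by the centraliser of `t` fixes or inverts `K`. -/
theorem Setting.conj_mem (h : Setting t K s) {g : G} (hg : g * t = t * g) {x : G} (hx : x ∈ K) :
    (g ∈ K ∧ g * x * g⁻¹ = x) ∨ (g ∉ K ∧ g * x * g⁻¹ = x⁻¹) := by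
  rcases (h.cent g).mp hg with hk | hk
  · exact Or.inl ⟨hk, by rw [h.comm g hk x hx, mul_inv_cancel_right]⟩
  · refine Or.inr ⟨fun hK => h.sK ?_, ?_⟩
    · have := K.mul_mem (K.inv_mem hK) hk
      rwa [inv_mul_cancel_left] at this
    · have e : g = g * s * s := by rw [mul_assoc, h.ss, mul_one]
      calc g * x * g⁻¹ = (g * s) * (s * x * s⁻¹) * (g * s)⁻¹ := by
            rw [h.sinv, mul_inv_rev, h.sinv]
            simp only [mul_assoc]
            rw [← mul_assoc s s, h.ss, one_mul, ← mul_assoc s s, h.ss, one_mul]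
        _ = (g * s) * x⁻¹ * (g * s)⁻¹ := by rw [h.inv x hx]
        _ = x⁻¹ := by rw [h.comm _ hk _ (K.inv_mem hx), mul_inv_cancel_right]

theorem Setting.mem_of_conj (h : Setting t K s) {g : G} (hg : g * t = t * g) {x : G} (hx : x ∈ K) :
    g * x * g⁻¹ ∈ K := by
  rcases h.conj_mem hg hx with ⟨-, e⟩ | ⟨-, e⟩ <;> rw [e]
  exacts [hx, K.inv_mem hx]

theorem Setting.conj_iff (h : Setting t K s) (g : G) {x : G} (hx : x ∈ K) (hx1 : x ≠ 1) :
    g * x * g⁻¹ ∈ K ↔ g * t = t * g :=
  ⟨h.ti g x hx hx1, fun hg => h.mem_of_conj hg hx⟩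

/-- Elements of the centraliser of `t` outside `K` are involutions inverting `K`. -/
theorem Setting.outside (h : Setting t K s) {g : G} (hg : g * t = t * g) (hgK : g ∉ K) :
    orderOf g = 2 := by
  rw [orderOf_two_iff]
  rcases (h.cent g).mp hg with hk | hk
  · exact absurd hk hgK
  refine ⟨?_, fun e => hgK (e ▸ K.one_mem)⟩
  calc g * g = (g * s) * (s * (g * s) * s⁻¹) := by
        rw [h.sinv]; simp only [mul_assoc]; rw [← mul_assoc s s, h.ss, one_mul, mul_one]
    _ = (g * s) * (g * s)⁻¹ := by rw [h.inv _ hk]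
    _ = 1 := mul_inv_cancel _

theorem Setting.centralizer_eq (h : Setting t K s) {x : G} (hx : x ∈ K) (hx1 : x ≠ 1)
    (hxt : x ≠ t) {g : G} : g * x = x * g ↔ g ∈ K := by
  refine ⟨fun e => ?_, fun hg => h.comm g hg x hx⟩
  have hg := h.ti g x hx hx1 (by rw [e, mul_inv_cancel_right]; exact hx)
  rcases h.conj_mem hg hx with ⟨hk, -⟩ | ⟨-, hi⟩
  · exact hk
  · rw [e, mul_inv_cancel_right] at hi
    rcases h.uniq x hx (mul_eq_one_iff_eq_inv.mpr hi) with e1 | e1
    exacts [absurd e1 hx1, absurd e1 hxt]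

variable [Finite G]

theorem Setting.card_centralizer (h : Setting t K s) :
    Nat.card (Subgroup.centralizer ({t} : Set G)) = 2 * Nat.card K := by
  classical
  set H := Subgroup.centralizer ({t} : Set G) with hH
  have hKH : K ≤ H := fun x hx =>
    Subgroup.mem_centralizer_singleton_iff.mpr (h.comm x hx t h.tK)
  have hsH : s ∈ H := Subgroup.mem_centralizer_singleton_iff.mpr
    ((h.cent s).mpr (Or.inr (by rw [h.ss]; exact K.one_mem)))
  have hidx : (K.subgroupOf H).index = 2 := by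
    rw [Subgroup.index_eq_two_iff]
    refine ⟨⟨s, hsH⟩, fun b => ?_⟩
    simp only [Subgroup.mem_subgroupOf, Subgroup.coe_mul]
    rcases (h.cent b).mp (Subgroup.mem_centralizer_singleton_iff.mp b.2) with hb | hb
    · refine Or.inr ⟨hb, fun hb' => h.sK ?_⟩
      have := K.mul_mem (K.inv_mem hb) hb'
      rwa [inv_mul_cancel_left] at this
    · refine Or.inl ⟨hb, fun hb' => h.sK ?_⟩
      have := K.mul_mem (K.inv_mem hb') hb
      rwa [inv_mul_cancel_left] at this
  have := (K.subgroupOf H).card_mul_index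
  rw [hidx, Nat.card_congr (Subgroup.subgroupOfEquivOfLe hKH).toEquiv] at this
  omega

/-- A nontrivial element of `K` is a product of two involutions in `|K|` ways. -/
theorem Setting.npairs_eq (h : Setting t K s) {y : G} (hy : y ∈ K) (hy1 : y ≠ 1) :
    npairs y = Nat.card K := by
  refine (Nat.card_congr ?_).symm
  refine Equiv.ofBijective (fun x => ⟨(x : G) * s, ?_, ?_⟩) ⟨?_, ?_⟩
  · have hn : (x : G) * s ∉ K := fun hk => h.sK (by
      simpa using K.mul_mem (K.inv_mem x.2) hk)
    refine h.outside ((h.cent _).mpr (Or.inr ?_)) hn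
    rw [mul_assoc, h.ss, mul_one]; exact x.2
  · have hn : (x : G) * s * y ∉ K := fun hk => h.sK (by
      simpa using K.mul_mem (K.inv_mem x.2) (K.mul_mem hk (K.inv_mem hy)))
    refine h.outside ((h.cent _).mpr (Or.inr ?_)) hn
    rw [show (x : G) * s * y * s = (x : G) * (s * y * s⁻¹) by
      rw [h.sinv]; simp only [mul_assoc], h.inv y hy]
    exact K.mul_mem x.2 (K.inv_mem hy)
  · intro a b e
    exact Subtype.ext (mul_right_cancel (congrArg Subtype.val e))
  · rintro ⟨a, ha, hay⟩
    have h1 : a * y * a⁻¹ = y⁻¹ := by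
      have := (orderOf_two_iff.mp hay).1
      rw [inv_of_two ha, eq_comm, inv_eq_iff_mul_eq_one]
      calc y * (a * y * a) = a⁻¹ * ((a * y) * (a * y)) * a := by group
        _ = 1 := by rw [this]; group
    have hat := h.ti a y hy hy1 (h1 ▸ K.inv_mem hy)
    rcases (h.cent a).mp hat with hk | hk
    · exfalso
      obtain ⟨haa, ha1⟩ := orderOf_two_iff.mp ha
      obtain ⟨hb, hb1⟩ := orderOf_two_iff.mp hay
      have e1 := (h.uniq a hk haa).resolve_left ha1
      have e2 := (h.uniq _ (K.mul_mem hk hy) hb).resolve_left hb1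
      rw [e1] at e2
      exact hy1 (mul_left_cancel (e2.trans (mul_one t).symm))
    · exact ⟨⟨a * s, hk⟩, Subtype.ext (show a * s * s = a by rw [mul_assoc, h.ss, mul_one])⟩

theorem npairs_conj (g y : G) : npairs (g * y * g⁻¹) = npairs y := by
  refine (Nat.card_congr (Equiv.subtypeEquiv (MulAut.conj g).toEquiv fun a => ?_)).symm
  show orderOf a = 2 ∧ orderOf (a * y) = 2 ↔
    orderOf (g * a * g⁻¹) = 2 ∧ orderOf (g * a * g⁻¹ * (g * y * g⁻¹)) = 2
  rw [show g * a * g⁻¹ * (g * y * g⁻¹) = g * (a * y) * g⁻¹ by group, orderOf_conj, orderOf_conj]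

end CfsgLib.BSW
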