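import Cfsg.Agent.Lib.BSW.Star

/-!
# The signed degrees of the constituents

With `v` the signed degree of the common constituent, a further constituent of the pair `{λ, λ̄}` has
signed degree `-(1 + v)` and one of the real character has signed degree `-(1 + v)/2`.
-/

set_option autoImplicit false
set_option linter.unusedSectionVars false

open scoped Classical

namespace CfsgLib.BSW

open Cfsg CfsgLib.Char Finset
open scoped ComplexConjugate

variable {G : Type*} [Group G] [Fintype G] {K : Subgroup G} {t s : G}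

/-- The pattern of the coefficients, with common constituent `z` of sign `d`. -/
structure Shape (K : Subgroup G) (z : IrrCharacter G) (d : ℤ) : Prop where
  ne_triv : z ≠ triv G
  sign : d = 1 ∨ d = -1
  const : ∀ l : IrrCharacter K, l ≠ triv K → rcoeff K l z = d
  degree : ∀ l : IrrCharacter K, l ≠ triv K → ∀ χ : IrrCharacter G, χ ≠ z → rcoeff K l χ ≠ 0 →
    (wt l : ℤ) * rcoeff K l χ * (deg χ : ℤ) = -(1 + d * (deg z : ℤ))

section

variable {z : IrrCharacter G} {d : ℤ}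

theorem sign_sq (hd : d = 1 ∨ d = -1) : d ^ 2 = 1 := by rcases hd with rfl | rfl <;> norm_num

theorem Setting.others_norm (h : Setting t K s) (hd : d = 1 ∨ d = -1)
    (hc : ∀ l : IrrCharacter K, l ≠ triv K → rcoeff K l z = d) {l : IrrCharacter K}
    (hl : l ≠ triv K) : ∑ χ ∈ univ.erase z, rcoeff K l χ ^ 2 = (wt l : ℤ) := by
  have := h.rcoeff_norm hl
  rw [← sum_erase_add univ _ (mem_univ z), hc l hl, sign_sq hd] at this
  linarith

theorem Setting.others_card (h : Setting t K s) (hd : d = 1 ∨ d = -1)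
    (hc : ∀ l : IrrCharacter K, l ≠ triv K → rcoeff K l z = d) {l : IrrCharacter K}
    (hl : l ≠ triv K) :
    ((univ.erase z).filter fun χ => rcoeff K l χ ≠ 0).card = wt l := by
  rw [filter_erase, card_erase_of_mem, (h.rcoeff_bound hl).2]
  · omega
  · rw [mem_filter, hc l hl]
    exact ⟨mem_univ _, by omega⟩

/-- Different classes of characters of `K` have different further constituents. -/
theorem Setting.separated (h : Setting t K s) (hd : d = 1 ∨ d = -1)
    (hc : ∀ l : IrrCharacter K, l ≠ triv K → rcoeff K l z = d) {l m : IrrCharacter K}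
    (hl : l ≠ triv K) (hm : m ≠ triv K) {χ : IrrCharacter G} (hχ : χ ≠ z)
    (hlχ : rcoeff K l χ ≠ 0) (hmχ : rcoeff K m χ ≠ 0) : m = l ∨ m = conjPerm l := by
  by_contra hne
  push_neg at hne
  obtain ⟨n1, n2⟩ := hne
  have hd0 : d ≠ 0 := by omega
  rcases h.wt_cases l with ⟨-, hw⟩ | ⟨el, -⟩
  · obtain ⟨p, -, -, hu⟩ := h.meet hl hm hw n1.symm fun e => n2 (by rw [e, conjPerm_conjPerm])
    exact hχ ((hu χ hlχ hmχ).trans (hu z (hc l hl ▸ hd0) (hc m hm ▸ hd0)).symm)
  · rcases h.wt_cases m with ⟨-, hw⟩ | ⟨em, -⟩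
    · obtain ⟨p, -, -, hu⟩ := h.meet hm hl hw n1 n2
      exact hχ ((hu χ hmχ hlχ).trans (hu z (hc m hm ▸ hd0) (hc l hl ▸ hd0)).symm)
    · exact n1 (h.real_unique hm hl em el)

theorem Setting.value_z (h : Setting t K s) (hz : z ≠ triv G)
    (hc : ∀ l : IrrCharacter K, l ≠ triv K → rcoeff K l z = d) {x : K} (hx : x ≠ 1) :
    (z : G → ℂ) x = d := by
  have h0 : ∑ l : IrrCharacter K, (l : K → ℂ) x = 0 := by
    have := sum_degree_mul_irr x
    rw [if_neg hx] at this
    rw [← this]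
    exact sum_congr rfl fun l _ => by rw [h.degree_one l, one_mul]
  rw [h.value_mem z hx, ← sum_erase_add univ _ (mem_univ (triv K)), h.coeff_triv_left]
  rw [sum_congr rfl fun (l : IrrCharacter K) hl => show (coeff K l z : ℂ) * (l : K → ℂ) x =
      (d : ℂ) * (l : K → ℂ) x by rw [← hc l (ne_of_mem_erase hl), rcoeff, if_neg hz]]
  rw [← sum_erase_add univ _ (mem_univ (triv K)), triv_apply] at h0
  rw [← mul_sum, eq_neg_of_add_eq_zero_left h0]
  push_cast; ring

theorem coeff_of_ne {l : IrrCharacter K} {χ : IrrCharacter G} (hχ : χ ≠ triv G) :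
    coeff K l χ = rcoeff K l χ := (if_neg hχ).symm

/-- The square of the value at `t` of a further constituent. -/
theorem Setting.value_sq (h : Setting t K s) (hd : d = 1 ∨ d = -1)
    (hc : ∀ l : IrrCharacter K, l ≠ triv K → rcoeff K l z = d) {l : IrrCharacter K}
    (hl : l ≠ triv K) {χ : IrrCharacter G} (hχ : χ ≠ z) (hlχ : rcoeff K l χ ≠ 0) :
    (χ : G → ℂ) t ^ 2 * (wt l : ℂ) ^ 2 = 4 := by
  set τ : K := ⟨t, h.tK⟩
  have hnt := (rcoeff_ne hlχ).1
  have hzero : ∀ m : IrrCharacter K, m ≠ l → m ≠ conjPerm l → coeff K m χ = 0 := by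
    intro m m1 m2
    by_cases hm : m = triv K
    · rw [hm, h.coeff_triv_left]
    · rw [coeff_of_ne hnt]
      by_contra hne
      rcases h.separated hd hc hl hm hχ hlχ hne with e | e
      exacts [m1 e, m2 e]
  have hr : (rcoeff K l χ : ℂ) ^ 2 = 1 := by
    rcases ((h.rcoeff_bound hl).1 χ).resolve_left hlχ with e | e <;> rw [e] <;> norm_num
  have hl2 : ((l : K → ℂ) τ) ^ 2 = 1 := by
    rcases h.sign_t l with e | e <;> rw [e] <;> norm_num
  rcases h.wt_cases l with ⟨hne, hw⟩ | ⟨he, hw⟩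
  · have hct : (conjPerm l : K → ℂ) τ = (l : K → ℂ) τ := by
      rw [conjPerm_apply]
      rcases h.sign_t l with e | e <;> rw [e] <;> simp
    rw [h.value_t χ, sum_eq_add_of_mem l (conjPerm l) (mem_univ _) (mem_univ _) hne.symm
      fun c _ hcne => by rw [hzero c hcne.1 hcne.2]; simp]
    rw [hct, h.coeff_conj, coeff_of_ne hnt, hw]
    push_cast
    linear_combination 4 * ((l : K → ℂ) τ) ^ 2 * hr + 4 * hl2
  · rw [h.value_t χ, sum_eq_single_of_mem l (mem_univ _)
      fun c _ hcne => by rw [hzero c hcne (by rwa [he])]; simp]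
    rw [coeff_of_ne hnt, hw]
    push_cast
    linear_combination 4 * ((l : K → ℂ) τ) ^ 2 * hr + 4 * hl2

/-- The weighted sum, split at the common constituent. -/
theorem Setting.weighted_split (h : Setting t K s) (hz : z ≠ triv G) (hd : d = 1 ∨ d = -1)
    (hc : ∀ l : IrrCharacter K, l ≠ triv K → rcoeff K l z = d) {l : IrrCharacter K}
    (hl : l ≠ triv K) :
    1 + 1 / ((d : ℂ) * (deg z : ℂ)) + 4 / (wt l : ℂ) ^ 2 *
      ∑ χ ∈ (univ.erase z).filter (fun χ => rcoeff K l χ ≠ 0),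
        1 / ((rcoeff K l χ : ℂ) * (deg χ : ℂ)) =
      4 * (Nat.card K : ℂ) ^ 3 / (Nat.card G : ℂ) := by
  have hd2 : (d : ℂ) ^ 2 = 1 := by exact_mod_cast sign_sq hd
  have hzt : (z : G → ℂ) t = d :=
    h.value_z hz hc (x := ⟨t, h.tK⟩) fun e => h.t_ne (congrArg Subtype.val e)
  have hd0 : (d : ℂ) ≠ 0 := by
    rcases hd with e | e <;> rw [e] <;> norm_num
  rw [← h.rweighted hl, ← sum_erase_add univ (fun χ => (rcoeff K l χ : ℂ) *
    (χ : G → ℂ) t ^ 2 / (deg χ : ℂ)) (mem_univ z)]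
  rw [← sum_filter_of_ne (s := univ.erase z) (p := fun χ => rcoeff K l χ ≠ 0)
    (f := fun χ => (rcoeff K l χ : ℂ) * (χ : G → ℂ) t ^ 2 / (deg χ : ℂ))
    (fun χ _ h0 h1 => h0 (by rw [h1]; simp)), hc l hl, hzt, hd2]
  rw [mul_sum, sum_congr rfl fun χ hχ => show 4 / (wt l : ℂ) ^ 2 *
      (1 / ((rcoeff K l χ : ℂ) * (deg χ : ℂ))) =
      (rcoeff K l χ : ℂ) * (χ : G → ℂ) t ^ 2 / (deg χ : ℂ) by
    rw [mem_filter, mem_erase] at hχ
    have hr : (rcoeff K l χ : ℂ) ^ 2 = 1 := by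
      rcases ((h.rcoeff_bound hl).1 χ).resolve_left hχ.2 with e | e <;> rw [e] <;> norm_num
    have hv := h.value_sq hd hc hl hχ.1.1 hχ.2
    have hw : (wt l : ℂ) ≠ 0 := by rw [wt]; split_ifs <;> norm_num
    have hn : (deg χ : ℂ) ≠ 0 := Nat.cast_ne_zero.mpr (deg_ne_zero χ)
    have hr0 : (rcoeff K l χ : ℂ) ≠ 0 := Int.cast_ne_zero.mpr hχ.2
    field_simp
    linear_combination (-(χ : G → ℂ) t ^ 2 * (wt l : ℂ) ^ 2) * hr - hv]
  rw [show (1 : ℂ) / ((d : ℂ) * (deg z : ℂ)) = (d : ℂ) * 1 / (deg z : ℂ) by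
    field_simp; linear_combination (-(deg z : ℂ)⁻¹) * hd2]
  ring

/-- A pair fixes the signed degrees. -/
theorem Setting.shape_of_pair (h : Setting t K s) (hz : z ≠ triv G) (hd : d = 1 ∨ d = -1)
    (hc : ∀ l : IrrCharacter K, l ≠ triv K → rcoeff K l z = d) {l1 : IrrCharacter K}
    (hl1 : l1 ≠ triv K) (hw1 : wt l1 = 1) : Shape K z d := by
  have hd0 : d ≠ 0 := by omega
  have pair : ∀ l : IrrCharacter K, l ≠ triv K → wt l = 1 → ∀ χ : IrrCharacter G, χ ≠ z →
      rcoeff K l χ ≠ 0 → rcoeff K l χ * (deg χ : ℤ) = -(1 + d * (deg z : ℤ)) := by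
    intro l hl hw χ hχ h0
    obtain ⟨-, e⟩ := h.two_support hl hw (hc l hl ▸ hd0) h0 (Ne.symm hχ)
    rw [hc l hl] at e
    linarith
  refine ⟨hz, hd, hc, fun l hl χ hχ h0 => ?_⟩
  rcases h.wt_cases l with ⟨-, hw⟩ | ⟨-, hw⟩
  · rw [hw, Nat.cast_one, one_mul]; exact pair l hl hw χ hχ h0
  obtain ⟨a, b, hab, hS⟩ := card_eq_two.mp ((h.others_card hd hc hl).trans hw)
  have hmem : ∀ q, q ≠ z ∧ rcoeff K l q ≠ 0 ↔ q = a ∨ q = b := fun q => by
    simpa using Finset.ext_iff.mp hS q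
  have hsum : rcoeff K l a * (deg a : ℤ) + rcoeff K l b * (deg b : ℤ) =
      -(1 + d * (deg z : ℤ)) := by
    have := h.rcoeff_deg hl
    rw [← sum_erase_add univ _ (mem_univ z), hc l hl,
      ← sum_filter_of_ne (s := univ.erase z) (p := fun q => rcoeff K l q ≠ 0)
        (fun q _ h0 h1 => h0 (by rw [h1, zero_mul])), hS, sum_pair hab] at this
    linarith
  have hsum' : (rcoeff K l a : ℂ) * (deg a : ℂ) + (rcoeff K l b : ℂ) * (deg b : ℂ) =
      -(1 + (d : ℂ) * (deg z : ℂ)) := by exact_mod_cast hsum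
  obtain ⟨x, hxz, hx⟩ := h.other_point hl1 hw1 z
  have hx' := pair l1 hl1 hw1 x hxz hx
  have hx'' : (rcoeff K l1 x : ℂ) * (deg x : ℂ) = -(1 + (d : ℂ) * (deg z : ℂ)) := by
    exact_mod_cast hx'
  have hY : -(1 + (d : ℂ) * (deg z : ℂ)) ≠ 0 := hx'' ▸
    mul_ne_zero (Int.cast_ne_zero.mpr hx) (Nat.cast_ne_zero.mpr (deg_ne_zero x))
  have hS1 : (univ.erase z).filter (fun q => rcoeff K l1 q ≠ 0) = {x} := by
    refine (eq_of_subset_of_card_le ?_ ?_).symm
    · rw [singleton_subset_iff, mem_filter, mem_erase]; exact ⟨⟨hxz, mem_univ _⟩, hx⟩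
    · rw [h.others_card hd hc hl1, hw1, card_singleton]
  have e := (h.weighted_split hz hd hc hl).trans (h.weighted_split hz hd hc hl1).symm
  rw [hS, hS1, sum_pair hab, sum_singleton, hw, hw1, hx''] at e
  have hA : (rcoeff K l a : ℂ) * (deg a : ℂ) ≠ 0 := mul_ne_zero
    (Int.cast_ne_zero.mpr ((hmem a).mpr (Or.inl rfl)).2) (Nat.cast_ne_zero.mpr (deg_ne_zero a))
  have hB : (rcoeff K l b : ℂ) * (deg b : ℂ) ≠ 0 := mul_ne_zero
    (Int.cast_ne_zero.mpr ((hmem b).mpr (Or.inr rfl)).2) (Nat.cast_ne_zero.mpr (deg_ne_zero b))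
  set A := (rcoeff K l a : ℂ) * (deg a : ℂ) with hAdef
  set B := (rcoeff K l b : ℂ) * (deg b : ℂ) with hBdef
  rw [← hsum'] at e hY
  push_cast at e
  field_simp at e
  have hAB : A = B := by
    refine sub_eq_zero.mp ?_
    rw [← sq_eq_zero_iff]
    have hd2 : (d : ℂ) ^ 2 = 1 := by exact_mod_cast sign_sq hd
    linear_combination ((d : ℂ) / 4) * e - (A - B) ^ 2 * hd2
  have hint : rcoeff K l a * (deg a : ℤ) = rcoeff K l b * (deg b : ℤ) := by
    rw [hAdef, hBdef] at hAB
    exact_mod_cast hAB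
  rw [hw]
  rcases (hmem χ).mp ⟨hχ, h0⟩ with rfl | rfl <;> push_cast <;> linarith

end

set_option maxHeartbeats 800000 in
/-- The four group case. -/
theorem Setting.shape_of_two (h : Setting t K s) (hk : Nat.card K = 2) :
    ∃ (z : IrrCharacter G) (d : ℤ), Shape K z d := by
  obtain ⟨l0, hl0, hl0r, hl0u⟩ := h.exists_real
  have hall : ∀ l : IrrCharacter K, l = triv K ∨ l = l0 := by
    intro l
    have hS : ({triv K, l0} : Finset (IrrCharacter K)) = univ :=
      eq_univ_of_card _ (by rw [card_pair hl0.symm, h.card_irr, hk])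
    simpa using hS.ge (mem_univ l)
  have hw : wt l0 = 2 := if_pos hl0r
  have hl0t : (l0 : K → ℂ) ⟨t, h.tK⟩ = -1 := by
    have := h.sum_t
    rw [show (univ : Finset (IrrCharacter K)) = {triv K, l0} from
      (eq_univ_of_card _ (by rw [card_pair hl0.symm, h.card_irr, hk])).symm, sum_pair hl0.symm,
      triv_apply] at this
    linear_combination this
  have hval : ∀ χ : IrrCharacter G, rcoeff K l0 χ ≠ 0 → (χ : G → ℂ) t = (rcoeff K l0 χ : ℂ) := by
    intro χ hχ
    rw [h.value_t χ, show (univ : Finset (IrrCharacter K)) = {triv K, l0} from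
      (eq_univ_of_card _ (by rw [card_pair hl0.symm, h.card_irr, hk])).symm, sum_pair hl0.symm,
      h.coeff_triv_left, coeff_of_ne (rcoeff_ne hχ).1, hl0t]
    push_cast; ring
  obtain ⟨a, b, c, hab, hac, hbc, hS⟩ := card_eq_three.mp
    (show (univ.filter fun χ : IrrCharacter G => rcoeff K l0 χ ≠ 0).card = 3 by
      rw [(h.rcoeff_bound hl0).2, hw])
  have hmem : ∀ χ, rcoeff K l0 χ ≠ 0 ↔ χ = a ∨ χ = b ∨ χ = c := fun χ => by
    simpa using Finset.ext_iff.mp hS χ
  set X : IrrCharacter G → ℤ := fun χ => rcoeff K l0 χ * (deg χ : ℤ) with hX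
  have hmod : ∀ χ, rcoeff K l0 χ ≠ 0 → X χ % 4 = 1 := by
    intro χ hχ
    set H := Subgroup.centralizer ({t} : Set G) with hH
    obtain ⟨n, hn⟩ := exists_int_classInner (φ := fun x : H => (χ : G → ℂ) x)
      (ψ := fun _ : H => (1 : ℂ)) (isGeneralized_restrict H (isGeneralized_of_isIrr χ.2))
      isGeneralized_one
    have hc4 : Nat.card H = 4 := by rw [h.card_centralizer, hk]
    have hv : ∀ x : H, x ≠ 1 → (χ : G → ℂ) x = (rcoeff K l0 χ : ℂ) := by
      intro x hx
      rw [← hval χ hχ]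
      have hxt : (x : G) * t = t * x := Subgroup.mem_centralizer_singleton_iff.mp x.2
      have h2 : orderOf (x : G) = 2 := by
        by_cases hxK : (x : G) ∈ K
        · refine orderOf_eq_prime (Subtype.ext_iff.mp (show (⟨x, hxK⟩ : K) ^ 2 = 1 by
            rw [← hk]; exact pow_card_eq_one'))
            fun e => hx (Subtype.ext e)
        · exact h.outside hxt hxK
      exact eq_of_isConj (isClassFunction_irr χ) (h.conj _ _ h2 h.t2)
    rw [classInner, ← sum_erase_add univ _ (mem_univ (1 : H)),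
      sum_congr rfl fun x hx => by rw [hv x (ne_of_mem_erase hx), map_one, mul_one],
      sum_const, card_erase_of_mem (mem_univ _), card_univ, ← Nat.card_eq_fintype_card, hc4] at hn
    simp only [nsmul_eq_mul, map_one, mul_one, OneMemClass.coe_one, deg_spec] at hn
    norm_num at hn
    have hn' : 3 * rcoeff K l0 χ + (deg χ : ℤ) = 4 * n := by
      have : (3 : ℂ) * (rcoeff K l0 χ : ℂ) + (deg χ : ℂ) = 4 * (n : ℂ) := by
        linear_combination 4 * hn
      exact_mod_cast this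
    rcases ((h.rcoeff_bound hl0).1 χ).resolve_left hχ with e | e <;>
      simp only [hX, e] at hn' ⊢ <;> omega
  have hsum : X a + X b + X c = -1 := by
    rw [← h.rcoeff_deg hl0, ← sum_filter_of_ne (p := fun χ => rcoeff K l0 χ ≠ 0)
      (fun χ _ h0 h1 => h0 (by rw [h1, zero_mul])), hS,
      sum_insert (by simp [hab, hac]), sum_pair hbc, add_assoc]
  have hX2 : ∀ χ, rcoeff K l0 χ ≠ 0 → X χ ^ 2 = (deg χ : ℤ) ^ 2 := by
    intro χ hχ
    rcases ((h.rcoeff_bound hl0).1 χ).resolve_left hχ with e | e <;> simp [hX, e]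
  have ha := (hmem a).mpr (Or.inl rfl)
  have hb := (hmem b).mpr (Or.inr (Or.inl rfl))
  have hc := (hmem c).mpr (Or.inr (Or.inr rfl))
  have hN : 1 + X a ^ 2 + X b ^ 2 + X c ^ 2 ≤ (Nat.card G : ℤ) := by
    rw [hX2 a ha, hX2 b hb, hX2 c hc, ← sum_sq_deg]
    refine le_trans (le_of_eq ?_) (sum_le_sum_of_subset_of_nonneg
      (subset_univ ({triv G, a, b, c} : Finset (IrrCharacter G))) fun _ _ _ => sq_nonneg _)
    rw [sum_insert (by simp [(rcoeff_ne ha).1.symm, (rcoeff_ne hb).1.symm, (rcoeff_ne hc).1.symm]),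
      sum_insert (by simp [hab, hac]), sum_pair hbc, deg_triv]
    push_cast; ring
  have heq : (Nat.card G : ℚ) * (1 + (1 : ℚ) / X a + 1 / X b + 1 / X c) = 32 := by
    have e := h.rweighted hl0
    rw [← sum_filter_of_ne (p := fun χ => rcoeff K l0 χ ≠ 0)
      (fun χ _ h0 h1 => h0 (by rw [h1]; simp)), hS,
      sum_insert (by simp [hab, hac]), sum_pair hbc, hk] at e
    have e2 : ∀ χ, rcoeff K l0 χ ≠ 0 →
        (rcoeff K l0 χ : ℂ) * (χ : G → ℂ) t ^ 2 / (deg χ : ℂ) = 1 / (X χ : ℂ) := by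
      intro χ hχ
      have hn : (deg χ : ℂ) ≠ 0 := Nat.cast_ne_zero.mpr (deg_ne_zero χ)
      rw [hval χ hχ]
      rcases ((h.rcoeff_bound hl0).1 χ).resolve_left hχ with q | q <;>
        simp [hX, q, div_neg, neg_div]
    rw [e2 a ha, e2 b hb, e2 c hc] at e
    have hG : (Nat.card G : ℂ) ≠ 0 := Nat.cast_ne_zero.mpr Nat.card_pos.ne'
    rw [eq_div_iff hG] at e
    apply Rat.cast_injective (α := ℂ)
    push_cast at e ⊢
    linear_combination e
  have key : ∀ p q r, (∀ χ, rcoeff K l0 χ ≠ 0 ↔ χ = p ∨ χ = q ∨ χ = r) → X p + X q + X r = -1 →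
      X p = X q → Shape K r (rcoeff K l0 r) := by
    intro p q r hm hs he
    have hr := (hm r).mpr (Or.inr (Or.inr rfl))
    refine ⟨(rcoeff_ne hr).1, ((h.rcoeff_bound hl0).1 r).resolve_left hr,
      fun l hl => by rw [(hall l).resolve_left hl], fun l hl χ hχ h0 => ?_⟩
    rw [(hall l).resolve_left hl] at h0 ⊢
    rw [hw, mul_assoc]
    show (2 : ℤ) * X χ = -(1 + X r)
    rcases (hm χ).mp h0 with rfl | rfl | rfl
    · omega
    · omega
    · exact absurd rfl hχ
  rcases four_group_degrees (hmod a ha) (hmod b hb) (hmod c hc) hsum heq hN with e | e | e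
  · exact ⟨c, _, key a b c hmem hsum e⟩
  · exact ⟨b, _, key a c b (fun χ => (hmem χ).trans (or_congr_right or_comm)) (by omega) e⟩
  · exact ⟨a, _, key b c a (fun χ => (hmem χ).trans (or_rotate)) (by omega) e⟩

/-- The pattern exists. -/
theorem Setting.exists_shape (h : Setting t K s) :
    ∃ (z : IrrCharacter G) (d : ℤ), Shape K z d := by
  by_cases hp : ∃ l : IrrCharacter K, l ≠ triv K ∧ wt l = 1
  · obtain ⟨l, hl, hw⟩ := hp
    obtain ⟨z, hz, d, hd, hc⟩ := h.common
    exact ⟨z, d, h.shape_of_pair hz hd hc hl hw⟩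
  · obtain ⟨l0, hl0, -, hu⟩ := h.exists_real
    refine h.shape_of_two ?_
    rw [← h.card_irr]
    have : (univ : Finset (IrrCharacter K)) = {triv K, l0} := by
      ext l
      simp only [mem_univ, mem_insert, mem_singleton, true_iff]
      by_cases hl : l = triv K
      · exact Or.inl hl
      rcases h.wt_cases l with ⟨-, hw⟩ | ⟨e, -⟩
      · exact absurd ⟨l, hl, hw⟩ hp
      · exact Or.inr (hu l hl e)
    rw [← card_univ, this, card_pair hl0.symm]

end CfsgLib.BSW
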