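import Mathlib

/-!
# Small integral vectors, and the arithmetic of the four group case
-/

set_option autoImplicit false

namespace CfsgLib.BSW

open Finset

variable {ι : Type*} [Fintype ι] [DecidableEq ι]

/-- A vector of norm at most three has entries `0`, `±1`, and as many of them as its norm. -/
theorem entries_of_norm_le_three {f : ι → ℤ} {n : ℕ} (hn : n ≤ 3) (hf : ∑ i, f i ^ 2 = n) :
    (∀ i, f i = 0 ∨ f i = 1 ∨ f i = -1) ∧ (univ.filter fun i => f i ≠ 0).card = n := by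
  have he : ∀ i, f i = 0 ∨ f i = 1 ∨ f i = -1 := by
    intro i
    have h1 : f i ^ 2 ≤ ∑ j, f j ^ 2 :=
      single_le_sum (fun j _ => sq_nonneg (f j)) (mem_univ i)
    rw [hf] at h1
    have h2 : f i ^ 2 ≤ 3 := h1.trans (by exact_mod_cast hn)
    have h3 : -1 ≤ f i := by nlinarith
    have h4 : f i ≤ 1 := by nlinarith
    omega
  refine ⟨he, ?_⟩
  have : ∑ i, f i ^ 2 = ((univ.filter fun i => f i ≠ 0).card : ℤ) := by
    rw [card_filter]
    push_cast
    refine sum_congr rfl fun i _ => ?_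
    rcases he i with h | h | h <;> simp [h]
  rw [hf] at this
  exact_mod_cast this.symm

/-- Two vectors with inner product one, one of norm two and the other of norm at most three, meet
in exactly one point, where they agree. -/
theorem meet_one {f g : ι → ℤ} {n : ℕ} (hn : n ≤ 3) (hf : ∑ i, f i ^ 2 = 2)
    (hg : ∑ i, g i ^ 2 = n) (hfg : ∑ i, f i * g i = 1) :
    ∃ p, f p ≠ 0 ∧ f p = g p ∧ ∀ q, f q ≠ 0 → g q ≠ 0 → q = p := by
  obtain ⟨hfe, hfc⟩ := entries_of_norm_le_three (f := f) (n := 2) (by norm_num) (by exact_mod_cast hf)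
  obtain ⟨hge, -⟩ := entries_of_norm_le_three hn hg
  obtain ⟨a, b, hab, hS⟩ := card_eq_two.mp hfc
  have hmem : ∀ q, f q ≠ 0 ↔ q = a ∨ q = b := fun q => by
    have := Finset.ext_iff.mp hS q
    simpa using this
  have hsum : f a * g a + f b * g b = 1 := by
    rw [← hfg, ← sum_pair (f := fun i => f i * g i) hab, ← hS]
    refine sum_filter_of_ne fun i _ h h0 => h ?_
    rw [h0, zero_mul]
  have ha := (hmem a).mpr (Or.inl rfl)
  have hb := (hmem b).mpr (Or.inr rfl)
  have key : (f a = g a ∧ g b = 0) ∨ (f b = g b ∧ g a = 0) := by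
    rcases hfe a with x | x | x <;> rcases hfe b with y | y | y <;>
      rcases hge a with u | u | u <;> rcases hge b with w | w | w <;>
      rw [x, y, u, w] at hsum <;> omega
  rcases key with ⟨e, e0⟩ | ⟨e, e0⟩
  · refine ⟨a, ha, e, fun q hq hgq => ?_⟩
    rcases (hmem q).mp hq with h | h
    exacts [h, absurd (h ▸ e0) hgq]
  · refine ⟨b, hb, e, fun q hq hgq => ?_⟩
    rcases (hmem q).mp hq with h | h
    exacts [absurd (h ▸ e0) hgq, h]

/-- The signed degrees in the four group case. -/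
theorem four_group_degrees {A B C : ℤ} {N : ℕ} (hA : A % 4 = 1) (hB : B % 4 = 1) (hC : C % 4 = 1)
    (hs : A + B + C = -1)
    (heq : (N : ℚ) * (1 + (1 : ℚ) / A + 1 / B + 1 / C) = 32)
    (hN : 1 + A ^ 2 + B ^ 2 + C ^ 2 ≤ (N : ℤ)) :
    A = B ∨ A = C ∨ B = C := by
  have low : ∀ X : ℤ, X % 4 = 1 → -(1 / 3 : ℚ) ≤ (1 : ℚ) / X := by
    intro X hX
    rcases (show 1 ≤ X ∨ X ≤ -3 by omega) with h | h
    · have : (0 : ℚ) ≤ (1 : ℚ) / X := div_nonneg zero_le_one (by exact_mod_cast (by omega : (0:ℤ) ≤ X))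
      linarith
    · have h' : (X : ℚ) ≤ -3 := by exact_mod_cast h
      rw [le_div_iff_of_neg (by linarith)]
      linarith
  have hpos : (0 : ℚ) ≤ (1 : ℚ) / A ∨ (0 : ℚ) ≤ (1 : ℚ) / B ∨ (0 : ℚ) ≤ (1 : ℚ) / C := by
    rcases (show 0 ≤ A ∨ 0 ≤ B ∨ 0 ≤ C by omega) with h | h | h
    exacts [Or.inl (div_nonneg zero_le_one (by exact_mod_cast h)),
      Or.inr (Or.inl (div_nonneg zero_le_one (by exact_mod_cast h))),
      Or.inr (Or.inr (div_nonneg zero_le_one (by exact_mod_cast h)))]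
  have hS : (1 / 3 : ℚ) ≤ 1 + (1 : ℚ) / A + 1 / B + 1 / C := by
    have a := low A hA; have b := low B hB; have c := low C hC
    rcases hpos with h | h | h <;> linarith
  have hN' : (N : ℤ) ≤ 96 := by
    have : (N : ℚ) * (1 / 3) ≤ 32 :=
      le_of_le_of_eq (mul_le_mul_of_nonneg_left hS (Nat.cast_nonneg N)) heq
    have : (N : ℚ) ≤ 96 := by linarith
    exact_mod_cast this
  have hN1 : (0 : ℤ) < N := by nlinarith
  have bound : ∀ X : ℤ, X ^ 2 ≤ 95 → -9 ≤ X ∧ X ≤ 9 := fun X h => ⟨by nlinarith, by nlinarith⟩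
  obtain ⟨a1, a2⟩ := bound A (by nlinarith [sq_nonneg B, sq_nonneg C])
  obtain ⟨b1, b2⟩ := bound B (by nlinarith [sq_nonneg A, sq_nonneg C])
  have hC' : C = -1 - A - B := by omega
  subst hC'
  by_contra hne
  push_neg at hne
  obtain ⟨n1, n2, n3⟩ := hne
  obtain rfl | rfl | rfl | rfl | rfl : A = -7 ∨ A = -3 ∨ A = 1 ∨ A = 5 ∨ A = 9 := by omega
  all_goals
    obtain rfl | rfl | rfl | rfl | rfl : B = -7 ∨ B = -3 ∨ B = 1 ∨ B = 5 ∨ B = 9 := by omega
    all_goals first
      | omega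
      | (norm_num at heq hN; done)
      | (norm_num at heq hN; qify at hN; linarith)

end CfsgLib.BSW
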