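import Cfsg.Agent.Lib.BSW.Linear
import Cfsg.Agent.Lib.BSW.Vectors

/-!
# The pattern of the coefficients

All `(1 - λ)^G` share one constituent `ψ` besides the trivial character; the remaining constituents
of different pairs are different, and their signed degrees are determined by that of `ψ`.
-/

set_option autoImplicit false
set_option linter.unusedSectionVars false

open scoped Classical

namespace CfsgLib.BSW

open Cfsg CfsgLib.Char Finset
open scoped ComplexConjugate

variable {G : Type*} [Group G] [Fintype G] {K : Subgroup G} {t s : G}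

/-- The coefficients away from the trivial character. -/
noncomputable def rcoeff (K : Subgroup G) (l : IrrCharacter K) (χ : IrrCharacter G) : ℤ :=
  if χ = triv G then 0 else coeff K l χ

theorem rcoeff_ne {l : IrrCharacter K} {χ : IrrCharacter G} (h : rcoeff K l χ ≠ 0) :
    χ ≠ triv G ∧ rcoeff K l χ = coeff K l χ := by
  by_cases e : χ = triv G
  · exact absurd (if_pos e) h
  · exact ⟨e, if_neg e⟩

theorem Setting.rcoeff_gram (h : Setting t K s) {l m : IrrCharacter K} (hl : l ≠ triv K)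
    (hm : m ≠ triv K) :
    ∑ χ : IrrCharacter G, rcoeff K l χ * rcoeff K m χ =
      (∑ χ : IrrCharacter G, coeff K l χ * coeff K m χ) - 1 := by
  rw [eq_sub_iff_add_eq, ← sum_erase_add univ _ (mem_univ (triv G))]
  conv_rhs => rw [← sum_erase_add univ _ (mem_univ (triv G))]
  rw [h.coeff_triv hl, h.coeff_triv hm, mul_one, add_assoc]
  congr 1
  · exact sum_congr rfl fun χ hχ => by
      rw [rcoeff, rcoeff, if_neg (ne_of_mem_erase hχ), if_neg (ne_of_mem_erase hχ)]
  · simp [rcoeff]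

theorem Setting.rcoeff_norm (h : Setting t K s) {l : IrrCharacter K} (hl : l ≠ triv K) :
    ∑ χ : IrrCharacter G, rcoeff K l χ ^ 2 = 1 + (wt l : ℤ) := by
  simp only [sq]
  rw [h.rcoeff_gram hl hl, h.gram_self hl]; ring

theorem Setting.rcoeff_apart (h : Setting t K s) {l m : IrrCharacter K} (hl : l ≠ triv K)
    (hm : m ≠ triv K) (h1 : l ≠ m) (h2 : l ≠ conjPerm m) :
    ∑ χ : IrrCharacter G, rcoeff K l χ * rcoeff K m χ = 1 := by
  rw [h.rcoeff_gram hl hm, h.gram_apart hl hm h1 h2]; ring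

theorem Setting.rcoeff_conj (h : Setting t K s) (l : IrrCharacter K) (χ : IrrCharacter G) :
    rcoeff K (conjPerm l) χ = rcoeff K l χ := by
  unfold rcoeff; rw [h.coeff_conj]

theorem Setting.rcoeff_deg (h : Setting t K s) {l : IrrCharacter K} (hl : l ≠ triv K) :
    ∑ χ : IrrCharacter G, rcoeff K l χ * (deg χ : ℤ) = -1 := by
  have := h.sum_deg_int l
  rw [← sum_erase_add univ _ (mem_univ (triv G)), h.coeff_triv hl, deg_triv] at this
  rw [← sum_erase_add univ _ (mem_univ (triv G)),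
    sum_congr rfl fun χ hχ => by rw [rcoeff, if_neg (ne_of_mem_erase hχ)], rcoeff, if_pos rfl]
  push_cast at this
  linarith

theorem Setting.rcoeff_bound (h : Setting t K s) {l : IrrCharacter K} (hl : l ≠ triv K) :
    (∀ χ : IrrCharacter G, rcoeff K l χ = 0 ∨ rcoeff K l χ = 1 ∨ rcoeff K l χ = -1) ∧
      (univ.filter fun χ : IrrCharacter G => rcoeff K l χ ≠ 0).card = 1 + wt l := by
  refine entries_of_norm_le_three ?_ (by rw [h.rcoeff_norm hl]; push_cast; rfl)
  unfold wt; split_ifs <;> norm_num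

/-- The meeting point of two characters in different classes, one of weight one. -/
theorem Setting.meet (h : Setting t K s) {l m : IrrCharacter K} (hl : l ≠ triv K)
    (hm : m ≠ triv K) (hw : wt l = 1) (h1 : l ≠ m) (h2 : l ≠ conjPerm m) :
    ∃ p : IrrCharacter G, rcoeff K l p ≠ 0 ∧ rcoeff K l p = rcoeff K m p ∧
      ∀ q, rcoeff K l q ≠ 0 → rcoeff K m q ≠ 0 → q = p := by
  have hl2 : ∑ χ : IrrCharacter G, rcoeff K l χ ^ 2 = 2 := by rw [h.rcoeff_norm hl, hw]; norm_num
  refine meet_one (n := 1 + wt m) ?_ hl2 (by rw [h.rcoeff_norm hm]; push_cast; rfl)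
    (h.rcoeff_apart hl hm h1 h2)
  unfold wt; split_ifs <;> norm_num

theorem Setting.wt_cases (h : Setting t K s) (l : IrrCharacter K) :
    (conjPerm l ≠ l ∧ wt l = 1) ∨ (conjPerm l = l ∧ wt l = 2) := by
  by_cases e : conjPerm l = l
  · exact Or.inr ⟨e, if_pos e⟩
  · exact Or.inl ⟨e, if_neg e⟩

theorem Setting.two_support (h : Setting t K s) {l : IrrCharacter K} (hl : l ≠ triv K)
    (hw : wt l = 1) {p q : IrrCharacter G} (hp : rcoeff K l p ≠ 0) (hq : rcoeff K l q ≠ 0)
    (hpq : p ≠ q) : (∀ χ, rcoeff K l χ ≠ 0 → χ = p ∨ χ = q) ∧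
      rcoeff K l p * (deg p : ℤ) + rcoeff K l q * (deg q : ℤ) = -1 := by
  have hS : (univ.filter fun χ : IrrCharacter G => rcoeff K l χ ≠ 0) = {p, q} := by
    refine (eq_of_subset_of_card_le ?_ ?_).symm
    · intro χ hχ
      rcases mem_insert.mp hχ with rfl | hχ
      · simpa using hp
      · rw [mem_singleton.mp hχ]; simpa using hq
    · rw [(h.rcoeff_bound hl).2, hw, card_pair hpq]
  refine ⟨fun χ hχ => by simpa using Finset.ext_iff.mp hS χ |>.mp (by simpa using hχ), ?_⟩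
  rw [← h.rcoeff_deg hl, ← sum_pair (f := fun χ => rcoeff K l χ * (deg χ : ℤ)) hpq, ← hS]
  exact sum_filter_of_ne fun χ _ h0 h1 => h0 (by rw [h1, zero_mul])

theorem Setting.other_point (h : Setting t K s) {l : IrrCharacter K} (hl : l ≠ triv K)
    (hw : wt l = 1) (z : IrrCharacter G) : ∃ x, x ≠ z ∧ rcoeff K l x ≠ 0 := by
  have : 1 < (univ.filter fun χ : IrrCharacter G => rcoeff K l χ ≠ 0).card := by
    rw [(h.rcoeff_bound hl).2, hw]; norm_num
  obtain ⟨x, hx, hne⟩ := exists_mem_ne this z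
  exact ⟨x, hne, by simpa using hx⟩

/-- Value at `t` of a character, from the coefficients. -/
theorem Setting.value_t (h : Setting t K s) (χ : IrrCharacter G) :
    (χ : G → ℂ) t = -∑ l : IrrCharacter K, (coeff K l χ : ℂ) * (l : K → ℂ) ⟨t, h.tK⟩ :=
  h.value_mem χ (x := ⟨t, h.tK⟩) fun e => h.t_ne (congrArg Subtype.val e)

/-- The weighted sum in terms of the reduced coefficients. -/
theorem Setting.rweighted (h : Setting t K s) {l : IrrCharacter K} (hl : l ≠ triv K) :
    1 + ∑ χ : IrrCharacter G, (rcoeff K l χ : ℂ) * (χ : G → ℂ) t ^ 2 / (deg χ : ℂ) =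
      4 * (Nat.card K : ℂ) ^ 3 / (Nat.card G : ℂ) := by
  rw [← h.weighted hl, ← sum_erase_add univ _ (mem_univ (triv G))]
  conv_rhs => rw [← sum_erase_add univ _ (mem_univ (triv G))]
  rw [h.coeff_triv hl, deg_triv, triv_apply, triv_apply, rcoeff, if_pos rfl]
  rw [sum_congr rfl fun χ hχ => by
    rw [rcoeff, if_neg (ne_of_mem_erase hχ), ← deg_spec]]
  push_cast; ring

/-- Three pair classes force a common constituent of all pairs. -/
theorem Setting.pairs_common (h : Setting t K s) :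
    ∃ z : IrrCharacter G, z ≠ triv G ∧ ∃ d : ℤ, (d = 1 ∨ d = -1) ∧
      (∀ l : IrrCharacter K, l ≠ triv K → wt l = 1 → rcoeff K l z = d) ∧
      (∀ l0 : IrrCharacter K, l0 ≠ triv K → conjPerm l0 = l0 →
        (rcoeff K l0 z = d ∨ ∃ l m : IrrCharacter K, l ≠ triv K ∧ m ≠ triv K ∧ wt l = 1 ∧ wt m = 1 ∧
          l ≠ m ∧ l ≠ conjPerm m ∧ rcoeff K l0 z = 0)) := by
  obtain ⟨l0, hl0, hl0r, hl0u⟩ := h.exists_real
  by_cases hp : ∃ l : IrrCharacter K, l ≠ triv K ∧ wt l = 1
  · obtain ⟨l1, hl1, hw1⟩ := hp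
    have hne : ∀ l, l ≠ triv K → wt l = 1 → l ≠ l0 ∧ l ≠ conjPerm l0 := fun l _ hw => by
      constructor <;> intro e <;> rw [e] at hw
      · rw [wt, if_pos hl0r] at hw; omega
      · rw [wt_conj, wt, if_pos hl0r] at hw; omega
    by_cases hp2 : ∃ l : IrrCharacter K, l ≠ triv K ∧ wt l = 1 ∧ l ≠ l1 ∧ l ≠ conjPerm l1
    · obtain ⟨l2, hl2, hw2, e1, e2⟩ := hp2
      obtain ⟨z, hz2, hz12, -⟩ := h.meet hl2 hl1 hw2 e1 e2
      set d := rcoeff K l2 z with hd
      have hz1 : rcoeff K l1 z ≠ 0 := hz12 ▸ hz2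
      have hall : ∀ l, l ≠ triv K → wt l = 1 → rcoeff K l z = d := by
        intro l hl hw
        by_cases a1 : l = l1
        · rw [a1]; exact hz12.symm
        by_cases a1' : l = conjPerm l1
        · rw [a1', h.rcoeff_conj]; exact hz12.symm
        by_cases a2 : l = l2
        · rw [a2]
        by_cases a2' : l = conjPerm l2
        · rw [a2', h.rcoeff_conj]
        obtain ⟨p, hp, hpe, -⟩ := h.meet hl hl1 hw a1 a1'
        obtain ⟨r, hr, hre, -⟩ := h.meet hl hl2 hw a2 a2'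
        by_cases epz : p = z
        · rw [← epz, hpe, epz]; exact hz12.symm
        by_cases erz : r = z
        · rw [← erz, hre, erz]
        exfalso
        have hpr : p ≠ r := by
          intro e
          subst e
          obtain ⟨_, _, _, huniq⟩ := h.meet hl2 hl1 hw2 e1 e2
          exact epz ((huniq p (hre ▸ hr) (hpe ▸ hp)).trans (huniq z hz2 hz1).symm)
        obtain ⟨-, s1⟩ := h.two_support hl1 hw1 hz1 (hpe ▸ hp) (Ne.symm epz)
        obtain ⟨-, s2⟩ := h.two_support hl2 hw2 hz2 (hre ▸ hr) (Ne.symm erz)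
        obtain ⟨-, s3⟩ := h.two_support hl hw hp hr hpr
        rw [hpe, hre] at s3
        rw [← hz12] at s1
        have h2 : 2 * (rcoeff K l2 z * (deg z : ℤ)) = -1 := by linarith
        generalize rcoeff K l2 z * (deg z : ℤ) = Z at h2
        omega
      refine ⟨z, (rcoeff_ne hz2).1, d, ((h.rcoeff_bound hl2).1 z).resolve_left hz2, hall,
        fun m hm hmr => ?_⟩
      obtain rfl := hl0u m hm hmr
      by_cases hz0 : rcoeff K m z = 0
      · exact Or.inr ⟨l2, l1, hl2, hl1, hw2, hw1, e1, e2, hz0⟩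
      · refine Or.inl ?_
        obtain ⟨p, hp, hpe, hu⟩ := h.meet hl2 hl0 hw2 (hne l2 hl2 hw2).1 (hne l2 hl2 hw2).2
        rw [hu z hz2 hz0, ← hpe, ← hu z hz2 hz0]
    · push_neg at hp2
      obtain ⟨z, hz, hze, -⟩ := h.meet hl1 hl0 hw1 (hne l1 hl1 hw1).1 (hne l1 hl1 hw1).2
      refine ⟨z, (rcoeff_ne hz).1, _, ((h.rcoeff_bound hl1).1 z).resolve_left hz,
        fun l hl hw => ?_, fun m hm hmr => ?_⟩
      · by_cases a1 : l = l1
        · rw [a1]
        · rw [hp2 l hl hw a1, h.rcoeff_conj]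
      · obtain rfl := hl0u m hm hmr
        exact Or.inl hze.symm
  · push_neg at hp
    have : 0 < (univ.filter fun χ : IrrCharacter G => rcoeff K l0 χ ≠ 0).card := by
      rw [(h.rcoeff_bound hl0).2]; omega
    obtain ⟨z, hz⟩ := card_pos.mp this
    have hz' : rcoeff K l0 z ≠ 0 := by simpa using hz
    refine ⟨z, (rcoeff_ne hz').1, _, ((h.rcoeff_bound hl0).1 z).resolve_left hz',
      fun l hl hw => absurd hw (hp l hl), fun m hm hmr => ?_⟩
    rw [hl0u m hm hmr]
    exact Or.inl rfl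

set_option maxHeartbeats 1600000 in
/-- The common constituent occurs in all the `(1 - λ)^G`. -/
theorem Setting.common (h : Setting t K s) :
    ∃ z : IrrCharacter G, z ≠ triv G ∧ ∃ d : ℤ, (d = 1 ∨ d = -1) ∧
      ∀ l : IrrCharacter K, l ≠ triv K → rcoeff K l z = d := by
  obtain ⟨z, hz, d, hd, hall, hreal⟩ := h.pairs_common
  obtain ⟨l0, hl0, hl0r, hl0u⟩ := h.exists_real
  refine ⟨z, hz, d, hd, fun m hm => ?_⟩
  rcases h.wt_cases m with ⟨-, hw⟩ | ⟨hmr, -⟩
  · exact hall m hm hw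
  obtain rfl := hl0u m hm hmr
  rcases hreal m hm hmr with e | ⟨l1, l2, hl1, hl2, hw1, hw2, e1, e2, hz0⟩
  · exact e
  exfalso
  have hw0 : wt m = 2 := if_pos hmr
  have hne : ∀ l, wt l = 1 → l ≠ m ∧ l ≠ conjPerm m := fun l hw => by
    constructor <;> intro e <;> rw [e] at hw
    · omega
    · rw [wt_conj] at hw; omega
  have hd0 : d ≠ 0 := by omega
  -- the second constituent of a pair
  have snd : ∀ l, l ≠ triv K → wt l = 1 → ∃ x, x ≠ z ∧ rcoeff K l x ≠ 0 ∧
      rcoeff K l x = rcoeff K m x ∧ (∀ χ, rcoeff K l χ ≠ 0 → χ = z ∨ χ = x) ∧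
      rcoeff K l x * (deg x : ℤ) = -1 - d * (deg z : ℤ) := by
    intro l hl hw
    obtain ⟨x, hx, hxe, -⟩ := h.meet hl hm hw (hne l hw).1 (hne l hw).2
    have hxz : x ≠ z := fun e => hx (by rw [hxe, e, hz0])
    obtain ⟨hs, hd'⟩ := h.two_support hl hw (hall l hl hw ▸ hd0) hx hxz.symm
    refine ⟨x, hxz, hx, hxe, hs, ?_⟩
    rw [hall l hl hw] at hd'
    linarith
  have sep : ∀ l l', l ≠ triv K → l' ≠ triv K → wt l = 1 → wt l' = 1 → l ≠ l' → l ≠ conjPerm l' →
      ∀ x, x ≠ z → rcoeff K l x ≠ 0 → rcoeff K l' x = 0 := by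
    intro l l' hl hl' hw hw' a b x hxz hx
    by_contra hx'
    obtain ⟨p, -, -, hu⟩ := h.meet hl hl' hw a b
    exact hxz ((hu x hx hx').trans (hu z (hall l hl hw ▸ hd0) (hall l' hl' hw' ▸ hd0)).symm)
  obtain ⟨x1, x1z, hx1, hx1e, hs1, hd1⟩ := snd l1 hl1 hw1
  obtain ⟨x2, x2z, hx2, hx2e, hs2, hd2⟩ := snd l2 hl2 hw2
  have h12 : x1 ≠ x2 := fun e => hx2 (e ▸ sep l1 l2 hl1 hl2 hw1 hw2 e1 e2 x1 x1z hx1)
  by_cases hp3 : ∃ l : IrrCharacter K, l ≠ triv K ∧ wt l = 1 ∧ l ≠ l1 ∧ l ≠ conjPerm l1 ∧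
      l ≠ l2 ∧ l ≠ conjPerm l2
  · obtain ⟨l3, hl3, hw3, a1, a1', a2, a2'⟩ := hp3
    obtain ⟨x3, x3z, hx3, hx3e, hs3, hd3⟩ := snd l3 hl3 hw3
    have h13 : x3 ≠ x1 := fun e => hx1 (e ▸ sep l3 l1 hl3 hl1 hw3 hw1 a1 a1' x3 x3z hx3)
    have h23 : x3 ≠ x2 := fun e => hx2 (e ▸ sep l3 l2 hl3 hl2 hw3 hw2 a2 a2' x3 x3z hx3)
    have hS : (univ.filter fun χ : IrrCharacter G => rcoeff K m χ ≠ 0) = {x1, x2, x3} := by
      refine (eq_of_subset_of_card_le ?_ ?_).symm
      · intro χ hχ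
        simp only [mem_insert, mem_singleton] at hχ
        simp only [mem_filter, mem_univ, true_and]
        rcases hχ with rfl | rfl | rfl
        exacts [hx1e ▸ hx1, hx2e ▸ hx2, hx3e ▸ hx3]
      · rw [(h.rcoeff_bound hm).2, hw0, card_insert_of_notMem (by simp [h12, h13.symm]),
          card_pair h23.symm]
    have := h.rcoeff_deg hm
    rw [← sum_filter_of_ne (p := fun χ => rcoeff K m χ ≠ 0) (fun χ _ h0 h1 => h0 (by
      rw [h1, zero_mul])), hS, sum_insert (by simp [h12, h13.symm]), sum_pair h23.symm,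
      ← hx1e, ← hx2e, ← hx3e, hd1, hd2, hd3] at this
    omega
  · push_neg at hp3
    -- only two pair classes: compare the values at `t`
    set τ : K := ⟨t, h.tK⟩
    have hcl1 : conjPerm l1 ≠ l1 := by
      rcases h.wt_cases l1 with ⟨e, -⟩ | ⟨-, e⟩
      exacts [e, by omega]
    have hcl2 : conjPerm l2 ≠ l2 := by
      rcases h.wt_cases l2 with ⟨e, -⟩ | ⟨-, e⟩
      exacts [e, by omega]
    have hcases : ∀ l : IrrCharacter K, l = triv K ∨ l = m ∨ l = l1 ∨ l = conjPerm l1 ∨ l = l2 ∨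
        l = conjPerm l2 := by
      intro l
      by_cases a : l = triv K
      · exact Or.inl a
      rcases h.wt_cases l with ⟨-, hw⟩ | ⟨er, -⟩
      · refine Or.inr (Or.inr ?_)
        by_cases b1 : l = l1
        · exact Or.inl b1
        by_cases b2 : l = conjPerm l1
        · exact Or.inr (Or.inl b2)
        by_cases b3 : l = l2
        · exact Or.inr (Or.inr (Or.inl b3))
        exact Or.inr (Or.inr (Or.inr (hp3 l a hw b1 b2 b3)))
      · exact Or.inr (Or.inl (hl0u l a er))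
    have hconjt : ∀ l : IrrCharacter K, (conjPerm l : K → ℂ) τ = (l : K → ℂ) τ := fun l => by
      rw [conjPerm_apply]
      rcases h.sign_t l with e | e <;> rw [e] <;> simp
    have hsum : ∀ f : IrrCharacter K → ℂ, ∑ l, f l = f (triv K) + f m + f l1 + f (conjPerm l1) +
        f l2 + f (conjPerm l2) := by
      intro f
      have hu : (univ : Finset (IrrCharacter K)) =
          {triv K, m, l1, conjPerm l1, l2, conjPerm l2} := by
        ext l; simpa using hcases l
      have a1 : l2 ≠ conjPerm l1 := fun e => e2 (by rw [e, conjPerm_conjPerm])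
      have a2 : conjPerm l1 ≠ conjPerm l2 := fun e => e1 (conjPerm.injective e)
      rw [hu, sum_insert (by
          simp only [mem_insert, mem_singleton]
          push_neg
          exact ⟨hm.symm, hl1.symm, (conjPerm_ne_triv hl1).symm, hl2.symm,
            (conjPerm_ne_triv hl2).symm⟩),
        sum_insert (by
          simp only [mem_insert, mem_singleton]
          push_neg
          exact ⟨(hne l1 hw1).1.symm, (hne _ (by rw [wt_conj, hw1])).1.symm,
            (hne l2 hw2).1.symm, (hne _ (by rw [wt_conj, hw2])).1.symm⟩),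
        sum_insert (by simp [hcl1.symm, e1, e2]),
        sum_insert (by simp [a1.symm, a2]),
        sum_pair hcl2.symm]
      ring
    have hval : ∀ (l l' : IrrCharacter K) (x : IrrCharacter G), l ≠ triv K → x ≠ triv G →
        rcoeff K l' x = 0 → rcoeff K l x = rcoeff K m x →
        (∀ f : IrrCharacter K → ℂ, ∑ u, f u = f (triv K) + f m + f l + f (conjPerm l) + f l' +
          f (conjPerm l')) →
        (x : G → ℂ) t = -(rcoeff K l x : ℂ) * ((m : K → ℂ) τ + 2 * (l : K → ℂ) τ) := by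
      intro l l' x _ hx h0 he hsum'
      have hc : ∀ u, coeff K u x = rcoeff K u x := fun u => (if_neg hx).symm
      rw [h.value_t x, hsum', h.coeff_triv_left, h.coeff_conj, h.coeff_conj, hc l', h0, hc m,
        ← he, hc l, hconjt]
      push_cast; ring
    have hv1 := hval l1 l2 x1 hl1 (rcoeff_ne hx1).1
      (sep l1 l2 hl1 hl2 hw1 hw2 e1 e2 x1 x1z hx1) hx1e hsum
    have hv2 := hval l2 l1 x2 hl2 (rcoeff_ne hx2).1
      (sep l2 l1 hl2 hl1 hw2 hw1 e1.symm (fun e => e2 (by rw [e, conjPerm_conjPerm])) x2 x2z hx2)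
      hx2e (fun f => by rw [hsum f]; ring)
    have hW : ∀ l x, l ≠ triv K → rcoeff K l z = d → x ≠ z → rcoeff K l x ≠ 0 →
        (∀ χ, rcoeff K l χ ≠ 0 → χ = z ∨ χ = x) →
        (rcoeff K l x : ℂ) * (x : G → ℂ) t ^ 2 / (deg x : ℂ) =
          4 * (Nat.card K : ℂ) ^ 3 / (Nat.card G : ℂ) - 1 -
            (d : ℂ) * (z : G → ℂ) t ^ 2 / (deg z : ℂ) := by
      intro l x hl hlz hxz _ hs
      rw [← h.rweighted hl, ← hlz]
      rw [sum_eq_add_of_mem z x (mem_univ _) (mem_univ _) hxz.symm fun c _ hc => by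
        have : rcoeff K l c = 0 := by_contra fun e => (hs c e).elim hc.1 hc.2
        rw [this]; simp]
      ring
    have hq := (hW l1 x1 hl1 (hall l1 hl1 hw1) x1z hx1 hs1).trans
      (hW l2 x2 hl2 (hall l2 hl2 hw2) x2z hx2 hs2).symm
    have hS : ∀ (l : IrrCharacter K) (x : IrrCharacter G), l ≠ triv K →
        (rcoeff K l x : ℂ) ^ 2 = 1 ∨ rcoeff K l x = 0 := fun l x hl => by
      rcases (h.rcoeff_bound hl).1 x with e | e | e
      · exact Or.inr e
      all_goals exact Or.inl (by rw [e]; norm_num)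
    have q1 := (hS l1 x1 hl1).resolve_right hx1
    have q2 := (hS l2 x2 hl2).resolve_right hx2
    have d1 : (rcoeff K l1 x1 : ℂ) * (deg x1 : ℂ) = -1 - (d : ℂ) * (deg z : ℂ) := by
      exact_mod_cast hd1
    have d2 : (rcoeff K l2 x2 : ℂ) * (deg x2 : ℂ) = -1 - (d : ℂ) * (deg z : ℂ) := by
      exact_mod_cast hd2
    have n1 : (deg x1 : ℂ) ≠ 0 := Nat.cast_ne_zero.mpr (deg_ne_zero x1)
    have n2 : (deg x2 : ℂ) ≠ 0 := Nat.cast_ne_zero.mpr (deg_ne_zero x2)
    have hr1 : (rcoeff K l1 x1 : ℂ) ≠ 0 := Int.cast_ne_zero.mpr hx1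
    have hY : (-1 - (d : ℂ) * (deg z : ℂ)) ≠ 0 := d1 ▸ mul_ne_zero hr1 n1
    have hsq : ((m : K → ℂ) τ + 2 * (l1 : K → ℂ) τ) ^ 2 =
        ((m : K → ℂ) τ + 2 * (l2 : K → ℂ) τ) ^ 2 := by
      have key : ∀ (r v n : ℂ), r ^ 2 = 1 → r * n = -1 - (d : ℂ) * (deg z : ℂ) → n ≠ 0 →
          r * (-r * v) ^ 2 / n = v ^ 2 / (-1 - (d : ℂ) * (deg z : ℂ)) := by
        intro r v n hr hrn hn
        rw [← hrn, mul_pow, neg_sq, hr, one_mul]
        rw [div_eq_div_iff hn (hrn ▸ hY)]
        linear_combination v ^ 2 * n * hr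
      rw [hv1, hv2, key _ _ _ q1 d1 n1, key _ _ _ q2 d2 n2, div_left_inj' hY] at hq
      exact hq
    have h0 := h.sum_t
    rw [hsum, triv_apply, hconjt, hconjt] at h0
    rcases h.sign_t m with a | a <;> rcases h.sign_t l1 with b | b <;>
      rcases h.sign_t l2 with c | c <;>
      rw [a, b, c] at h0 hsq <;> first | (norm_num at h0; done) | (norm_num at hsq)

end CfsgLib.BSW
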